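import Cfsg.Agent.Lib.LocalEven.FFPMin.Main

/-!
From the faithful module without fixed points, generated by commutators, to an arbitrary module.
-/

set_option autoImplicit false
set_option linter.unusedSectionVars false

namespace CfsgLib.LocalEven.FFPMin

open CfsgLib.LocalEven.OffenderSL2 (fixP)
open scoped _root_.Classical Pointwise

section Basic

variable (p : ℕ) (P : Type*) [Group P] (V : Type*) [AddCommGroup V] [DistribMulAction P V]

/-- The fixed points of the residual. -/
abbrev cfixV : AddSubgroup V := fixP V (Cfsg.pResidual p P)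

/-- The commutators with the residual and its fixed points. -/
def hat : AddSubgroup V := moveP V (Cfsg.pResidual p P) ⊔ cfixV p P V

/-- The section. -/
abbrev Nq := ↥(hat p P V) ⧸ (cfixV p P V).addSubgroupOf (hat p P V)

variable {p P V}

theorem cj_residual (g : P) : cj g (Cfsg.pResidual p P) = Cfsg.pResidual p P := by
  haveI := Transfer.pResidual_characteristic (G := P) (p := p)
  exact Subgroup.characteristic_iff_map_eq.1 this (MulAut.conj g)

theorem smul_mem_cfixV (g : P) {v : V} (hv : v ∈ cfixV p P V) : g • v ∈ cfixV p P V :=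
  smul_mem_fixP_of_normalizes (cj_residual g) hv

theorem smul_mem_hat (g : P) {v : V} (hv : v ∈ hat p P V) : g • v ∈ hat p P V := by
  obtain ⟨m, hm, c, hc, rfl⟩ := AddSubgroup.mem_sup.1 hv
  rw [smul_add]
  refine add_mem (AddSubgroup.mem_sup_left ?_) (AddSubgroup.mem_sup_right (smul_mem_cfixV g hc))
  have := smul_mem_moveP_cj (g := g) hm
  rwa [cj_residual] at this

/-- The map to the section. -/
abbrev mk' : ↥(hat p P V) →+ Nq p P V := QuotientAddGroup.mk' _

variable (p P V) in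
/-- The restriction of the action. -/
def hatHom (g : P) : ↥(hat p P V) →+ ↥(hat p P V) where
  toFun v := ⟨g • (v : V), smul_mem_hat g v.2⟩
  map_zero' := Subtype.ext (smul_zero g)
  map_add' v w := Subtype.ext (smul_add g (v : V) (w : V))

theorem hatHom_mem (g : P) : (cfixV p P V).addSubgroupOf (hat p P V) ≤
    ((cfixV p P V).addSubgroupOf (hat p P V)).comap (hatHom p P V g) := fun v hv =>
  smul_mem_cfixV (v := (v : V)) g hv

instance qAct : DistribMulAction P (Nq p P V) where
  smul g := QuotientAddGroup.map _ _ (hatHom p P V g) (hatHom_mem g)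
  one_smul q := QuotientAddGroup.induction_on q fun n =>
    congrArg QuotientAddGroup.mk (Subtype.ext (one_smul P (n : V)))
  mul_smul g h q := QuotientAddGroup.induction_on q fun n =>
    congrArg QuotientAddGroup.mk (Subtype.ext (mul_smul g h (n : V)))
  smul_zero g := map_zero (QuotientAddGroup.map _ _ (hatHom p P V g) (hatHom_mem g))
  smul_add g := map_add (QuotientAddGroup.map _ _ (hatHom p P V g) (hatHom_mem g))

theorem smul_mk' (g : P) (n : ↥(hat p P V)) : g • mk' n = mk' (hatHom p P V g n) := rfl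

theorem mk'_eq_zero {n : ↥(hat p P V)} : mk' n = 0 ↔ (n : V) ∈ cfixV p P V := QuotientAddGroup.eq_zero_iff n

theorem mk'_fixed {X : Subgroup P} {n : ↥(hat p P V)} :
    mk' n ∈ fixP (Nq p P V) X ↔ ∀ g ∈ X, g • (n : V) - n ∈ cfixV p P V := by
  constructor
  · intro h g hg
    have := h g hg
    rw [smul_mk', ← sub_eq_zero, ← map_sub] at this
    exact mk'_eq_zero.1 this
  · intro h g hg
    rw [smul_mk', ← sub_eq_zero, ← map_sub]
    exact mk'_eq_zero.2 (h g hg)

theorem pow_move {X : AddSubgroup V} {g : P} {v : V} (h : ∀ k : ℕ, g • (g ^ k • v - v) - (g ^ k • v - v) ∈ X)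
    (k : ℕ) : g ^ k • v - v - k • (g • v - v) ∈ X := by
  induction k with
  | zero => rw [pow_zero, one_smul, sub_self, zero_nsmul, sub_zero]; exact zero_mem _
  | succ k ih =>
    have := add_mem (h k) ih
    rw [smul_sub, ← mul_smul, ← pow_succ'] at this
    convert this using 1
    rw [succ_nsmul]
    abel

/-- An element of order prime to `p` moving a vector by a fixed amount, modulo a subgroup. -/
theorem coprime_move [hp : Fact p.Prime] (expV : ∀ v : V, p • v = 0) {X : AddSubgroup V} {g : P}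
    (hg : (orderOf g).Coprime p) {v : V}
    (h : ∀ k : ℕ, g • (g ^ k • v - v) - (g ^ k • v - v) ∈ X) : g • v - v ∈ X := by
  have h1 := pow_move h (orderOf g)
  rw [pow_orderOf_eq_one, one_smul, sub_self, zero_sub, neg_mem_iff] at h1
  obtain ⟨j, -, hj⟩ := Nat.exists_mul_mod_eq_one_of_coprime hg hp.out.one_lt
  have h2 := nsmul_mem h1 j
  rwa [← mul_nsmul, nsmul_mod expV, hj, one_nsmul] at h2

end Basic

variable {p : ℕ} [hp : Fact p.Prime] {P : Type*} [Group P] [Finite P] {V : Type*} [AddCommGroup V]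
  [DistribMulAction P V] [Finite V]

theorem residual_le_of_coprime {X : Subgroup P} (h : ∀ g : P, (orderOf g).Coprime p → g ∈ X) :
    Cfsg.pResidual p P ≤ X :=
  (Subgroup.closure_le _).2 h

/-- A vector moved by the residual into its fixed points is fixed. -/
theorem mem_cfixV_of_move (expV : ∀ v : V, p • v = 0) {v : V}
    (h : ∀ g ∈ Cfsg.pResidual p P, g • v - v ∈ cfixV p P V) : v ∈ cfixV p P V := by
  intro g hg
  refine (residual_le_of_coprime (X := MulAction.stabilizer P v) ?_) hg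
  intro x hx
  have hxO : x ∈ Cfsg.pResidual p P := Transfer.mem_pResidual_of_coprime hx
  refine sub_eq_zero.1 (AddSubgroup.mem_bot.1 (coprime_move expV (X := ⊥) hx fun k => ?_))
  rw [AddSubgroup.mem_bot, sub_eq_zero]
  exact h _ (pow_mem hxO k) x hxO

/-- The commutators with the residual are generated by iterated ones. -/
theorem moveP_le_iterated (expV : ∀ v : V, p • v = 0) {X : AddSubgroup V}
    (h : ∀ g ∈ Cfsg.pResidual p P, ∀ n ∈ moveP V (Cfsg.pResidual p P), g • n - n ∈ X) :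
    moveP V (Cfsg.pResidual p P) ≤ X :=
  moveP_le.2 (residual_le_of_coprime fun x hx v => coprime_move expV hx fun k =>
    h x (Transfer.mem_pResidual_of_coprime hx) _ (move_mem (pow_mem (Transfer.mem_pResidual_of_coprime hx) k) v))

theorem sub_mem_hat {g : P} (hg : g ∈ Cfsg.pResidual p P) (v : V) : g • v - v ∈ hat p P V :=
  AddSubgroup.mem_sup_left (move_mem hg v)

variable (V) in
/-- The hypotheses on the module. -/
structure VData (p : ℕ) (P : Type*) [Group P] (V : Type*) [AddCommGroup V] [DistribMulAction P V] : Prop where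
  hmin : Cfsg.IsPMinimal p P
  core : Cfsg.pCore p P = ⊥
  faith : ∀ g : P, (∀ v : V, g • v = v) → g = 1
  expV : ∀ v : V, p • v = 0

namespace VData

variable (H : VData p P V)
include H

theorem exists_max (T : Sylow p P) : ∃ M : Subgroup P, IsCoatom M ∧ (T : Subgroup P) ≤ M := by
  obtain ⟨M, hM, -⟩ := (H.hmin T).2
  exact ⟨M, hM⟩

theorem residual_notM (T : Sylow p P) {M : Subgroup P} (hM : IsCoatom M) (hTM : (T : Subgroup P) ≤ M) :
    ¬ Cfsg.pResidual p P ≤ M := PMin.residual_not_le H.hmin T hM hTM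

theorem faith_q {g : P} (hg : ∀ q : Nq p P V, g • q = q) : g = 1 := by
  set K : Subgroup P :=
    { carrier := {g | ∀ q : Nq p P V, g • q = q}
      one_mem' := fun q => one_smul P q
      mul_mem' := fun {a b} ha hb q => by rw [mul_smul, hb, ha]
      inv_mem' := fun {a} ha q => by rw [inv_smul_eq_iff, ha] } with hK
  have hKn : K.Normal := ⟨fun a ha b q => by rw [mul_smul, mul_smul, ha, smul_inv_smul]⟩
  have hKmem : ∀ a ∈ K, ∀ n ∈ hat p P V, a • n - n ∈ cfixV p P V := fun a ha n hn =>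
    (mk'_fixed (X := Subgroup.zpowers a) (n := ⟨n, hn⟩)).1 (fun b hb =>
      (Subgroup.zpowers_le.2 ha hb : b ∈ K) _) a (Subgroup.mem_zpowers a)
  obtain ⟨T⟩ : Nonempty (Sylow p P) := inferInstance
  obtain ⟨M, hM, hTM⟩ := H.exists_max T
  haveI := hKn
  have hKM : K ≤ M := (PMin.normal_dichotomy H.hmin T hM hTM K).resolve_left fun hle => by
    refine H.residual_notM T hM hTM fun a ha => ?_
    suffices a = 1 by rw [this]; exact one_mem _
    refine H.faith a fun v => (mem_cfixV_of_move H.expV fun b hb => ?_ : v ∈ cfixV p P V) a ha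
    exact mem_cfixV_of_move H.expV fun c hc => hKmem c (hle hc) _ (sub_mem_hat hb v)
  have hcop : ∀ a ∈ K, (orderOf a).Coprime p := by
    intro a ha
    rw [Transfer.coprime_orderOf_iff]
    intro hdvd
    set x := a ^ (orderOf a / p)
    have hx : orderOf x = p := by
      rw [orderOf_pow_of_dvd (Nat.div_ne_zero_iff.2 ⟨hp.out.ne_zero, Nat.le_of_dvd (orderOf_pos a) hdvd⟩)
        (Nat.div_dvd_of_dvd hdvd)]
      exact Nat.div_div_self hdvd (orderOf_pos a).ne'
    have hpx : IsPGroup p (Subgroup.zpowers x) := IsPGroup.of_card (n := 1) (by rw [Nat.card_zpowers, hx, pow_one])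
    obtain ⟨S, hS⟩ := hpx.exists_le_sylow
    obtain ⟨c, hc⟩ := MulAction.exists_smul_eq P S T
    have h1 : c * x * c⁻¹ ∈ (T : Subgroup P) ⊓ K := by
      refine ⟨?_, hKn.conj_mem _ (pow_mem ha _) c⟩
      rw [← hc, Sylow.coe_subgroup_smul]
      exact Subgroup.smul_mem_pointwise_smul x (MulAut.conj c) _ (hS (Subgroup.mem_zpowers x))
    have h2 := PMin.normal_inf_sylow_le H.hmin T hM hTM K hKM h1
    rw [H.core, Subgroup.mem_bot, conj_eq_one_iff] at h2
    rw [h2, orderOf_one] at hx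
    exact hp.out.ne_one hx.symm
  have hgO : g ∈ Cfsg.pResidual p P := Transfer.mem_pResidual_of_coprime (hcop g hg)
  have hfix : ∀ n ∈ hat p P V, g • n = n := fun n hn => sub_eq_zero.1 <| AddSubgroup.mem_bot.1 <|
    coprime_move H.expV (X := ⊥) (hcop g hg) fun k => by
      rw [AddSubgroup.mem_bot, sub_eq_zero]
      exact hKmem _ (pow_mem (show g ∈ K from hg) k) n hn g hgO
  refine H.faith g fun v => sub_eq_zero.1 <| AddSubgroup.mem_bot.1 <|
    coprime_move H.expV (X := ⊥) (hcop g hg) fun k => ?_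
  rw [AddSubgroup.mem_bot, sub_eq_zero]
  exact hfix _ (sub_mem_hat (pow_mem hgO k) v)

/-- The model. -/
def model (T : Sylow p P) (M : Subgroup P) (hM : IsCoatom M) (hTM : (T : Subgroup P) ≤ M) :
    Model p P (Nq p P V) where
  T := T
  M := M
  hmin := H.hmin
  coatom := hM
  le := hTM
  core := H.core
  faith _ hg := H.faith_q hg
  expN q := QuotientAddGroup.induction_on q fun n => congrArg QuotientAddGroup.mk (Subtype.ext (H.expV (n : V)))
  cfix q hq := by
    obtain ⟨n, rfl⟩ := QuotientAddGroup.mk'_surjective _ q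
    exact mk'_eq_zero.2 (mem_cfixV_of_move H.expV (mk'_fixed.1 hq))
  full := by
    set Y := moveP (Nq p P V) (Cfsg.pResidual p P)
    set X := (Y.comap mk').map (hat p P V).subtype
    have hle : moveP V (Cfsg.pResidual p P) ≤ X := moveP_le_iterated H.expV fun g hg n hn => by
      refine ⟨hatHom p P V g ⟨n, AddSubgroup.mem_sup_left hn⟩ - ⟨n, AddSubgroup.mem_sup_left hn⟩, ?_, rfl⟩
      show mk' (_ - _) ∈ Y
      rw [map_sub, ← smul_mk']
      exact move_mem hg _
    refine eq_top_iff.2 fun q _ => ?_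
    obtain ⟨⟨n, hn⟩, rfl⟩ := QuotientAddGroup.mk'_surjective _ q
    obtain ⟨m, hm, c, hc, rfl⟩ := AddSubgroup.mem_sup.1 hn
    obtain ⟨m', hm', e⟩ := hle hm
    have e' : mk' (⟨m + c, hn⟩ : ↥(hat p P V)) = mk' m' := by
      rw [← sub_eq_zero, ← map_sub, mk'_eq_zero]
      show m + c - (m' : V) ∈ cfixV p P V
      rw [show (m' : V) = m from e, add_sub_cancel_left]
      exact hc
    exact e' ▸ hm'

theorem card_hat : Nat.card ↥(hat p P V) =
    Nat.card (Nq p P V) * Nat.card ((cfixV p P V).addSubgroupOf (hat p P V)) :=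
  AddSubgroup.card_eq_card_quotient_mul_card_addSubgroup _

theorem card_pre (X : AddSubgroup (Nq p P V)) :
    Nat.card (X.comap mk') = Nat.card X * Nat.card ((cfixV p P V).addSubgroupOf (hat p P V)) := by
  have h1 := (X.comap mk').card_mul_index
  rw [AddSubgroup.index_comap_of_surjective _ (QuotientAddGroup.mk'_surjective _), H.card_hat,
    ← X.card_mul_index] at h1
  refine Nat.eq_of_mul_eq_mul_right (Nat.pos_of_ne_zero (AddSubgroup.index_ne_zero_of_finite (H := X)))
    (h1.trans ?_)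
  ring

theorem fix_le_pre (B : Subgroup P) :
    (fixP V B).addSubgroupOf (hat p P V) ≤ (fixP (Nq p P V) B).comap mk' := fun n hn =>
  mk'_fixed.2 fun b hb => by
    have e : b • (n : V) = n := hn b hb
    rw [e, sub_self]
    exact zero_mem _

theorem off_hat {B : Subgroup P} (hB : IsOff V p B) : Nat.card ↥(hat p P V) ≤
    Nat.card B * Nat.card ((fixP V B).addSubgroupOf (hat p P V)) := by
  have h := OffenderSL2.Hyp.card_sup_mul (X := hat p P V) (Y := fixP V B)
  have e : Nat.card ((fixP V B).addSubgroupOf (hat p P V)) = Nat.card ↥(hat p P V ⊓ fixP V B : AddSubgroup V) := by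
    rw [← AddSubgroup.card_map_of_injective (hat p P V).subtype_injective, AddSubgroup.addSubgroupOf_map_subtype,
      inf_comm]
  rw [e]
  refine Nat.le_of_mul_le_mul_right ?_ (Nat.card_pos (α := fixP V B))
  rw [← h, mul_right_comm]
  exact Nat.mul_le_mul_right _ ((AddSubgroup.card_le_card_addGroup _).trans hB.ineq)

theorem off_q {B : Subgroup P} (hB : IsOff V p B) : IsOff (Nq p P V) p B where
  ne_bot := hB.ne_bot
  comm := hB.comm
  exp := hB.exp
  ineq := by
    refine Nat.le_of_mul_le_mul_right ?_ (Nat.card_pos (α := (cfixV p P V).addSubgroupOf (hat p P V)))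
    rw [← H.card_hat, mul_assoc, ← H.card_pre]
    exact (H.off_hat hB).trans (Nat.mul_le_mul_left _ (AddSubgroup.card_le_of_le (H.fix_le_pre B)))

omit H in
theorem exists_conj_into {B : Subgroup P} (hB : IsOff V p B) (T : Sylow p P) :
    ∃ g, cj g B ≤ (T : Subgroup P) := by
  obtain ⟨S, hS⟩ := hB.isPGroup.exists_le_sylow
  obtain ⟨g, hg⟩ := MulAction.exists_smul_eq P S T
  exact ⟨g, (cj_mono hS).trans (le_of_eq (by rw [← hg, Sylow.coe_subgroup_smul]; rfl))⟩

end VData

variable (p V) in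
/-- A subgroup lifting well. -/
structure Good (A : Subgroup P) : Prop where
  fixed : ∀ n ∈ hat p P V, (∀ a ∈ A, a • n - n ∈ cfixV p P V) → n ∈ fixP V A
  cover : hat p P V ⊔ fixP V A = ⊤

theorem Good.cfix_le {A : Subgroup P} (h : Good p V A) : cfixV p P V ≤ fixP V A := fun c hc =>
  h.fixed c (AddSubgroup.mem_sup_right hc) fun a _ => sub_mem (smul_mem_cfixV a hc) hc

theorem Good.pre {A : Subgroup P} (h : Good p V A) :
    (fixP (Nq p P V) A).comap mk' = (fixP V A).addSubgroupOf (hat p P V) :=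
  le_antisymm (fun (n : ↥(hat p P V)) hn => h.fixed (n : V) n.2 (mk'_fixed.1 hn))
    fun (n : ↥(hat p P V)) hn => mk'_fixed.2 fun a ha => by
      have e : a • (n : V) = n := hn a ha
      rw [e, sub_self]
      exact zero_mem _

theorem Good.cj {A : Subgroup P} (h : Good p V A) (g : P) : Good p V (cj g A) where
  fixed n hn hmove := mem_fixP_cj.2 <| h.fixed _ (smul_mem_hat g⁻¹ hn) fun a ha => by
    have := smul_mem_cfixV g⁻¹ (hmove _ (conj_mem_cj ha))
    rwa [smul_sub, ← mul_smul, show g⁻¹ * (g * a * g⁻¹) = a * g⁻¹ by group, mul_smul] at this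
  cover := eq_top_iff.2 fun v _ => by
    obtain ⟨n, hn, c, hc, e⟩ := AddSubgroup.mem_sup.1 (h.cover.ge (AddSubgroup.mem_top (g⁻¹ • v)))
    rw [← smul_inv_smul g v, ← e, smul_add]
    exact add_mem (AddSubgroup.mem_sup_left (smul_mem_hat g hn)) (AddSubgroup.mem_sup_right (smul_mem_fixP_cj hc))

theorem Good.index_eq {A : Subgroup P} (h : Good p V A) :
    (fixP V A).index = (fixP (Nq p P V) A).index := by
  rw [← AddSubgroup.index_comap_of_surjective _ (QuotientAddGroup.mk'_surjective _), h.pre,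
    ← AddSubgroup.relIndex, ← AddSubgroup.relIndex_sup_right,
    h.cover, AddSubgroup.relIndex_top_right]

theorem Good.moveP_le_hat {A : Subgroup P} (h : Good p V A) : moveP V A ≤ hat p P V :=
  moveP_le.2 fun a ha v => by
    obtain ⟨n, hn, c, hc, rfl⟩ := AddSubgroup.mem_sup.1 (h.cover.ge (AddSubgroup.mem_top v))
    rw [smul_add, hc a ha, add_sub_add_right_eq_sub]
    exact sub_mem (smul_mem_hat a hn) hn

namespace VData

variable (H : VData p P V)
include H

theorem good_root {T : Sylow p P} {M : Subgroup P} {hM : IsCoatom M} {hTM : (T : Subgroup P) ≤ M}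
    (Q : Decomp (H.model T M hM hTM)) {B : Subgroup P} (hB : IsOff V p B) (hBT : B ≤ (T : Subgroup P)) :
    B ≤ (⨆ i, Q.E i) ∧ ∃ A ∈ Q.roots, A ≤ B ∧ Good p V A := by
  obtain ⟨h1, hN, A, hA, hAB, hfix⟩ := Q.offender B hBT (H.off_q hB)
  refine ⟨h1, A, hA, hAB, ?_⟩
  set X := (fixP V B).addSubgroupOf (hat p P V)
  have hpre : X = (fixP (Nq p P V) B).comap mk' := by
    refine AddSubgroup.eq_of_le_of_card_ge (H.fix_le_pre B) (Nat.le_of_mul_le_mul_left ?_ (Nat.card_pos (α := B)))
    refine le_trans (le_of_eq ?_) (H.off_hat hB)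
    rw [H.card_pre, ← mul_assoc, ← hN, ← H.card_hat]
  have hC0 : cfixV p P V ≤ fixP V B := fun c hc => by
    have hc' : mk' (⟨c, AddSubgroup.mem_sup_right hc⟩ : ↥(hat p P V)) = 0 := mk'_eq_zero.2 hc
    exact (hpre.ge (show mk' (⟨c, AddSubgroup.mem_sup_right hc⟩ : ↥(hat p P V)) ∈ fixP (Nq p P V) B from
      hc'.symm ▸ zero_mem _) : _)
  have hBA : fixP V B ≤ fixP V A := fixP_anti hAB
  refine ⟨fun n hn hmove => ?_, top_le_iff.1 (le_trans ?_ (sup_le_sup_left hBA _))⟩
  · set Y := ((fixP V A).addSubgroupOf (hat p P V)).map mk'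
    have hY : AddSubgroup.closure {m | ∃ g, cj g A = A ∧ ∃ k ∈ fixP (Nq p P V) B, g • k = m} ≤ Y := by
      refine (AddSubgroup.closure_le _).2 ?_
      rintro _ ⟨g, hg, k, hk, rfl⟩
      obtain ⟨k', rfl⟩ := QuotientAddGroup.mk'_surjective _ k
      exact ⟨hatHom p P V g k', smul_mem_fixP_of_normalizes hg (hBA (hpre.ge hk)), rfl⟩
    obtain ⟨m, hm, e⟩ := hY (hfix (mk'_fixed.2 hmove : mk' (⟨n, hn⟩ : ↥(hat p P V)) ∈ fixP (Nq p P V) A))
    have h2 : n - m ∈ cfixV p P V := (mk'_eq_zero (n := ⟨n, hn⟩ - m)).1 (by rw [map_sub, e, sub_self])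
    have hm' : (m : V) ∈ fixP V A := hm
    have := add_mem (hBA (hC0 h2)) hm'
    rwa [sub_add_cancel] at this
  · refine (AddSubgroup.eq_top_of_card_eq _ (le_antisymm (AddSubgroup.card_le_card_addGroup _) ?_)).ge
    have e := OffenderSL2.Hyp.card_sup_mul (X := hat p P V) (Y := fixP V B)
    have e2 : Nat.card ↥(hat p P V ⊓ fixP V B : AddSubgroup V) = Nat.card X := by
      rw [← AddSubgroup.card_map_of_injective (hat p P V).subtype_injective, AddSubgroup.addSubgroupOf_map_subtype,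
        inf_comm]
    rw [e2] at e
    have e3 : Nat.card ↥(hat p P V) = Nat.card B * Nat.card X := by
      rw [hpre, H.card_pre, ← mul_assoc, ← hN, ← H.card_hat]
    refine Nat.le_of_mul_le_mul_right ?_ (Nat.card_pos (α := X))
    rw [e, e3, mul_right_comm]
    exact Nat.mul_le_mul_right _ hB.ineq

theorem all_good {T : Sylow p P} {M : Subgroup P} {hM : IsCoatom M} {hTM : (T : Subgroup P) ≤ M}
    (Q : Decomp (H.model T M hM hTM)) {B : Subgroup P} (hB : IsOff V p B) :
    ∀ A ∈ Q.roots, Good p V A := by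
  obtain ⟨g, hg⟩ := exists_conj_into hB T
  obtain ⟨-, A0, hA0, -, hgood⟩ := H.good_root Q (hB.cj g) hg
  intro A hA
  obtain ⟨k, rfl⟩ := Q.rootsTrans A0 hA0 A hA
  exact hgood.cj k

theorem good_factor {T : Sylow p P} {M : Subgroup P} {hM : IsCoatom M} {hTM : (T : Subgroup P) ≤ M}
    (Q : Decomp (H.model T M hM hTM)) (hgood : ∀ A ∈ Q.roots, Good p V A) (i : Fin Q.r) :
    Good p V (Q.E i) := by
  obtain ⟨s, hs, hsup, hcard⟩ := Q.gen i
  have hfix : ∀ n ∈ hat p P V, (∀ a ∈ Q.E i, a • n - n ∈ cfixV p P V) → n ∈ fixP V (Q.E i) := by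
    intro n hn hmove
    have : s.sup id ≤ MulAction.stabilizer P n := Finset.sup_le fun A hA a ha =>
      (hgood A (hs hA)).fixed n hn (fun b hb => hmove b (hsup ▸ Finset.le_sup (f := id) hA hb)) a ha
    exact fun a ha => this (hsup.symm ▸ ha)
  refine ⟨hfix, ?_⟩
  have hidx : ∀ t : Finset (Subgroup P), ↑t ⊆ Q.roots → (fixP V (t.sup id)).index ≤ Q.q ^ t.card := by
    intro t
    induction t using Finset.induction_on with
    | empty => intro _; rw [Finset.sup_empty, fixP_bot, AddSubgroup.index_top, Finset.card_empty, pow_zero]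
    | @insert A t hAt ih =>
      intro ht
      rw [Finset.coe_insert, Set.insert_subset_iff] at ht
      rw [Finset.sup_insert, fixP_sup, id, Finset.card_insert_of_notMem hAt, pow_succ']
      refine AddSubgroup.index_inf_le.trans (Nat.mul_le_mul (le_of_eq ?_) (ih ht.2))
      rw [(hgood A ht.1).index_eq, Q.rootIndex A ht.1]
  have h1 := hidx s hs
  rw [hsup, hcard] at h1
  have hpre : (fixP (Nq p P V) (Q.E i)).comap mk' = (fixP V (Q.E i)).addSubgroupOf (hat p P V) :=
    le_antisymm (fun (m : ↥(hat p P V)) hm => hfix (m : V) m.2 (mk'_fixed.1 hm)) (H.fix_le_pre _)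
  set K := fixP V (Q.E i) ⊔ hat p P V
  have h2 : (fixP V (Q.E i)).relIndex K * K.index = (fixP V (Q.E i)).index :=
    AddSubgroup.relIndex_mul_index le_sup_left
  rw [show K = hat p P V ⊔ fixP V (Q.E i) from sup_comm _ _, AddSubgroup.relIndex_sup_right,
    AddSubgroup.relIndex, ← hpre, AddSubgroup.index_comap_of_surjective _ (QuotientAddGroup.mk'_surjective _)] at h2
  rw [← h2] at h1
  have h3 : (hat p P V ⊔ fixP V (Q.E i)).index ≠ 0 := AddSubgroup.index_ne_zero_of_finite
  have h4 : 0 < (fixP (Nq p P V) (Q.E i)).index := Nat.pos_of_ne_zero AddSubgroup.index_ne_zero_of_finite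
  refine AddSubgroup.index_eq_one.1 (le_antisymm (Nat.le_of_mul_le_mul_left ?_ h4) (Nat.one_le_iff_ne_zero.2 h3))
  rw [mul_one]
  exact h1

end VData

variable (V) in
/-- A factor is `SL₂` on its natural module, inside the commutators. -/
def IsLinearOn (p n : ℕ) (E : Subgroup P) : Prop :=
  ∃ (F : Type) (_ : Field F) (_ : Fintype F), Fintype.card F = p ^ n ∧
    ∃ (ρ : ↥E →* Matrix.SpecialLinearGroup (Fin 2) F) (ψ : ↥(moveP V E) →+ (Fin 2 → F)),
      Function.Bijective ρ ∧ Function.Surjective ψ ∧ (∀ u, ψ u = 0 ↔ (u : V) ∈ fixP V E) ∧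
        ∀ (g : ↥E) (u : ↥(moveP V E)), ∃ w : ↥(moveP V E), (w : V) = (g : P) • (u : V) ∧
          ψ w = (ρ g).1.mulVec (ψ u)

variable (V) in
/-- A factor is a symmetric group on its permutation module, inside the commutators. -/
def IsPermOn (p n : ℕ) (E : Subgroup P) : Prop :=
  p = 2 ∧ ∃ (ρ : ↥E →* Equiv.Perm (Fin (2 ^ n + 1))) (ψ : ↥(moveP V E) →+ (Fin (2 ^ n + 1) → ZMod 2)),
    Function.Bijective ρ ∧ (∀ u, ∑ j, ψ u j = 0) ∧
      (∀ v : Fin (2 ^ n + 1) → ZMod 2, ∑ j, v j = 0 → ∃ u, ψ u = v) ∧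
      (∀ u, ψ u = 0 ↔ (u : V) ∈ fixP V E) ∧
        ∀ (g : ↥E) (u : ↥(moveP V E)), ∃ w : ↥(moveP V E), (w : V) = (g : P) • (u : V) ∧
          ∀ j, ψ w j = ψ u ((ρ g)⁻¹ j)

theorem smul_mem_moveP {X : Subgroup P} {g : P} (hg : g ∈ X) {u : V} (hu : u ∈ moveP V X) :
    g • u ∈ moveP V X := by
  have := add_mem (move_mem hg u) hu
  rwa [sub_add_cancel] at this

variable (p P V) in
/-- The factors in the module. -/
structure VDecomp (T : Sylow p P) where
  /-- The number of factors. -/
  r : ℕ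
  r_pos : 1 ≤ r
  /-- The factors. -/
  E : Fin r → Subgroup P
  top : (⨆ i, E i) ⊔ (T : Subgroup P) = ⊤
  commute : ∀ i j, i ≠ j → ∀ a ∈ E i, ∀ b ∈ E j, a * b = b * a
  disjoint : ∀ i, E i ⊓ (⨆ j ∈ {j | j ≠ i}, E j) = ⊥
  trans : ∀ i j, ∃ t ∈ (T : Subgroup P), cj t (E i) = E j
  span : fixP V (⨆ i, E i) ⊔ (⨆ i, moveP V (E i)) = ⊤
  sep : ∀ i j, i ≠ j → moveP V (E i) ≤ fixP V (E j)
  off_le : ∀ B : Subgroup P, B ≤ (T : Subgroup P) → IsOff V p B → B ≤ ⨆ i, E i
  normal : (⨆ i, E i).Normal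
  least : ∀ B : Subgroup P, IsOff V p B → ∀ K : Subgroup P, K.Normal → B ≤ K → ⨆ i, E i ≤ K
  kind : ∀ i, ∃ n, 1 ≤ n ∧ (IsLinearOn V p n (E i) ∨ IsPermOn V p n (E i))

namespace VData

variable (H : VData p P V)
include H

theorem exists_vdecomp (T : Sylow p P) {B : Subgroup P} (hB : IsOff V p B) : Nonempty (VDecomp p P V T) := by
  obtain ⟨M, hM, hTM⟩ := H.exists_max T
  obtain ⟨Q⟩ := (H.model T M hM hTM).exists_decomp (H.off_q hB)
  have hgood := H.all_good Q hB
  have hg := H.good_factor Q hgood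
  set E := ⨆ i, Q.E i with hE
  have hsep : ∀ i j, i ≠ j → moveP V (Q.E i) ≤ fixP V (Q.E j) := by
    intro i j hij
    refine moveP_le.2 fun a ha v => ?_
    obtain ⟨n, hn, c, hc, rfl⟩ := AddSubgroup.mem_sup.1 ((hg i).cover.ge (AddSubgroup.mem_top v))
    rw [smul_add, hc a ha, add_sub_add_right_eq_sub]
    refine (hg j).fixed _ (sub_mem (smul_mem_hat a hn) hn) ((mk'_fixed (n := hatHom p P V a ⟨n, hn⟩ - ⟨n, hn⟩)).1 ?_)
    rw [map_sub, ← smul_mk']
    exact Q.sep i j hij (move_mem ha _)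
  have hcomm : ∀ i j, i ≠ j → ∀ a ∈ Q.E i, ∀ b ∈ Q.E j, a * b = b * a := fun i j hij a ha b hb =>
    commute_of_moves H.faith (hsep i j hij) (hsep j i hij.symm) ha hb
  have hC0E : cfixV p P V ≤ fixP V E := by
    rw [fixP_iSup]
    exact le_iInf fun i => (hg i).cfix_le
  have himg : ∀ i, moveP (Nq p P V) (Q.E i) ≤ ((moveP V (Q.E i)).addSubgroupOf (hat p P V)).map mk' := fun i => by
    refine moveP_le.2 fun a ha q => ?_
    obtain ⟨n, rfl⟩ := QuotientAddGroup.mk'_surjective _ q
    refine ⟨hatHom p P V a n - n, move_mem ha (n : V), ?_⟩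
    rw [map_sub, ← smul_mk']
  have hNtop : ⨆ i, moveP (Nq p P V) (Q.E i) = ⊤ := by
    rw [← moveP_iSup]
    exact top_le_iff.1 ((H.model T M hM hTM).full.ge.trans (moveP_mono Q.top))
  have hsum : hat p P V ≤ (⨆ i, moveP V (Q.E i)) ⊔ cfixV p P V := by
    intro n hn
    have h1 : mk' (⟨n, hn⟩ : ↥(hat p P V)) ∈ ((⨆ i, moveP V (Q.E i)).addSubgroupOf (hat p P V)).map mk' := by
      refine (hNtop.ge.trans (iSup_le fun i => (himg i).trans (AddSubgroup.map_mono ?_))) (AddSubgroup.mem_top _)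
      exact fun x hx => le_iSup (fun i => moveP V (Q.E i)) i hx
    obtain ⟨m, hm, e⟩ := h1
    have h2 : n - m ∈ cfixV p P V := (mk'_eq_zero (n := ⟨n, hn⟩ - m)).1 (by rw [map_sub, e, sub_self])
    rw [← sub_add_cancel n (m : V)]
    exact add_mem (AddSubgroup.mem_sup_right h2) (AddSubgroup.mem_sup_left hm)
  have hsplit : ∀ i, ∀ v : V, ∃ m ∈ moveP V (Q.E i), v - m ∈ fixP V (Q.E i) := by
    intro i v
    obtain ⟨n, hn, c, hc, rfl⟩ := AddSubgroup.mem_sup.1 ((hg i).cover.ge (AddSubgroup.mem_top v))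
    have hle : (⨆ j, moveP V (Q.E j)) ⊔ cfixV p P V ≤ moveP V (Q.E i) ⊔ fixP V (Q.E i) := by
      refine sup_le (iSup_le fun j => ?_) (le_sup_of_le_right (hg i).cfix_le)
      rcases eq_or_ne j i with rfl | hne
      · exact le_sup_left
      · exact le_sup_of_le_right (hsep j i hne)
    obtain ⟨m, hm, d, hd, rfl⟩ := AddSubgroup.mem_sup.1 (hle (hsum hn))
    exact ⟨m, hm, by rw [add_assoc, add_sub_cancel_left]; exact add_mem hd hc⟩
  have hspan : fixP V E ⊔ (⨆ i, moveP V (Q.E i)) = ⊤ := by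
    refine eq_top_iff.2 fun v _ => ?_
    suffices key : ∀ s : Finset (Fin Q.r), ∃ m ∈ ⨆ i, moveP V (Q.E i), ∀ i ∈ s, v - m ∈ fixP V (Q.E i) by
      obtain ⟨m, hm, h⟩ := key Finset.univ
      rw [← sub_add_cancel v m]
      refine add_mem (AddSubgroup.mem_sup_left ?_) (AddSubgroup.mem_sup_right hm)
      rw [fixP_iSup, AddSubgroup.mem_iInf]
      exact fun i => h i (Finset.mem_univ i)
    intro s
    induction s using Finset.induction_on with
    | empty => exact ⟨0, zero_mem _, fun i hi => absurd hi (Finset.notMem_empty i)⟩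
    | @insert i s his ih =>
      obtain ⟨m, hm, h⟩ := ih
      obtain ⟨m', hm', h'⟩ := hsplit i (v - m)
      refine ⟨m + m', add_mem hm (le_iSup (fun j => moveP V (Q.E j)) i hm'), fun j hj => ?_⟩
      rw [← sub_sub]
      rcases Finset.mem_insert.1 hj with rfl | hj
      · exact h'
      · exact sub_mem (h j hj) (hsep i j (fun e => his (e ▸ hj)) hm')
  have hEn : E.Normal := by
    refine Subgroup.normalizer_eq_top_iff.1 (eq_top_iff.2 fun g _ => mem_normalizer_iff_cj.2
      (Subgroup.eq_of_le_of_card_ge ?_ (card_cj g E).ge))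
    rw [hE, cj, Subgroup.map_iSup]
    refine iSup_le fun i => ?_
    obtain ⟨j, hj⟩ := Q.perm g i
    exact hj.le.trans (le_iSup Q.E j)
  have hEself : ∀ g ∈ E, ∀ i, cj g (Q.E i) = Q.E i := by
    intro g hgE i
    refine mem_normalizer_iff_cj.1 ((iSup_le fun j => ?_ : E ≤ Subgroup.normalizer (Q.E i : Set P)) hgE)
    rcases eq_or_ne j i with rfl | hne
    · exact Subgroup.le_normalizer
    · exact fun b hb => mem_normalizer_iff_cj.2 (cj_eq_of_commute fun x hx => hcomm j i hne b hb x hx)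
  have hET : E ⊔ (T : Subgroup P) = ⊤ :=
    top_le_iff.1 ((Transfer.sup_pResidual_eq_top T).ge.trans (sup_le le_sup_right (le_sup_of_le_left Q.top)))
  refine ⟨{
    r := Q.r
    r_pos := Q.r_pos
    E := Q.E
    top := hET
    commute := hcomm
    disjoint := ?_
    trans := ?_
    span := hspan
    sep := hsep
    off_le := fun B hBT hB => (H.good_root Q hB hBT).1
    normal := hEn
    least := ?_
    kind := ?_ }⟩
  · intro i
    refine (Subgroup.eq_bot_iff_forall _).2 fun x hx => H.faith x fun v => ?_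
    have hother : (⨆ j ∈ {j | j ≠ i}, Q.E j) ≤ ⨅ u : moveP V (Q.E i), MulAction.stabilizer P (u : V) :=
      iSup₂_le fun j hj => le_iInf fun u b hb => hsep i j (fun e => hj e.symm) u.2 b hb
    obtain ⟨c, hc, m, hm, rfl⟩ := AddSubgroup.mem_sup.1 (hspan.ge (AddSubgroup.mem_top v))
    rw [smul_add, hc x (le_iSup Q.E i hx.1)]
    congr 1
    have : (⨆ j, moveP V (Q.E j)) ≤ fixP V (Subgroup.zpowers x) := by
      refine iSup_le fun j u hu g hg => ?_
      refine (Subgroup.zpowers_le.2 (show x ∈ MulAction.stabilizer P u from ?_)) hg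
      rcases eq_or_ne j i with rfl | hne
      · exact Subgroup.mem_iInf.1 (hother hx.2) ⟨u, hu⟩
      · exact hsep j i hne hu x hx.1
    exact this hm x (Subgroup.mem_zpowers x)
  · intro i j
    obtain ⟨g, hg'⟩ := Q.trans i j
    haveI := hEn
    have : g ∈ (E : Set P) * ((T : Subgroup P) : Set P) := by
      rw [← Subgroup.normal_mul, hET]
      trivial
    obtain ⟨ε, hε, t, ht, rfl⟩ := this
    refine ⟨t, ht, ?_⟩
    change cj (ε * t) (Q.E i) = Q.E j at hg'
    obtain ⟨k, hk⟩ := Q.perm t i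
    rw [← cj_cj, hk, hEself ε hε k] at hg'
    rw [hk, hg']
  · intro B' hB' K hK hBK
    obtain ⟨g, hgT⟩ := exists_conj_into hB' T
    have hcjK : ∀ g, cj g K = K := fun g => mem_normalizer_iff_cj.1 (by
      rw [Subgroup.normalizer_eq_top_iff.2 hK]; trivial)
    obtain ⟨-, A0, hA0, hle, -⟩ := H.good_root Q (hB'.cj g) hgT
    have hA0K : A0 ≤ K := hle.trans ((cj_mono hBK).trans (hcjK g).le)
    refine iSup_le fun i => ?_
    obtain ⟨s, hs, hsup, -⟩ := Q.gen i
    refine hsup ▸ Finset.sup_le fun A hA => ?_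
    obtain ⟨k, rfl⟩ := Q.rootsTrans A0 hA0 A (hs hA)
    exact (cj_mono hA0K).trans (hcjK k).le
  · intro i
    have hUh : moveP V (Q.E i) ≤ hat p P V := (hg i).moveP_le_hat
    obtain ⟨ι, hι⟩ : ∃ ι : ↥(moveP V (Q.E i)) →+ Nq p P V,
        ∀ u : ↥(moveP V (Q.E i)), ι u = mk' ⟨(u : V), hUh u.2⟩ :=
      ⟨mk'.comp (AddSubgroup.inclusion hUh), fun u => rfl⟩
    have hsurj : ∀ q : Nq p P V, ∃ u, q - ι u ∈ fixP (Nq p P V) (Q.E i) := by
      intro q
      obtain ⟨a, ha, b, hb, rfl⟩ := AddSubgroup.mem_sup.1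
        ((hNtop.ge.trans (iSup_le fun j => (show moveP (Nq p P V) (Q.E j) ≤
          moveP (Nq p P V) (Q.E i) ⊔ fixP (Nq p P V) (Q.E i) from by
            rcases eq_or_ne j i with rfl | hne
            · exact le_sup_left
            · exact le_sup_of_le_right (Q.sep j i hne)))) (AddSubgroup.mem_top q))
      obtain ⟨m, hm, rfl⟩ := himg i ha
      exact ⟨⟨(m : V), hm⟩, by rw [hι, Subtype.coe_eta, add_sub_cancel_left]; exact hb⟩
    have hker : ∀ u : ↥(moveP V (Q.E i)), ι u ∈ fixP (Nq p P V) (Q.E i) ↔ (u : V) ∈ fixP V (Q.E i) := fun u =>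
      by
        rw [hι]
        refine ⟨fun h => (hg i).fixed _ (hUh u.2) ((mk'_fixed (n := ⟨(u : V), hUh u.2⟩)).1 h), fun h => ?_⟩
        refine (mk'_fixed (n := ⟨(u : V), hUh u.2⟩)).2 fun b hb => ?_
        rw [show b • (u : V) = u from h b hb, sub_self]
        exact zero_mem _
    have hequi : ∀ (g : ↥(Q.E i)) (u : ↥(moveP V (Q.E i))), ∃ w : ↥(moveP V (Q.E i)),
        (w : V) = (g : P) • (u : V) ∧ ι w = (g : P) • ι u :=
      fun g u => ⟨⟨_, smul_mem_moveP g.2 u.2⟩, rfl, by rw [hι, hι, smul_mk']; rfl⟩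
    obtain ⟨n, hn, hk⟩ := Q.kind i
    refine ⟨n, hn, ?_⟩
    rcases hk with ⟨F, iF, iF', hF, ρ, ψ, hρ, hψs, hψ0, hψ⟩ | ⟨hp2, ρ, ψ, hρ, hψsum, hψs, hψ0, hψ⟩
    · refine Or.inl ⟨F, iF, iF', hF, ρ, ψ.comp ι, hρ, fun w => ?_, fun u => (hψ0 _).trans (hker u), fun g u => ?_⟩
      · obtain ⟨q, hq⟩ := hψs w
        obtain ⟨u, hu⟩ := hsurj q
        refine ⟨u, ?_⟩
        have := (hψ0 _).2 hu
        rw [map_sub, sub_eq_zero] at this
        rw [← hq, this]
        rfl
      · obtain ⟨w, hw, hw'⟩ := hequi g u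
        exact ⟨w, hw, by show ψ (ι w) = _; rw [hw']; exact hψ g _⟩
    · refine Or.inr ⟨hp2, ρ, ψ.comp ι, hρ, fun u => hψsum _, fun v hv => ?_, fun u => (hψ0 _).trans (hker u),
        fun g u => ?_⟩
      · obtain ⟨q, hq⟩ := hψs v hv
        obtain ⟨u, hu⟩ := hsurj q
        refine ⟨u, ?_⟩
        have := (hψ0 _).2 hu
        rw [map_sub, sub_eq_zero] at this
        rw [← hq, this]
        rfl
      · obtain ⟨w, hw, hw'⟩ := hequi g u
        exact ⟨w, hw, fun j => by show ψ (ι w) j = _; rw [hw']; exact hψ g _ j⟩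

/-- The Sylow subgroup fixes a vector moved by the residual. -/
theorem exists_moved (T : Sylow p P) {B : Subgroup P} (hB : IsOff V p B) :
    ∃ v ∈ fixP V (T : Subgroup P), v ∉ cfixV p P V := by
  obtain ⟨M, hM, hTM⟩ := H.exists_max T
  obtain ⟨Q⟩ := (H.model T M hM hTM).exists_decomp (H.off_q hB)
  have hgood := H.all_good Q hB
  have hg := H.good_factor Q hgood
  rcases Q.lift with ⟨hq, X, hX, hX2, hXT, hc⟩ | ⟨Hh, J, hJH, hHE, ⟨s, hs, hJ⟩, hidx, hnorm, hHJ, hfix, hinf⟩
  · have huniq : ∀ A : Subgroup P, ∃ c : V, A ∈ X → ∀ a ∈ A, a ≠ 1 → ∀ v : V, v ∉ fixP V A → a • v - v = c := by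
      intro A
      by_cases hA : A ∈ X
      · obtain ⟨a0, ha0, ha01⟩ : ∃ a ∈ A, a ≠ 1 := by
          refine (Subgroup.bot_or_exists_ne_one A).resolve_left fun e => ?_
          have := hX2 A hA
          rw [e, Subgroup.card_bot] at this
          omega
        have hidx2 : (fixP V A).index = 2 := by rw [(hgood A (hX hA)).index_eq, Q.rootIndex A (hX hA), hq]
        obtain ⟨v0, hv0⟩ : ∃ v0, v0 ∉ fixP V A := by
          by_contra h
          push Not at h
          rw [(AddSubgroup.eq_top_iff' _).2 h, AddSubgroup.index_top] at hidx2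
          omega
        refine ⟨a0 • v0 - v0, fun _ a ha ha1 v hv => ?_⟩
        have haa : a = a0 := by
          by_contra hne
          have h3 : ({1, a, a0} : Set P).ncard ≤ (A : Set P).ncard := Set.ncard_le_ncard (by
            intro x hx
            rcases hx with rfl | rfl | rfl
            · exact one_mem _
            · exact ha
            · exact ha0) (Set.toFinite _)
          rw [Set.ncard_insert_of_notMem (by simp [Ne.symm ha1, Ne.symm ha01]) (Set.toFinite _),
            Set.ncard_pair hne] at h3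
          have : (A : Set P).ncard = 2 := hX2 A hA
          omega
        subst haa
        have hsum : v + v0 ∈ fixP V A := (AddSubgroup.add_mem_iff_of_index_two hidx2).2 (iff_of_false hv hv0)
        have hv0' : v0 + v0 ∈ fixP V A := (AddSubgroup.add_mem_iff_of_index_two hidx2).2 Iff.rfl
        have h1 := sub_mem hsum hv0' a ha
        rw [add_sub_add_right_eq_sub, smul_sub, sub_eq_sub_iff_sub_eq_sub] at h1
        exact h1
      · exact ⟨0, fun h => absurd h hA⟩
    choose c hcu using huniq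
    have hmove : ∀ A ∈ X, ∃ n : ↥(hat p P V), ∃ a ∈ A, a • (n : V) - n = c A ∧ mk' n ∉ fixP (Nq p P V) A := by
      intro A hA
      have hG := hgood A (hX hA)
      obtain ⟨n, hn⟩ : ∃ n : Nq p P V, n ∉ fixP (Nq p P V) A := by
        by_contra h
        push Not at h
        have h2 := Q.rootIndex A (hX hA)
        rw [(AddSubgroup.eq_top_iff' _).2 h, AddSubgroup.index_top, hq] at h2
        omega
      obtain ⟨n', rfl⟩ := QuotientAddGroup.mk'_surjective _ n
      obtain ⟨a, ha, ha1⟩ : ∃ a ∈ A, a ≠ 1 := by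
        refine (Subgroup.bot_or_exists_ne_one A).resolve_left fun e => hn ?_
        rw [e, fixP_bot]; trivial
      exact ⟨n', a, ha, hcu A hA a ha ha1 _ (fun h => hn (H.fix_le_pre A h)), hn⟩
    have hchat : ∀ A ∈ X, c A ∈ hat p P V := fun A hA => by
      obtain ⟨n, a, -, e, -⟩ := hmove A hA
      rw [← e]
      exact sub_mem (smul_mem_hat a n.2) n.2
    refine ⟨∑ A ∈ X, c A, fun t ht => ?_, fun hmem => ?_⟩
    · rw [Finset.smul_sum]
      refine Finset.sum_bij (fun A _ => cj t A) (fun A hA => hXT t ht A hA) (fun A _ B _ h => cj_injective t h)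
        (fun A hA => ⟨cj t⁻¹ A, hXT _ (inv_mem ht) A hA, cj_cj_inv t A⟩) fun A hA => ?_
      obtain ⟨n, a, ha, e, hn⟩ := hmove A hA
      have ha1 : a ≠ 1 := by
        rintro rfl
        refine hn ?_
        have h0 : c A = 0 := by rw [← e, one_smul, sub_self]
        obtain ⟨a', ha', ha'1⟩ := (Subgroup.bot_or_exists_ne_one A).resolve_left fun e' => hn (by
          rw [e', fixP_bot]; trivial)
        intro b hb
        rcases eq_or_ne b 1 with rfl | hb1
        · exact one_smul _ _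
        rw [smul_mk', ← sub_eq_zero, ← map_sub, mk'_eq_zero]
        show b • (n : V) - n ∈ cfixV p P V
        rw [hcu A hA b hb hb1 n (fun h => hn (H.fix_le_pre A h)), h0]
        exact zero_mem _
      have h1 := hcu (cj t A) (hXT t ht A hA) _ (conj_mem_cj ha)
        (fun h => ha1 (by simpa using h)) (t • (n : V))
        (fun h => hn (H.fix_le_pre A (by
          show (n : V) ∈ fixP V A
          simpa using mem_fixP_cj.1 h)))
      rw [← h1, ← e, smul_sub, ← mul_smul, ← mul_smul, inv_mul_cancel_right]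
    · let c' : Subgroup P → Nq p P V := fun A => if h : A ∈ X then mk' ⟨c A, hchat A h⟩ else 0
      refine hc c' (fun A hA => ?_) ?_
      · obtain ⟨n, a, ha, e, hn⟩ := hmove A hA
        have he : c' A = a • mk' n - mk' n := by
          simp only [c', dif_pos hA]
          rw [smul_mk', ← map_sub]
          exact congrArg mk' (Subtype.ext e.symm)
        refine ⟨he ▸ move_mem ha _, fun h0 => hn ?_⟩
        rw [he, sub_eq_zero] at h0
        intro b hb
        rcases eq_or_ne b 1 with rfl | hb1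
        · exact one_smul _ _
        have hba : b • (n : V) - n = c A := hcu A hA b hb hb1 _ (fun h => hn (H.fix_le_pre A h))
        rw [smul_mk', ← h0, smul_mk']
        exact congrArg mk' (Subtype.ext (sub_left_inj.1 (hba.trans e.symm)))
      · have hin : (∑ A ∈ X, c A) ∈ hat p P V := sum_mem hchat
        have e : ∑ A ∈ X, c' A = mk' ⟨_, hin⟩ := by
          rw [← Finset.sum_attach]
          have : (⟨_, hin⟩ : ↥(hat p P V)) = ∑ A ∈ X.attach, ⟨c A.1, hchat A.1 A.2⟩ := by
            refine Subtype.ext ?_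
            rw [AddSubgroup.val_finsetSum]
            exact (Finset.sum_attach X c).symm
          rw [this, map_sum]
          exact Finset.sum_congr rfl fun A _ => by simp only [c', dif_pos A.2]
        rw [e]
        exact mk'_eq_zero.2 hmem
  · have hC0H : cfixV p P V ≤ fixP V Hh := le_trans (by rw [fixP_iSup]; exact le_iInf fun i => (hg i).cfix_le)
      (fixP_anti hHE)
    have hJfix : ∀ n ∈ hat p P V, (∀ a ∈ J, a • n - n ∈ cfixV p P V) → n ∈ fixP V J := by
      intro n hn hmove a ha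
      have : J ≤ MulAction.stabilizer P n := hJ ▸ sSup_le fun A hA b hb =>
        (hgood A (hs hA)).fixed n hn (fun b' hb' => hmove b' (hJ ▸ le_sSup hA hb')) b hb
      exact this ha
    haveI : Fintype (↥Hh ⧸ J.subgroupOf Hh) := Fintype.ofFinite _
    let f : V →+ V := ∑ x : ↥Hh ⧸ J.subgroupOf Hh, DistribSMul.toAddMonoidHom V ((x.out : ↥Hh) : P)
    have hf : ∀ v, f v = ∑ x : ↥Hh ⧸ J.subgroupOf Hh, ((x.out : ↥Hh) : P) • v := fun v => by
      simp only [f, AddMonoidHom.finsetSum_apply, DistribSMul.toAddMonoidHom_apply]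
    have hrep : ∀ (h : ↥Hh) (v : V), v ∈ fixP V J →
        (((QuotientGroup.mk h : ↥Hh ⧸ J.subgroupOf Hh).out : ↥Hh) : P) • v = (h : P) • v := by
      intro h v hv
      obtain ⟨j, hj⟩ := QuotientGroup.mk_out_eq_mul (J.subgroupOf Hh) h
      rw [hj, Subgroup.coe_mul, mul_smul, hv _ (Subgroup.mem_subgroupOf.1 j.2)]
    have hfH : ∀ h ∈ Hh, ∀ v ∈ fixP V J, h • f v = f v := by
      intro h hh v hv
      rw [hf, Finset.smul_sum]
      refine Fintype.sum_equiv (MulAction.toPerm (⟨h, hh⟩ : ↥Hh)) _ _ fun x => ?_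
      rw [← mul_smul]
      conv_rhs => rw [MulAction.toPerm_apply, ← QuotientGroup.out_eq' x]
      exact (hrep (⟨h, hh⟩ * x.out) v hv).symm
    have hTv : ∀ t ∈ (T : Subgroup P), ∀ v ∈ fixP V J, t • v ∈ fixP V J := fun t ht v hv =>
      smul_mem_fixP_of_normalizes (hnorm t ht).2 hv
    have hfT : ∀ t ∈ (T : Subgroup P), ∀ v ∈ fixP V J, t • f v = f (t • v) := by
      intro t ht v hv
      rw [hf, hf, Finset.smul_sum]
      have hmem : ∀ h : ↥Hh, t * (h : P) * t⁻¹ ∈ Hh := fun h => (hnorm t ht).1.le (conj_mem_cj h.2)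
      let σ : ↥Hh ⧸ J.subgroupOf Hh → ↥Hh ⧸ J.subgroupOf Hh := fun x => QuotientGroup.mk ⟨_, hmem x.out⟩
      have hσ : Function.Bijective σ := Finite.injective_iff_bijective.1 fun x y e => by
        rw [← QuotientGroup.out_eq' x, ← QuotientGroup.out_eq' y]
        refine QuotientGroup.eq.2 (Subgroup.mem_subgroupOf.2 ?_)
        have h1 := Subgroup.mem_subgroupOf.1 (QuotientGroup.eq.1 e)
        have h2 := (hnorm t⁻¹ (inv_mem ht)).2.le (conj_mem_cj h1)
        simpa [mul_assoc] using h2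
      refine Fintype.sum_equiv (Equiv.ofBijective σ hσ) _ _ fun x => ?_
      rw [Equiv.ofBijective_apply, hrep _ _ (hTv t ht v hv), ← mul_smul, ← mul_smul, inv_mul_cancel_right]
    set k := Fintype.card (↥Hh ⧸ J.subgroupOf Hh)
    have hk : k = J.relIndex Hh := by
      show Fintype.card _ = _
      rw [← Nat.card_eq_fintype_card]; rfl
    have hfix_k : ∀ w ∈ fixP V Hh, f w = k • w := fun w hw => by
      rw [hf, Finset.sum_congr rfl fun x _ => hw _ (x.out : ↥Hh).2, Finset.sum_const, Finset.card_univ]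
    obtain ⟨jj, -, hjj⟩ := Nat.exists_mul_mod_eq_one_of_coprime
      (show k.Coprime p from (Nat.coprime_comm.1 ((Nat.Prime.coprime_iff_not_dvd hp.out).2 (hk ▸ hidx)))) hp.out.one_lt
    have hkinv : ∀ w : V, k • w = 0 → w = 0 := fun w hw => by
      have := congrArg (fun z => jj • z) hw
      rwa [smul_zero, ← mul_nsmul, nsmul_mod H.expV, hjj, one_nsmul] at this
    -- a fixed vector
    set U := fixP V J ⊓ hat p P V ⊓ f.ker
    obtain ⟨q, hq, hq0⟩ : ∃ q ∈ fixP (Nq p P V) J, q ≠ 0 := by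
      by_contra h
      push Not at h
      exact hfix ((AddSubgroup.eq_bot_iff_forall _).2 h)
    obtain ⟨n, rfl⟩ := QuotientAddGroup.mk'_surjective _ q
    have hnJ : (n : V) ∈ fixP V J := hJfix n n.2 (mk'_fixed.1 hq)
    have hfn : f n ∈ hat p P V := by rw [hf]; exact sum_mem fun x _ => smul_mem_hat _ n.2
    have hfnC : f n ∈ cfixV p P V := by
      refine (mk'_eq_zero (n := ⟨f n, hfn⟩)).1 ((AddSubgroup.eq_bot_iff_forall _).1 hinf _ ?_)
      have hh : mk' (⟨f n, hfn⟩ : ↥(hat p P V)) ∈ fixP (Nq p P V) Hh := mk'_fixed.2 fun h hh => by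
        show h • f n - f n ∈ cfixV p P V
        rw [hfH h hh n hnJ, sub_self]; exact zero_mem _
      exact ⟨fixP_anti hJH hh, hh⟩
    have hU : U ≠ ⊥ := by
      intro e
      set y := (n : V) - jj • f n
      have hy : y ∈ U := by
        refine AddSubgroup.mem_inf.2 ⟨AddSubgroup.mem_inf.2 ⟨sub_mem hnJ (nsmul_mem (fixP_anti hJH (hC0H hfnC)) jj),
          sub_mem n.2 (nsmul_mem hfn jj)⟩, ?_⟩
        show f y = 0
        rw [map_sub, map_nsmul, hfix_k (f n) (hC0H hfnC), ← mul_nsmul, nsmul_mod H.expV,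
          hjj, one_nsmul, sub_self]
      rw [e, AddSubgroup.mem_bot, sub_eq_zero] at hy
      exact hq0 (mk'_eq_zero.2 (hy ▸ nsmul_mem hfnC jj))
    obtain ⟨v, hv, hv0, hvT⟩ := exists_fixed_nonzero T.isPGroup' H.expV hU fun t ht v hv =>
      ⟨⟨hTv t ht v hv.1.1, smul_mem_hat t hv.1.2⟩, by
        show f (t • v) = 0
        rw [← hfT t ht v hv.1.1, (hv.2 : f v = 0), smul_zero]⟩
    refine ⟨v, hvT, fun hvC => hv0 (hkinv v ?_)⟩
    rw [← hfix_k v (hC0H hvC)]
    exact hv.2

end VData

end CfsgLib.LocalEven.FFPMin
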