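import Cfsg.Agent.Lib.LocalEven.OffenderSL2.Main
import Cfsg.Agent.Lib.LocalEven.PMinimalStructure

/-!
A `p`-minimal group with trivial `p`-core acting faithfully on a module on which its `p`-residual has
no fixed points and which it generates by commutators: basic facts, offenders, quadratic action.
-/

set_option autoImplicit false
set_option linter.unusedSectionVars false

namespace CfsgLib.LocalEven.FFPMin

open CfsgLib.LocalEven.OffenderSL2 (fixP)
open scoped _root_.Classical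

section Action

variable {P : Type*} [Group P] {N : Type*} [AddCommGroup N] [DistribMulAction P N]

/-- The conjugate of a subgroup. -/
def cj (g : P) (X : Subgroup P) : Subgroup P := X.map (MulAut.conj g).toMonoidHom

theorem mem_cj {g h : P} {X : Subgroup P} : h ∈ cj g X ↔ g⁻¹ * h * g ∈ X := by
  constructor
  · rintro ⟨a, ha, rfl⟩
    show g⁻¹ * (g * a * g⁻¹) * g ∈ X
    rwa [show g⁻¹ * (g * a * g⁻¹) * g = a by group]
  · intro ha
    exact ⟨_, ha, show g * (g⁻¹ * h * g) * g⁻¹ = h by group⟩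

theorem conj_mem_cj {g a : P} {X : Subgroup P} (ha : a ∈ X) : g * a * g⁻¹ ∈ cj g X := ⟨a, ha, rfl⟩

theorem cj_one (X : Subgroup P) : cj 1 X = X := by
  ext h
  rw [mem_cj, inv_one, one_mul, mul_one]

theorem cj_cj (g h : P) (X : Subgroup P) : cj g (cj h X) = cj (g * h) X := by
  ext k
  rw [mem_cj, mem_cj, mem_cj, show (g * h)⁻¹ * k * (g * h) = h⁻¹ * (g⁻¹ * k * g) * h by group]

theorem cj_inv_cj (g : P) (X : Subgroup P) : cj g⁻¹ (cj g X) = X := by
  rw [cj_cj, inv_mul_cancel, cj_one]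

theorem cj_cj_inv (g : P) (X : Subgroup P) : cj g (cj g⁻¹ X) = X := by
  rw [cj_cj, mul_inv_cancel, cj_one]

theorem cj_le_iff {g : P} {X Y : Subgroup P} : cj g X ≤ Y ↔ X ≤ cj g⁻¹ Y := by
  constructor
  · intro h a ha
    rw [mem_cj, inv_inv]
    exact h (conj_mem_cj ha)
  · intro h a ha
    have := h (mem_cj.1 ha)
    rwa [mem_cj, inv_inv, show g * (g⁻¹ * a * g) * g⁻¹ = a by group] at this

theorem cj_mono {g : P} {X Y : Subgroup P} (h : X ≤ Y) : cj g X ≤ cj g Y := Subgroup.map_mono h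

theorem cj_injective (g : P) : Function.Injective (cj g : Subgroup P → Subgroup P) :=
  fun X Y h => by rw [← cj_inv_cj g X, h, cj_inv_cj]

theorem cj_sup (g : P) (X Y : Subgroup P) : cj g (X ⊔ Y) = cj g X ⊔ cj g Y := Subgroup.map_sup _ _ _

theorem card_cj (g : P) (X : Subgroup P) : Nat.card (cj g X) = Nat.card X :=
  Subgroup.card_map_of_injective (MulAut.conj g).injective

theorem cj_ne_bot {g : P} {X : Subgroup P} (h : X ≠ ⊥) : cj g X ≠ ⊥ :=
  fun e => h ((Subgroup.map_eq_bot_iff_of_injective _ (MulAut.conj g).injective).1 e)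

theorem cj_eq_of_mem {g : P} {X : Subgroup P} (h : g ∈ X) : cj g X = X := by
  ext k
  rw [mem_cj]
  exact ⟨fun hk => by
    have := mul_mem (mul_mem h hk) (inv_mem h)
    rwa [show g * (g⁻¹ * k * g) * g⁻¹ = k by group] at this,
    fun hk => mul_mem (mul_mem (inv_mem h) hk) h⟩

theorem mem_normalizer_iff_cj [Finite P] {g : P} {X : Subgroup P} :
    g ∈ Subgroup.normalizer (X : Set P) ↔ cj g X = X := by
  rw [Subgroup.mem_normalizer_iff]
  constructor
  · intro h
    ext k
    rw [mem_cj, h, show g * (g⁻¹ * k * g) * g⁻¹ = k by group]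
  · intro h k
    constructor
    · intro hk
      have := conj_mem_cj (g := g) hk
      rwa [h] at this
    · intro hk
      rw [← h, mem_cj] at hk
      rwa [show g⁻¹ * (g * k * g⁻¹) * g = k by group] at hk

theorem isPGroup_cj {p : ℕ} {X : Subgroup P} (h : IsPGroup p X) (g : P) : IsPGroup p (cj g X) :=
  h.map _

theorem mem_fixP {X : Subgroup P} {n : N} : n ∈ fixP N X ↔ ∀ g ∈ X, g • n = n := Iff.rfl

theorem fixP_anti {X Y : Subgroup P} (h : X ≤ Y) : fixP N Y ≤ fixP N X :=
  fun _ hn g hg => hn g (h hg)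

theorem fixP_iSup {ι : Sort*} (X : ι → Subgroup P) : fixP N (⨆ i, X i) = ⨅ i, fixP N (X i) := by
  refine le_antisymm (le_iInf fun i => fixP_anti (le_iSup X i)) fun n hn g hg => ?_
  rw [AddSubgroup.mem_iInf] at hn
  have : ⨆ i, X i ≤ MulAction.stabilizer P n := iSup_le fun i a ha => hn i a ha
  exact this hg

theorem fixP_sup (X Y : Subgroup P) : fixP N (X ⊔ Y) = fixP N X ⊓ fixP N Y := by
  refine le_antisymm (le_inf (fixP_anti le_sup_left) (fixP_anti le_sup_right)) fun n hn g hg => ?_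
  have : X ⊔ Y ≤ MulAction.stabilizer P n := sup_le (fun a ha => hn.1 a ha) (fun a ha => hn.2 a ha)
  exact this hg

theorem fixP_bot : fixP N (⊥ : Subgroup P) = ⊤ :=
  eq_top_iff.2 fun n _ g hg => by rw [Subgroup.mem_bot.1 hg, one_smul]

theorem mem_fixP_cj {g : P} {X : Subgroup P} {n : N} : n ∈ fixP N (cj g X) ↔ g⁻¹ • n ∈ fixP N X := by
  constructor
  · intro h a ha
    rw [eq_inv_smul_iff, ← mul_smul, ← mul_smul]
    exact h _ (conj_mem_cj ha)
  · intro h a ha
    have e := h _ (mem_cj.1 ha)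
    rwa [← mul_smul, show g⁻¹ * a * g * g⁻¹ = g⁻¹ * a by group, mul_smul, smul_left_cancel_iff] at e

theorem smul_mem_fixP_cj {g : P} {X : Subgroup P} {n : N} (hn : n ∈ fixP N X) : g • n ∈ fixP N (cj g X) :=
  mem_fixP_cj.2 (by rwa [inv_smul_smul])

theorem smul_mem_fixP_of_normalizes {g : P} {X : Subgroup P} {n : N} (hg : cj g X = X)
    (hn : n ∈ fixP N X) : g • n ∈ fixP N X := hg ▸ smul_mem_fixP_cj hn

theorem card_fixP_cj (g : P) (X : Subgroup P) : Nat.card (fixP N (cj g X)) = Nat.card (fixP N X) :=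
  Nat.card_congr
    { toFun := fun n => ⟨g⁻¹ • (n : N), mem_fixP_cj.1 n.2⟩
      invFun := fun n => ⟨g • (n : N), smul_mem_fixP_cj n.2⟩
      left_inv := fun n => Subtype.ext (smul_inv_smul g (n : N))
      right_inv := fun n => Subtype.ext (inv_smul_smul g (n : N)) }

variable (P) in
/-- The elements moving every vector by an element of `S`. -/
def movesInto (S : AddSubgroup N) : Subgroup P where
  carrier := {g | ∀ n : N, g • n - n ∈ S}
  one_mem' := fun n => by rw [one_smul, sub_self]; exact zero_mem _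
  mul_mem' := fun {a b} ha hb n => by
    have := add_mem (ha (b • n)) (hb n)
    rwa [← mul_smul, sub_add_sub_cancel] at this
  inv_mem' := fun {a} ha n => by
    have := neg_mem (ha (a⁻¹ • n))
    rwa [smul_inv_smul, neg_sub] at this

theorem mem_movesInto {S : AddSubgroup N} {g : P} : g ∈ movesInto P S ↔ ∀ n : N, g • n - n ∈ S := Iff.rfl

variable (N) in
/-- The commutator subgroup of a subgroup with the module. -/
def moveP (X : Subgroup P) : AddSubgroup N :=
  AddSubgroup.closure {m | ∃ g ∈ X, ∃ n : N, g • n - n = m}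

theorem move_mem {X : Subgroup P} {g : P} (hg : g ∈ X) (n : N) : g • n - n ∈ moveP N X :=
  AddSubgroup.subset_closure ⟨g, hg, n, rfl⟩

theorem moveP_le {X : Subgroup P} {S : AddSubgroup N} : moveP N X ≤ S ↔ X ≤ movesInto P S :=
  ⟨fun h _ hg n => h (move_mem hg n),
    fun h => (AddSubgroup.closure_le _).2 (by rintro _ ⟨g, hg, n, rfl⟩; exact h hg n)⟩

theorem moveP_mono {X Y : Subgroup P} (h : X ≤ Y) : moveP N X ≤ moveP N Y :=
  moveP_le.2 fun _ hg n => move_mem (h hg) n

theorem moveP_iSup {ι : Sort*} (X : ι → Subgroup P) : moveP N (⨆ i, X i) = ⨆ i, moveP N (X i) :=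
  le_antisymm (moveP_le.2 (iSup_le fun i _ hg n =>
      le_iSup (fun j => moveP N (X j)) i (move_mem hg n)))
    (iSup_le fun i => moveP_mono (le_iSup X i))

theorem moveP_sup (X Y : Subgroup P) : moveP N (X ⊔ Y) = moveP N X ⊔ moveP N Y :=
  le_antisymm (moveP_le.2 (sup_le (fun _ hg n => AddSubgroup.mem_sup_left (move_mem hg n))
      (fun _ hg n => AddSubgroup.mem_sup_right (move_mem hg n))))
    (sup_le (moveP_mono le_sup_left) (moveP_mono le_sup_right))

theorem smul_mem_of_moveP_le {X : Subgroup P} {S : AddSubgroup N} (h : moveP N X ≤ S) {g : P}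
    (hg : g ∈ X) {n : N} (hn : n ∈ S) : g • n ∈ S := by
  have := add_mem (h (move_mem hg n)) hn
  rwa [sub_add_cancel] at this

theorem smul_mem_moveP_cj {g : P} {X : Subgroup P} {m : N} (hm : m ∈ moveP N X) :
    g • m ∈ moveP N (cj g X) := by
  have : moveP N X ≤ (moveP N (cj g X)).comap (DistribSMul.toAddMonoidHom N g) := by
    refine moveP_le.2 fun a ha n => ?_
    show g • (a • n - n) ∈ moveP N (cj g X)
    rw [smul_sub, ← mul_smul, show g * a = g * a * g⁻¹ * g by group, mul_smul]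
    exact move_mem (conj_mem_cj ha) _
  exact this hm

/-- Quadratic action. -/
def Quad (N : Type*) [AddCommGroup N] [DistribMulAction P N] (A : Subgroup P) : Prop :=
  ∀ a ∈ A, ∀ n : N, a • n - n ∈ fixP N A

theorem Quad.cj {A : Subgroup P} (h : Quad N A) (g : P) : Quad N (cj g A) := by
  intro a ha n
  rw [mem_fixP_cj, smul_sub]
  have := h _ (mem_cj.1 ha) (g⁻¹ • n)
  rwa [← mul_smul, show g⁻¹ * a * g * g⁻¹ = g⁻¹ * a by group, mul_smul] at this

theorem commute_of_quad (faith : ∀ g : P, (∀ n : N, g • n = n) → g = 1) {a b : P} {U : AddSubgroup N}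
    (ha : ∀ n ∈ U, a • n = n) (hb : ∀ n ∈ U, b • n = n) (ha' : ∀ n : N, a • n - n ∈ U)
    (hb' : ∀ n : N, b • n - n ∈ U) : a * b = b * a := by
  rw [← inv_mul_eq_one]
  refine faith _ fun n => ?_
  rw [mul_smul, inv_smul_eq_iff, mul_smul, mul_smul]
  have e1 := ha _ (hb' n)
  have e2 := hb _ (ha' n)
  rw [smul_sub] at e1 e2
  have : a • b • n = b • n + (a • n - n) := by
    rw [sub_eq_iff_eq_add] at e1; rw [e1]; abel
  rw [this]
  rw [sub_eq_iff_eq_add] at e2
  rw [e2]
  abel

/-- Two commuting quadratic subgroups. -/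
theorem commute_of_axes (faith : ∀ g : P, (∀ n : N, g • n = n) → g = 1) {A B : Subgroup P}
    (hA : Quad N A) (hB : Quad N B) (e : fixP N A = fixP N B) {a b : P} (ha : a ∈ A) (hb : b ∈ B) :
    a * b = b * a :=
  commute_of_quad faith (U := fixP N A) (fun n hn => hn a ha) (fun n hn => (e ▸ hn : n ∈ fixP N B) b hb)
    (hA a ha) (fun n => e.symm ▸ hB b hb n)

variable (N) in
/-- An elementary abelian offender. -/
structure IsOff (p : ℕ) (B : Subgroup P) : Prop where
  ne_bot : B ≠ ⊥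
  comm : ∀ a ∈ B, ∀ b ∈ B, a * b = b * a
  exp : ∀ a ∈ B, a ^ p = 1
  ineq : Nat.card N ≤ Nat.card B * Nat.card (fixP N B)

variable (N) in
/-- A minimal offender. -/
structure IsMin (p : ℕ) (A : Subgroup P) : Prop extends IsOff N p A where
  strict : ∀ A₀ ≤ A, A₀ ≠ ⊥ → A₀ ≠ A →
    Nat.card A₀ * Nat.card (fixP N A₀) < Nat.card A * Nat.card (fixP N A)

theorem IsOff.cj {p : ℕ} {B : Subgroup P} (h : IsOff N p B) (g : P) : IsOff N p (cj g B) where
  ne_bot := cj_ne_bot h.ne_bot
  comm := by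
    rintro _ ⟨a, ha, rfl⟩ _ ⟨b, hb, rfl⟩
    rw [← map_mul, h.comm a ha b hb, map_mul]
  exp := by
    rintro _ ⟨a, ha, rfl⟩
    rw [← map_pow, h.exp a ha, map_one]
  ineq := by rw [card_cj, card_fixP_cj]; exact h.ineq

theorem IsMin.cj {p : ℕ} {A : Subgroup P} (h : IsMin N p A) (g : P) : IsMin N p (cj g A) where
  toIsOff := h.toIsOff.cj g
  strict := fun A₀ h0 h1 h2 => by
    have := h.strict (FFPMin.cj g⁻¹ A₀) (cj_le_iff.2 (by rwa [inv_inv])) (cj_ne_bot h1)
      (fun e => h2 (by rw [← e, cj_cj_inv]))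
    rwa [card_cj, card_fixP_cj, ← card_cj g A, ← card_fixP_cj g A] at this

theorem IsOff.isPGroup {p : ℕ} {B : Subgroup P} (h : IsOff N p B) : IsPGroup p B :=
  fun a => ⟨1, Subtype.ext (by rw [pow_one]; exact h.exp a a.2)⟩

theorem IsOff.exists_min {p : ℕ} [Finite P] {B : Subgroup P} (h : IsOff N p B) :
    ∃ A ≤ B, IsMin N p A := by
  classical
  have hex : ∃ k, ∃ A, A ≤ B ∧ IsOff N p A ∧ Nat.card A = k := ⟨_, B, le_rfl, h, rfl⟩
  obtain ⟨A, hAB, hA, hk⟩ := Nat.find_spec hex
  refine ⟨A, hAB, hA, fun A₀ h0 h1 h2 => lt_of_lt_of_le ?_ hA.ineq⟩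
  by_contra hlt
  refine h2 (Subgroup.eq_of_le_of_card_ge h0 (hk ▸ Nat.find_min' hex ⟨A₀, h0.trans hAB, ?_, rfl⟩))
  exact ⟨h1, fun a ha b hb => hA.comm a (h0 ha) b (h0 hb), fun a ha => hA.exp a (h0 ha), not_lt.1 hlt⟩

theorem nsmul_mod {p : ℕ} (expN : ∀ n : N, p • n = 0) (k : ℕ) (n : N) : k • n = (k % p) • n := by
  conv_lhs => rw [← Nat.mod_add_div k p, add_nsmul, mul_nsmul, expN, smul_zero, add_zero]

/-- A minimal offender acts quadratically. -/
theorem IsMin.quad {p : ℕ} [Fact p.Prime] [Finite P] [Finite N] (expN : ∀ n : N, p • n = 0)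
    {A : Subgroup P} (h : IsMin N p A) : Quad N A := by
  intro a0 ha0 n
  set U := fixP N A with hU
  have hfix : ∀ a ∈ A, ∀ u ∈ U, a • u = u := fun a ha u hu => hu a ha
  let Bn : Subgroup P :=
    { carrier := {b | b ∈ A ∧ b • n - n ∈ U}
      one_mem' := ⟨one_mem _, by rw [one_smul, sub_self]; exact zero_mem _⟩
      mul_mem' := fun {b c} hb hc => ⟨mul_mem hb.1 hc.1, by
        have := add_mem hb.2 hc.2
        rw [← hfix b hb.1 _ hc.2, smul_sub, ← mul_smul, add_comm, sub_add_sub_cancel] at this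
        exact this⟩
      inv_mem' := fun {b} hb => ⟨inv_mem hb.1, by
        have e := neg_mem hb.2
        rw [← hfix _ (inv_mem hb.1) _ e, neg_sub, smul_sub, inv_smul_smul] at e
        exact e⟩ }
  have hBA : Bn ≤ A := fun _ hb => hb.1
  rcases eq_or_ne Bn A with e | hne
  · exact (e.ge ha0 : a0 ∈ Bn).2
  let f : A → N ⧸ U := fun a => QuotientAddGroup.mk ((a : P) • n - n)
  have hf : ∀ b c : A, f b = f c → ((b : P))⁻¹ * c ∈ Bn := by
    intro b c e
    refine ⟨mul_mem (inv_mem b.2) c.2, ?_⟩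
    have e' : -((b : P) • n - n) + ((c : P) • n - n) ∈ U := QuotientAddGroup.eq.1 e
    rw [← hfix _ (inv_mem b.2) _ e', smul_add, smul_neg, smul_sub, smul_sub, inv_smul_smul, ← mul_smul] at e'
    convert e' using 1
    abel
  rcases eq_or_ne Bn ⊥ with hbot | hbot
  · exfalso
    have hinj : Function.Injective f := fun b c e => by
      have := hf b c e
      rw [hbot, Subgroup.mem_bot, inv_mul_eq_one] at this
      exact Subtype.ext this
    have hle : Nat.card (N ⧸ U) ≤ Nat.card A := by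
      refine Nat.le_of_mul_le_mul_right ?_ (Nat.card_pos (α := U))
      rw [← AddSubgroup.card_eq_card_quotient_mul_card_addSubgroup]
      exact h.ineq
    obtain ⟨a, ha⟩ := (hinj.bijective_of_nat_card_le hle).2 (QuotientAddGroup.mk n)
    have h2 : (a : P) • n - (2 : ℕ) • n ∈ U := by
      have e' : -((a : P) • n - n) + n ∈ U := QuotientAddGroup.eq.1 ha
      have := neg_mem e'
      convert this using 1
      rw [two_nsmul]; abel
    have key : ∀ k : ℕ, ((a : P) ^ k) • n - (2 ^ k) • n ∈ U := by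
      intro k
      induction k with
      | zero => simp [zero_mem]
      | succ k ih =>
        have e1 := add_mem ih (nsmul_mem h2 (2 ^ k))
        rw [← hfix _ a.2 _ ih, smul_sub, smul_sub, smul_comm (a : P) (2 ^ k) n, ← mul_smul, ← pow_succ'] at e1
        rw [← mul_nsmul'] at e1
        convert e1 using 1
        rw [pow_succ]
        abel
    have hp := key p
    rw [h.exp _ a.2, one_smul, nsmul_mod expN] at hp
    have e2 : 2 ^ p % p = 2 % p := by
      have := congrArg ZMod.val (ZMod.pow_card (2 : ZMod p))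
      rwa [← Nat.cast_ofNat, ← Nat.cast_pow, ZMod.val_natCast, ZMod.val_natCast] at this
    rw [e2, ← nsmul_mod expN] at hp
    have hn : n ∈ U := by
      have := neg_mem hp
      rwa [two_nsmul, neg_sub, add_sub_cancel_right] at this
    refine h.ne_bot (le_bot_iff.1 (le_trans (fun b hb => ?_) hbot.le))
    exact ⟨hb, by rw [hfix b hb n hn, sub_self]; exact zero_mem _⟩
  · exfalso
    have hlt := h.strict Bn hBA hbot hne
    let W := U ⊔ AddSubgroup.closure {m | ∃ c ∈ A, c • n - n = m}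
    have hW : W ≤ fixP N Bn := by
      refine sup_le (fixP_anti hBA) ((AddSubgroup.closure_le _).2 ?_)
      rintro _ ⟨c, hc, rfl⟩ b hb
      have e := hfix c hc _ hb.2
      rw [smul_sub, ← mul_smul, h.comm c hc b hb.1, mul_smul] at e
      rw [smul_sub, sub_eq_sub_iff_sub_eq_sub]
      exact e
    let g : A → W.map (QuotientAddGroup.mk' U) := fun c =>
      ⟨f c, _, AddSubgroup.mem_sup_right (AddSubgroup.subset_closure ⟨c, c.2, rfl⟩), rfl⟩
    have hA : Nat.card A ≤ Nat.card Bn * Nat.card (W.map (QuotientAddGroup.mk' U)) := by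
      obtain ⟨sec, hsec⟩ : ∃ sec : _ → A, ∀ b : A, g (sec (g b)) = g b :=
        ⟨Function.invFun g, fun b => Function.invFun_eq ⟨b, rfl⟩⟩
      rw [← Nat.card_prod]
      refine Nat.card_le_card_of_injective
        (fun b : A => ((⟨_, hf _ _ (congrArg Subtype.val (hsec b))⟩ : Bn), g b)) fun b c e => ?_
      obtain ⟨h1, h2⟩ := Prod.ext_iff.1 e
      have h1' := congrArg Subtype.val h1
      dsimp only at h2
      simp only [h2] at h1'
      exact Subtype.ext (mul_left_cancel h1')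
    have hWc : Nat.card (W.map (QuotientAddGroup.mk' U)) * Nat.card U = Nat.card W := by
      let π : W →+ N ⧸ U := (QuotientAddGroup.mk' U).comp W.subtype
      have hr : π.range = W.map (QuotientAddGroup.mk' U) := by
        rw [AddMonoidHom.range_comp, AddSubgroup.range_subtype]
      have hk : Nat.card π.ker = Nat.card U := by
        rw [show π.ker = U.addSubgroupOf W by
          ext u
          exact QuotientAddGroup.eq_zero_iff (u : N)]
        exact Nat.card_congr (AddSubgroup.addSubgroupOfEquivOfLe le_sup_left).toEquiv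
      have := π.ker.card_mul_index
      rw [AddSubgroup.index_ker, hr, hk] at this
      rw [← this, mul_comm]
    refine absurd hlt (not_lt.2 ?_)
    calc Nat.card A * Nat.card U ≤ Nat.card Bn * Nat.card (W.map (QuotientAddGroup.mk' U)) * Nat.card U :=
          Nat.mul_le_mul_right _ hA
      _ = Nat.card Bn * Nat.card W := by rw [mul_assoc, hWc]
      _ ≤ Nat.card Bn * Nat.card (fixP N Bn) := Nat.mul_le_mul_left _ (AddSubgroup.card_le_of_le hW)

/-- Inside a `p`-group, some member outside normalises the group generated by a closed subfamily. -/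
theorem exists_normalizing [Finite P] {p : ℕ} [Fact p.Prime] {S K : Subgroup P} (hS : IsPGroup p S)
    (hKS : K ≤ S) (XS : Set (Subgroup P)) (hK : ∃ s ⊆ XS, sSup s = K)
    (hinv : ∀ g ∈ S, ∀ d ∈ XS, cj g d ∈ XS) (hle : ∀ d ∈ XS, d ≤ S)
    (hne : ∃ d ∈ XS, ¬ d ≤ K) : ∃ d ∈ XS, ¬ d ≤ K ∧ d ≤ Subgroup.normalizer (K : Set P) := by
  set S1 := S ⊓ Subgroup.normalizer (K : Set P) with hS1
  by_cases h : S1 = S
  · obtain ⟨d, hd, hdK⟩ := hne
    exact ⟨d, hd, hdK, (hle d hd).trans (h ▸ inf_le_right)⟩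
  obtain ⟨t, ⟨htS, htN⟩, ht1⟩ := SetLike.exists_of_lt (Fusion.lt_inf_normalizer hS
    (lt_of_le_of_ne inf_le_left h : S1 < S))
  have hK1 : K ≤ S1 := le_inf hKS Subgroup.le_normalizer
  have htK : cj t K ≠ K := fun e => ht1 ⟨htS, mem_normalizer_iff_cj.2 e⟩
  have htK' : ¬ cj t K ≤ K := fun e => htK (Subgroup.eq_of_le_of_card_ge e (card_cj t K).ge)
  have hle1 : cj t K ≤ S1 := (cj_mono hK1).trans (mem_normalizer_iff_cj.1 htN).le
  obtain ⟨s, hs, rfl⟩ := hK
  by_contra hno
  push Not at hno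
  refine htK' (cj_le_iff.2 (sSup_le fun d hd => cj_le_iff.1 ?_))
  by_contra hdK
  exact hno _ (hinv t htS d (hs hd)) hdK ((cj_mono (le_sSup hd)).trans (hle1.trans inf_le_right))

end Action

/-- A `p`-minimal group with trivial `p`-core on a faithful module on which the `p`-residual has no
fixed points and which it generates by commutators. -/
structure Model (p : ℕ) (P : Type*) [Group P] (N : Type*) [AddCommGroup N] [DistribMulAction P N] where
  /-- A Sylow subgroup. -/
  T : Sylow p P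
  /-- The maximal subgroup containing it. -/
  M : Subgroup P
  hmin : Cfsg.IsPMinimal p P
  coatom : IsCoatom M
  le : (T : Subgroup P) ≤ M
  core : Cfsg.pCore p P = ⊥
  faith : ∀ g : P, (∀ n : N, g • n = n) → g = 1
  expN : ∀ n : N, p • n = 0
  cfix : ∀ n : N, (∀ g ∈ Cfsg.pResidual p P, g • n = n) → n = 0
  full : moveP N (Cfsg.pResidual p P) = ⊤

namespace Model

variable {p : ℕ} [Fact p.Prime] {P : Type*} [Group P] [Finite P] {N : Type*} [AddCommGroup N]
  [DistribMulAction P N] [Finite N] (D : Model p P N)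

include D

theorem le_M {X : Subgroup P} (hX : X ≠ ⊤) (hT : (D.T : Subgroup P) ≤ X) : X ≤ D.M :=
  PMin.le_unique D.hmin D.T D.coatom D.le hX hT

theorem normalClosure_T : Subgroup.normalClosure ((D.T : Subgroup P) : Set P) = ⊤ :=
  (PMin.isMinimalOver D.hmin D.T).1

theorem exists_notM : ∃ x, x ∉ D.M := by
  by_contra hne
  push Not at hne
  exact D.coatom.1 (eq_top_iff.2 fun g _ => hne g)

theorem normalizer_T_le : Subgroup.normalizer ((D.T : Subgroup P) : Set P) ≤ D.M :=
  D.le_M (fun e => (D.hmin D.T).1 (Subgroup.normalizer_eq_top_iff.1 e)) Subgroup.le_normalizer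

/-- The same situation for a conjugate Sylow subgroup in the maximal subgroup. -/
def withT (T' : Sylow p P) (h : (T' : Subgroup P) ≤ D.M) : Model p P N :=
  { D with T := T', le := h }

theorem exists_conj_T {S : Subgroup P} (hS : IsPGroup p S) (hSM : S ≤ D.M) :
    ∃ m ∈ D.M, S ≤ cj m (D.T : Subgroup P) := by
  obtain ⟨Q, hQ⟩ := IsPGroup.exists_le_sylow (P := S.subgroupOf D.M)
    (hS.comap_of_injective D.M.subtype Subtype.val_injective)
  obtain ⟨m, hm⟩ := MulAction.exists_smul_eq D.M (D.T.subtype D.le) Q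
  refine ⟨m, m.2, fun s hs => ?_⟩
  have h1 : (⟨s, hSM hs⟩ : D.M) ∈ (Q : Subgroup D.M) := hQ (Subgroup.mem_subgroupOf.2 hs)
  rw [← hm, Sylow.coe_subgroup_smul, Subgroup.mem_smul_pointwise_iff_exists] at h1
  obtain ⟨t, ht, e⟩ := h1
  exact ⟨t, ht, congrArg Subtype.val e⟩

/-- A conjugate of the Sylow subgroup as a Sylow subgroup. -/
noncomputable def cT (g : P) : Sylow p P :=
  (MulAction.toPerm g : Equiv.Perm (Sylow p P)) D.T

theorem coe_cT (g : P) : (D.cT g : Subgroup P) = cj g (D.T : Subgroup P) := by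
  show ((g • D.T : Sylow p P) : Subgroup P) = _
  rw [Sylow.coe_subgroup_smul]
  rfl

theorem mem_M_of_cj_T_le {g : P} (h : cj g (D.T : Subgroup P) ≤ D.M) : g ∈ D.M := by
  obtain ⟨m, hm, hle⟩ := D.exists_conj_T (isPGroup_cj D.T.isPGroup' g) h
  have e : cj g (D.T : Subgroup P) = cj m D.T :=
    Subgroup.eq_of_le_of_card_ge hle (by rw [card_cj, card_cj])
  have : m⁻¹ * g ∈ D.M := D.normalizer_T_le (mem_normalizer_iff_cj.2 (by rw [← cj_cj, e, cj_inv_cj]))
  simpa using mul_mem hm this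

theorem residual_le_of_normal {X : Subgroup P} (hX : X.Normal) (h : ¬ X ≤ D.M) :
    Cfsg.pResidual p P ≤ X :=
  haveI := hX
  (PMin.normal_dichotomy D.hmin D.T D.coatom D.le X).resolve_right h

theorem exists_cj_not_le {X : Subgroup P} (hX : IsPGroup p X) (hne : X ≠ ⊥) : ∃ g, ¬ cj g X ≤ D.M := by
  by_contra hno
  push Not at hno
  set K := ⨆ g, cj g X with hK
  have hn : K.Normal := by
    refine Subgroup.normalizer_eq_top_iff.1 (eq_top_iff.2 fun h _ => mem_normalizer_iff_cj.2 ?_)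
    refine Subgroup.eq_of_le_of_card_ge ?_ (card_cj h K).ge
    rw [cj, hK, Subgroup.map_iSup]
    exact iSup_le fun g => le_trans (cj_cj h g X).le (le_iSup (fun g => cj g X) (h * g))
  obtain ⟨S, hS⟩ := hX.exists_le_sylow
  obtain ⟨g, hg⟩ := MulAction.exists_smul_eq P S D.T
  have hle : cj g X ≤ (D.T : Subgroup P) ⊓ K :=
    le_inf ((cj_mono hS).trans (by rw [← hg, Sylow.coe_subgroup_smul]; rfl)) (le_iSup (fun g => cj g X) g)
  haveI := hn
  have := hle.trans (PMin.normal_inf_sylow_le D.hmin D.T D.coatom D.le K (iSup_le hno))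
  rw [D.core] at this
  exact cj_ne_bot hne (le_bot_iff.1 this)

/-- A conjugation invariant family generates, through its members outside `M`, the residual. -/
theorem residual_le_out {XS : Set (Subgroup P)} (hinv : ∀ g, ∀ d ∈ XS, cj g d ∈ XS)
    (hne : ∃ d ∈ XS, ¬ d ≤ D.M) : Cfsg.pResidual p P ≤ sSup {d ∈ XS | ¬ d ≤ D.M} := by
  set Y := sSup {d ∈ XS | ¬ d ≤ D.M} with hY
  obtain ⟨d, hd, hdM⟩ := hne
  have hYM : ¬ Y ≤ D.M := fun h =>
    hdM ((le_sSup (s := {d ∈ XS | ¬ d ≤ D.M}) ⟨hd, hdM⟩).trans h)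
  refine D.residual_le_of_normal (Subgroup.normalizer_eq_top_iff.1 ?_) hYM
  have hM : D.M ≤ Subgroup.normalizer (Y : Set P) := by
    intro m hm
    refine mem_normalizer_iff_cj.2 (Subgroup.eq_of_le_of_card_ge (cj_le_iff.2 (sSup_le ?_)) (card_cj m Y).ge)
    rintro c ⟨hc, hcM⟩
    refine cj_le_iff.1 (le_sSup ⟨hinv m c hc, fun h => hcM ?_⟩)
    exact (cj_le_iff.1 h).trans (cj_eq_of_mem (inv_mem hm)).le
  rcases hM.lt_or_eq with h | h
  · exact D.coatom.2 _ h
  · exact absurd (h.symm ▸ Subgroup.le_normalizer : Y ≤ D.M) hYM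

theorem eq_zero_of_fix_out {XS : Set (Subgroup P)} (hinv : ∀ g, ∀ d ∈ XS, cj g d ∈ XS)
    (hne : ∃ d ∈ XS, ¬ d ≤ D.M) {n : N} (hn : ∀ d ∈ XS, ¬ d ≤ D.M → n ∈ fixP N d) : n = 0 := by
  refine D.cfix n fun g hg => ?_
  have h1 : sSup {d ∈ XS | ¬ d ≤ D.M} ≤ MulAction.stabilizer P n :=
    sSup_le fun d hd a ha => hn d hd.1 hd.2 a ha
  exact h1 (D.residual_le_out hinv hne hg)

theorem eq_top_of_move_out {XS : Set (Subgroup P)} (hinv : ∀ g, ∀ d ∈ XS, cj g d ∈ XS)
    (hne : ∃ d ∈ XS, ¬ d ≤ D.M) {S : AddSubgroup N} (hS : ∀ d ∈ XS, ¬ d ≤ D.M → moveP N d ≤ S) :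
    S = ⊤ := by
  refine top_le_iff.1 (D.full.ge.trans (moveP_le.2 ((D.residual_le_out hinv hne).trans ?_)))
  exact sSup_le fun d hd => moveP_le.1 (hS d hd.1 hd.2)

/-- A fixed vector of the Sylow subgroup has its stabiliser in `M`. -/
theorem stab_le {v : N} (hv : v ∈ fixP N (D.T : Subgroup P)) (hv0 : v ≠ 0) {g : P} (hg : g • v = v) :
    g ∈ D.M := by
  refine D.le_M (X := MulAction.stabilizer P v) (fun e => hv0 ?_) (fun t ht => hv t ht) hg
  exact D.cfix v fun h _ => show h ∈ MulAction.stabilizer P v by rw [e]; trivial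

theorem stab_le_of_translate {v : N} (hv : v ∈ fixP N (D.T : Subgroup P)) (hv0 : v ≠ 0) {m g : P}
    (hg : g • m • v = m • v) : m⁻¹ * g * m ∈ D.M :=
  D.stab_le hv hv0 (by rw [mul_smul, mul_smul, hg, inv_smul_smul])

theorem nontrivial_N : ∃ n : N, n ≠ 0 := by
  by_contra h
  push Not at h
  obtain ⟨x, hx⟩ := D.exists_notM
  exact hx (D.faith x (fun n => by rw [h n, smul_zero]) ▸ one_mem _)

theorem exists_fixed : ∃ v : N, v ∈ fixP N (D.T : Subgroup P) ∧ v ≠ 0 := by
  obtain ⟨n, hn⟩ := D.nontrivial_N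
  have hdvd : p ∣ Nat.card N := by
    have : addOrderOf n = p := addOrderOf_eq_prime (D.expN n) hn
    exact this ▸ addOrderOf_dvd_natCard n
  obtain ⟨v, hv, hne⟩ := D.T.isPGroup'.exists_fixed_point_of_prime_dvd_card_of_fixed_point N hdvd
    (a := (0 : N)) (fun t => smul_zero (t : P))
  exact ⟨v, fun t ht => hv ⟨t, ht⟩, fun e => hne e.symm⟩

/-- A `T`-invariant hyperplane containing all commutators with `T`, whose stabiliser lies in `M`. -/
theorem exists_hyperplane : ∃ H : AddSubgroup N, H.index = p ∧ moveP N (D.T : Subgroup P) ≤ H ∧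
    ∀ g : P, (∀ n ∈ H, g • n ∈ H) → g ∈ D.M := by
  obtain ⟨n, hn⟩ := D.nontrivial_N
  obtain ⟨H, ⟨hHT, hHne⟩, hmax⟩ := Set.Finite.exists_maximalFor id
    {H : AddSubgroup N | (∀ t ∈ (D.T : Subgroup P), ∀ m ∈ H, t • m ∈ H) ∧ H ≠ ⊤} (Set.toFinite _)
    ⟨⊥, fun t _ m hm => by rw [AddSubgroup.mem_bot.1 hm, smul_zero]; exact zero_mem _, fun e => hn (by
      simpa [← e] using (AddSubgroup.mem_top n))⟩
  let act : ↥(D.T : Subgroup P) → N ⧸ H → N ⧸ H := fun t =>
    QuotientAddGroup.map H H (DistribSMul.toAddMonoidHom N (t : P)) (fun m hm => hHT t t.2 m hm)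
  letI : MulAction (D.T : Subgroup P) (N ⧸ H) :=
    { smul := act
      one_smul := fun q => QuotientAddGroup.induction_on q fun m =>
        congrArg QuotientAddGroup.mk (one_smul P m)
      mul_smul := fun s t q => QuotientAddGroup.induction_on q fun m =>
        congrArg QuotientAddGroup.mk (mul_smul (s : P) (t : P) m) }
  obtain ⟨m0, hm0⟩ : ∃ m0, m0 ∉ H := by
    by_contra h
    push Not at h
    exact hHne (eq_top_iff.2 fun m _ => h m)
  have hdvd : p ∣ Nat.card (N ⧸ H) := by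
    have : addOrderOf (m0 : N ⧸ H) = p := addOrderOf_eq_prime
      (by rw [← QuotientAddGroup.mk_nsmul, D.expN]; rfl) (fun e => hm0 ((QuotientAddGroup.eq_zero_iff m0).1 e))
    exact this ▸ addOrderOf_dvd_natCard _
  obtain ⟨q, hq, hq0⟩ := D.T.isPGroup'.exists_fixed_point_of_prime_dvd_card_of_fixed_point (N ⧸ H) hdvd
    (a := (0 : N ⧸ H)) (fun t => show act t 0 = 0 from map_zero _)
  obtain ⟨m, rfl⟩ := QuotientAddGroup.mk'_surjective H q
  have hmH : m ∉ H := fun e => hq0 ((QuotientAddGroup.eq_zero_iff m).2 e).symm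
  have hmT : ∀ t ∈ (D.T : Subgroup P), t • m - m ∈ H := fun t ht =>
    QuotientAddGroup.eq_iff_sub_mem.1 (hq ⟨t, ht⟩)
  have htop : H ⊔ AddSubgroup.zmultiples m = ⊤ := by
    by_contra hne
    have h1 := hmax (j := H ⊔ AddSubgroup.zmultiples m) ⟨?_, hne⟩ le_sup_left
    · exact hmH (h1 (AddSubgroup.mem_sup_right (AddSubgroup.mem_zmultiples m)))
    · intro t ht k hk
      obtain ⟨a, ha, b, hb, rfl⟩ := AddSubgroup.mem_sup.1 hk
      obtain ⟨j, rfl⟩ := AddSubgroup.mem_zmultiples_iff.1 hb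
      rw [smul_add, smul_comm t j m, ← sub_add_cancel (t • m) m, smul_add j]
      exact add_mem (AddSubgroup.mem_sup_left (hHT t ht a ha))
        (add_mem (AddSubgroup.mem_sup_left (zsmul_mem (hmT t ht) j)) (AddSubgroup.mem_sup_right
          (zsmul_mem (AddSubgroup.mem_zmultiples m) j)))
  have hdec : ∀ k : N, ∃ a ∈ H, ∃ j : ℤ, k = a + j • m := fun k => by
    obtain ⟨a, ha, b, hb, rfl⟩ := AddSubgroup.mem_sup.1 (htop.ge (AddSubgroup.mem_top k))
    obtain ⟨j, rfl⟩ := AddSubgroup.mem_zmultiples_iff.1 hb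
    exact ⟨a, ha, j, rfl⟩
  have hgen : ∀ z : N ⧸ H, z ∈ AddSubgroup.zmultiples (m : N ⧸ H) := by
    intro z
    obtain ⟨k, rfl⟩ := QuotientAddGroup.mk'_surjective H z
    obtain ⟨a, ha, j, rfl⟩ := hdec k
    refine AddSubgroup.mem_zmultiples_iff.2 ⟨j, ?_⟩
    rw [map_add, map_zsmul, (show QuotientAddGroup.mk' H a = 0 from (QuotientAddGroup.eq_zero_iff a).2 ha),
      zero_add]
    rfl
  refine ⟨H, ?_, ?_, ?_⟩
  · rw [AddSubgroup.index_eq_card, ← addOrderOf_eq_card_of_forall_mem_zmultiples hgen]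
    exact addOrderOf_eq_prime (by rw [← QuotientAddGroup.mk_nsmul, D.expN]; rfl)
      (fun e => hmH ((QuotientAddGroup.eq_zero_iff m).1 e))
  · refine moveP_le.2 fun t ht k => ?_
    obtain ⟨a, ha, j, rfl⟩ := hdec k
    rw [smul_add, smul_comm t j m, add_sub_add_comm, ← smul_sub j]
    exact add_mem (sub_mem (hHT t ht a ha) ha) (zsmul_mem (hmT t ht) j)
  · intro g hg
    let X : Subgroup P :=
      { carrier := {g | ∀ n, g • n ∈ H ↔ n ∈ H}
        one_mem' := fun n => by rw [one_smul]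
        mul_mem' := fun {a b} ha hb n => by rw [mul_smul, ha, hb]
        inv_mem' := fun {a} ha n => by rw [← ha, smul_inv_smul] }
    have hmemX : ∀ x : P, (∀ n ∈ H, x • n ∈ H) → x ∈ X := by
      intro x hx n
      refine ⟨fun hn => ?_, hx n⟩
      have hsurj : Function.Surjective (fun k : H => (⟨x • (k : N), hx k k.2⟩ : H)) :=
        Finite.surjective_of_injective fun k l e =>
          Subtype.ext (MulAction.injective x (congrArg Subtype.val e))
      obtain ⟨k, hk⟩ := hsurj ⟨_, hn⟩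
      exact MulAction.injective x (congrArg Subtype.val hk) ▸ k.2
    refine D.le_M (X := X) (fun e => ?_) (fun t ht => hmemX t (hHT t ht)) (hmemX g hg)
    have hall : ∀ (g : P), ∀ n, g • n ∈ H ↔ n ∈ H := fun g => (e.ge (Subgroup.mem_top g) : g ∈ X)
    have hn : (movesInto P H).Normal := ⟨fun r hr g n => by
      have := (hall g _).2 (hr (g⁻¹ • n))
      rwa [smul_sub, smul_inv_smul, ← mul_smul, ← mul_smul] at this⟩
    have hT : (D.T : Subgroup P) ≤ movesInto P H := fun t ht k => by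
      obtain ⟨a, ha, j, rfl⟩ := hdec k
      rw [smul_add, smul_comm t j m, add_sub_add_comm, ← smul_sub j]
      exact add_mem (sub_mem (hHT t ht a ha) ha) (zsmul_mem (hmT t ht) j)
    have h1 : (⊤ : Subgroup P) ≤ movesInto P H := D.normalClosure_T ▸
      Subgroup.normalClosure_le_normal hT
    exact hHne (top_le_iff.1 (D.full.ge.trans (moveP_le.2 (le_top.trans h1))))

end Model

end CfsgLib.LocalEven.FFPMin
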