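import Cfsg.Agent.Lib.LocalEven.FFPMin.Lift
import Cfsg.Prelude.Def_BaumannBlocks
import Cfsg.Prelude.Def_PLocal

/-!
A normalised elementary abelian subgroup as a module.
-/

set_option autoImplicit false
set_option linter.unusedSectionVars false

namespace CfsgLib.LocalEven.FFPMin

open CfsgLib.LocalEven.OffenderSL2 (fixP)
open scoped _root_.Classical IsMulCommutative commutatorElement

variable {G : Type*} [Group G] {V : Subgroup G} [IsMulCommutative V]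

/-- A subgroup of the module as a subgroup of the group. -/
def toG (S : AddSubgroup (Additive ↥V)) : Subgroup G := (AddSubgroup.toSubgroup' S).map V.subtype

theorem mem_toG {S : AddSubgroup (Additive ↥V)} {x : G} :
    x ∈ toG S ↔ ∃ h : x ∈ V, Additive.ofMul (⟨x, h⟩ : ↥V) ∈ S := by
  constructor
  · rintro ⟨u, hu, rfl⟩
    exact ⟨u.2, hu⟩
  · rintro ⟨h, hu⟩
    exact ⟨⟨x, h⟩, hu, rfl⟩

theorem toG_mono {S S' : AddSubgroup (Additive ↥V)} (h : S ≤ S') : toG S ≤ toG S' := fun x hx => by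
  obtain ⟨hV, hm⟩ := mem_toG.1 hx
  exact mem_toG.2 ⟨hV, h hm⟩

theorem toG_top : toG (⊤ : AddSubgroup (Additive ↥V)) = V := by
  ext x
  rw [mem_toG]
  exact ⟨fun h => h.1, fun h => ⟨h, trivial⟩⟩

theorem toG_sup (S S' : AddSubgroup (Additive ↥V)) : toG (S ⊔ S') = toG S ⊔ toG S' := by
  simp only [toG, OrderIso.map_sup, Subgroup.map_sup]

theorem toG_iSup {ι : Sort*} (S : ι → AddSubgroup (Additive ↥V)) : toG (⨆ i, S i) = ⨆ i, toG (S i) := by
  simp only [toG, OrderIso.map_iSup, Subgroup.map_iSup]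

theorem card_toG (S : AddSubgroup (Additive ↥V)) : Nat.card (toG S) = Nat.card S := by
  rw [toG, Subgroup.card_map_of_injective V.subtype_injective]
  exact Nat.card_congr { toFun := fun u => ⟨Additive.ofMul u.1, u.2⟩, invFun := fun u => ⟨Additive.toMul u.1, u.2⟩,
                         left_inv := fun _ => rfl, right_inv := fun _ => rfl }

variable {X : Subgroup G} {Q : Type*} [Group Q] [DistribMulAction Q (Additive ↥V)] (π : ↥X →* Q)

/-- The preimage in the ambient group. -/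
def up (E : Subgroup Q) : Subgroup G := (E.comap π).map X.subtype

theorem up_le (E : Subgroup Q) : up π E ≤ X := Subgroup.map_subtype_le _

theorem mem_up {E : Subgroup Q} {g : G} : g ∈ up π E ↔ ∃ h : g ∈ X, π ⟨g, h⟩ ∈ E := by
  constructor
  · rintro ⟨u, hu, rfl⟩
    exact ⟨u.2, hu⟩
  · rintro ⟨h, hu⟩
    exact ⟨⟨g, h⟩, hu, rfl⟩

variable (hsurj : Function.Surjective π)
  (hact : ∀ (x : ↥X) (v : Additive ↥V),
    ((Additive.toMul (π x • v) : ↥V) : G) = (x : G) * ((Additive.toMul v : ↥V) : G) * (x : G)⁻¹)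
include hact

theorem normalizes {g : G} (hg : g ∈ X) {u : G} (hu : u ∈ V) : g * u * g⁻¹ ∈ V := by
  have := hact ⟨g, hg⟩ (Additive.ofMul ⟨u, hu⟩)
  exact this ▸ (Additive.toMul (π ⟨g, hg⟩ • Additive.ofMul (⟨u, hu⟩ : ↥V))).2

theorem fixed_iff (x : ↥X) (v : Additive ↥V) :
    π x • v = v ↔ (x : G) * ((Additive.toMul v : ↥V) : G) = ((Additive.toMul v : ↥V) : G) * (x : G) := by
  rw [← mul_inv_eq_iff_eq_mul, ← hact]
  exact ⟨fun h => by rw [h], fun h => Additive.toMul.injective (Subtype.ext h)⟩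

theorem move_toMul (x : ↥X) (v : Additive ↥V) :
    ((Additive.toMul (π x • v - v) : ↥V) : G) =
      (x : G) * ((Additive.toMul v : ↥V) : G) * (x : G)⁻¹ * ((Additive.toMul v : ↥V) : G)⁻¹ := by
  rw [toMul_sub, Subgroup.coe_div, div_eq_mul_inv, hact]

include hsurj

theorem toG_fix (E : Subgroup Q) : toG (fixP (Additive ↥V) E) = V ⊓ Subgroup.centralizer (up π E : Set G) := by
  ext u
  rw [mem_toG, Subgroup.mem_inf, Subgroup.mem_centralizer_iff]
  constructor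
  · rintro ⟨h, hu⟩
    refine ⟨h, fun g hg => ?_⟩
    obtain ⟨hgX, hgE⟩ := (mem_up π).1 hg
    exact (fixed_iff π hact ⟨g, hgX⟩ _).1 (hu _ hgE)
  · rintro ⟨h, hu⟩
    refine ⟨h, fun q hq => ?_⟩
    obtain ⟨⟨g, hg⟩, rfl⟩ := hsurj q
    exact (fixed_iff π hact _ _).2 (hu g ((mem_up π).2 ⟨hg, hq⟩))

theorem toG_move (E : Subgroup Q) : toG (moveP (Additive ↥V) E) = ⁅V, up π E⁆ := by
  refine le_antisymm ?_ (Subgroup.commutator_le.2 fun v hv g hg => ?_)
  · let K : AddSubgroup (Additive ↥V) :=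
      Subgroup.toAddSubgroup ((⁅V, up π E⁆).subgroupOf V)
    have hK : moveP (Additive ↥V) E ≤ K := moveP_le.2 fun q hq v => by
      obtain ⟨⟨g, hg⟩, rfl⟩ := hsurj q
      show ((Additive.toMul (π ⟨g, hg⟩ • v - v) : ↥V) : G) ∈ ⁅V, up π E⁆
      rw [move_toMul π hact, ← commutatorElement_def, ← commutatorElement_inv]
      exact inv_mem (Subgroup.commutator_mem_commutator (Additive.toMul v).2 ((mem_up π).2 ⟨hg, hq⟩))
    intro u hu
    obtain ⟨h, hm⟩ := mem_toG.1 hu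
    exact hK hm
  · obtain ⟨hgX, hgE⟩ := (mem_up π).1 hg
    rw [commutatorElement_def]
    refine inv_mem_iff.1 (mem_toG.2 ⟨?_, ?_⟩)
    · rw [show (v * g * v⁻¹ * g⁻¹)⁻¹ = g * v * g⁻¹ * v⁻¹ by group]
      exact mul_mem (normalizes π hact hgX hv) (inv_mem hv)
    · have := move_mem (N := Additive ↥V) hgE (Additive.ofMul ⟨v, hv⟩)
      convert this using 1
      refine Additive.toMul.injective (Subtype.ext ?_)
      rw [move_toMul π hact]
      show (v * g * v⁻¹ * g⁻¹)⁻¹ = g * v * g⁻¹ * v⁻¹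
      group

theorem move_le_normalizer (E : Subgroup Q) :
    up π E ≤ Subgroup.normalizer ((⁅V, up π E⁆ : Subgroup G) : Set G) := by
  intro g hg
  have h1 : ∀ a ∈ up π E, ∀ u ∈ ⁅V, up π E⁆, a * u * a⁻¹ ∈ ⁅V, up π E⁆ := by
    intro a ha u hu
    obtain ⟨haX, haE⟩ := (mem_up π).1 ha
    rw [← toG_move π hsurj hact] at hu ⊢
    obtain ⟨huV, hum⟩ := mem_toG.1 hu
    refine mem_toG.2 ⟨normalizes π hact haX huV, ?_⟩
    have e : Additive.ofMul (⟨a * u * a⁻¹, normalizes π hact haX huV⟩ : ↥V) =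
        π ⟨a, haX⟩ • Additive.ofMul (⟨u, huV⟩ : ↥V) :=
      Additive.toMul.injective (Subtype.ext (hact ⟨a, haX⟩ (Additive.ofMul ⟨u, huV⟩)).symm)
    rw [e]
    have := add_mem (move_mem haE (Additive.ofMul (⟨u, huV⟩ : ↥V))) hum
    rwa [sub_add_cancel] at this
  refine Subgroup.mem_normalizer_iff.2 fun u => ⟨h1 g hg u, fun hu => ?_⟩
  have := h1 g⁻¹ (inv_mem hg) _ hu
  rwa [show g⁻¹ * (g * u * g⁻¹) * g⁻¹⁻¹ = u by group] at this

/-- The map to the module from a commutator subgroup. -/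
theorem exists_moveHom (E : Subgroup Q) {M : Type*} [AddCommGroup M] (ψ : ↥(moveP (Additive ↥V) E) →+ M) :
    ∃ (ψ' : ↥(⁅V, up π E⁆ : Subgroup G) →* Multiplicative M),
      (∀ u : ↥(⁅V, up π E⁆ : Subgroup G), ∃ m : ↥(moveP (Additive ↥V) E),
        ((Additive.toMul (m : Additive ↥V) : ↥V) : G) = u ∧
        ψ' u = Multiplicative.ofAdd (ψ m)) ∧
      ∀ m : ↥(moveP (Additive ↥V) E), ∃ u : ↥(⁅V, up π E⁆ : Subgroup G),
        (u : G) = ((Additive.toMul (m : Additive ↥V) : ↥V) : G) ∧ ψ' u = Multiplicative.ofAdd (ψ m) := by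
  have hm : ∀ u : ↥(⁅V, up π E⁆ : Subgroup G), ∃ h : (u : G) ∈ V,
      Additive.ofMul (⟨u, h⟩ : ↥V) ∈ moveP (Additive ↥V) E :=
    fun u => mem_toG.1 ((toG_move π hsurj hact E).ge u.2)
  let ψ' : ↥(⁅V, up π E⁆ : Subgroup G) →* Multiplicative M :=
    MonoidHom.mk' (fun u => Multiplicative.ofAdd (ψ ⟨_, (hm u).2⟩)) fun a b => by
      rw [← ofAdd_add, ← map_add]
      exact congrArg (fun z => Multiplicative.ofAdd (ψ z)) (Subtype.ext rfl)
  refine ⟨ψ', fun u => ⟨⟨_, (hm u).2⟩, rfl, rfl⟩, fun m => ?_⟩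
  refine ⟨⟨_, (toG_move π hsurj hact E).le (mem_toG.2 ⟨(Additive.toMul (m : Additive ↥V)).2, m.2⟩)⟩, rfl, ?_⟩
  exact congrArg (fun z => Multiplicative.ofAdd (ψ z)) (Subtype.ext rfl)

omit [DistribMulAction Q (Additive ↥V)] hsurj hact in
/-- The restriction of the map to a preimage. -/
noncomputable def upHom (E : Subgroup Q) : ↥(up π E) →* ↥E where
  toFun g := ⟨π ⟨g, ((mem_up π).1 g.2).1⟩, ((mem_up π).1 g.2).2⟩
  map_one' := Subtype.ext (map_one π)
  map_mul' a b := Subtype.ext (map_mul π ⟨a, _⟩ ⟨b, _⟩)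

omit [DistribMulAction Q (Additive ↥V)] hact in
theorem upHom_surjective (E : Subgroup Q) : Function.Surjective (upHom π E) := fun e => by
  obtain ⟨⟨g, hg⟩, hge⟩ := hsurj e
  exact ⟨⟨g, (mem_up π).2 ⟨hg, hge ▸ e.2⟩⟩, Subtype.ext hge⟩

theorem acts_linear {p n : ℕ} (E : Subgroup Q) (h : IsLinearOn (Additive ↥V) p n E) :
    ∃ (F : Type) (_ : Field F) (_ : Fintype F), Fintype.card F = p ^ n ∧
      (∃ χ : ↥E →* Matrix.SpecialLinearGroup (Fin 2) F, Function.Bijective χ) ∧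
      Cfsg.ActsAsSL2OnSection F ⊤ (up π E) ⁅V, up π E⁆
        (⁅V, up π E⁆ ⊓ Subgroup.centralizer ((up π E : Subgroup G) : Set G)) := by
  obtain ⟨F, iF, iF', hF, ρ, ψ, hρ, hψs, hψ0, hψ⟩ := h
  refine ⟨F, iF, iF', hF, ⟨ρ, hρ⟩, move_le_normalizer π hsurj hact E, inf_le_left, ρ.comp (upHom π E), ?_⟩
  obtain ⟨ψ', hψ'1, hψ'2⟩ := exists_moveHom π hsurj hact E ψ
  refine ⟨ψ', ?_, ?_, ?_, ?_⟩
  · rw [MonoidHom.range_eq_top]
    exact hρ.2.comp (upHom_surjective π hsurj E)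
  · intro w
    obtain ⟨m, hm⟩ := hψs (Multiplicative.toAdd w)
    obtain ⟨u, -, hu⟩ := hψ'2 m
    exact ⟨u, by rw [hu, hm]; rfl⟩
  · intro u
    obtain ⟨m, hm, e⟩ := hψ'1 u
    rw [e, ofAdd_eq_one, hψ0, Subgroup.mem_inf, and_iff_right u.2]
    have h1 := (toG_fix π hsurj hact E)
    constructor
    · intro hf
      rw [← hm]
      exact (h1.le (mem_toG.2 ⟨(Additive.toMul (m : Additive ↥V)).2, hf⟩)).2
    · intro hc
      have hc' : ((Additive.toMul (m : Additive ↥V) : ↥V) : G) ∈ V ⊓ Subgroup.centralizer (up π E : Set G) :=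
        ⟨(Additive.toMul (m : Additive ↥V)).2, hm.symm ▸ hc⟩
      rw [← h1] at hc'
      obtain ⟨_, hm'⟩ := mem_toG.1 hc'
      exact hm'
  · intro e u
    obtain ⟨m, hm, em⟩ := hψ'1 u
    obtain ⟨w, hw, hw'⟩ := hψ (upHom π E e) m
    obtain ⟨u', hu', eu'⟩ := hψ'2 w
    refine ⟨u', ?_, ?_⟩
    · rw [hu', hw]
      show ((Additive.toMul (π ⟨e, _⟩ • (m : Additive ↥V)) : ↥V) : G) = _
      rw [hact, hm]
    · rw [eu', em, toAdd_ofAdd, toAdd_ofAdd, hw']
      rfl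

theorem acts_perm {p n : ℕ} (E : Subgroup Q) (h : IsPermOn (Additive ↥V) p n E) :
    p = 2 ∧ (∃ χ : ↥E →* Equiv.Perm (Fin (2 ^ n + 1)), Function.Bijective χ) ∧
      Cfsg.ActsAsOddPermModuleOnSection (2 ^ n + 1) ⊤ (up π E) ⁅V, up π E⁆
        (⁅V, up π E⁆ ⊓ Subgroup.centralizer ((up π E : Subgroup G) : Set G)) := by
  obtain ⟨hp2, ρ, ψ, hρ, hsum, hψs, hψ0, hψ⟩ := h
  refine ⟨hp2, ⟨ρ, hρ⟩, move_le_normalizer π hsurj hact E, inf_le_left, ρ.comp (upHom π E), ?_⟩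
  obtain ⟨ψ', hψ'1, hψ'2⟩ := exists_moveHom π hsurj hact E ψ
  refine ⟨ψ', ?_, ?_, ?_, ?_, ?_⟩
  · rw [MonoidHom.range_eq_top]
    exact hρ.2.comp (upHom_surjective π hsurj E)
  · intro u
    obtain ⟨m, -, e⟩ := hψ'1 u
    rw [e, toAdd_ofAdd]
    exact hsum m
  · intro v hv
    obtain ⟨m, hm⟩ := hψs v hv
    obtain ⟨u, -, hu⟩ := hψ'2 m
    exact ⟨u, by rw [hu, toAdd_ofAdd, hm]⟩
  · intro u
    obtain ⟨m, hm, e⟩ := hψ'1 u
    rw [e, ofAdd_eq_one, hψ0, Subgroup.mem_inf, and_iff_right u.2]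
    have h1 := (toG_fix π hsurj hact E)
    constructor
    · intro hf
      rw [← hm]
      exact (h1.le (mem_toG.2 ⟨(Additive.toMul (m : Additive ↥V)).2, hf⟩)).2
    · intro hc
      have hc' : ((Additive.toMul (m : Additive ↥V) : ↥V) : G) ∈ V ⊓ Subgroup.centralizer (up π E : Set G) :=
        ⟨(Additive.toMul (m : Additive ↥V)).2, hm.symm ▸ hc⟩
      rw [← h1] at hc'
      obtain ⟨_, hm'⟩ := mem_toG.1 hc'
      exact hm'
  · intro e u
    obtain ⟨m, hm, em⟩ := hψ'1 u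
    obtain ⟨w, hw, hw'⟩ := hψ (upHom π E e) m
    obtain ⟨u', hu', eu'⟩ := hψ'2 w
    refine ⟨u', ?_, fun i => ?_⟩
    · rw [hu', hw]
      show ((Additive.toMul (π ⟨e, _⟩ • (m : Additive ↥V)) : ↥V) : G) = _
      rw [hact, hm]
    · rw [eu', em, toAdd_ofAdd, toAdd_ofAdd, hw']
      rfl

end CfsgLib.LocalEven.FFPMin
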