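import Cfsg.Agent.Lib.LocalEven.FFPMin.Basic
import Mathlib.LinearAlgebra.Matrix.SpecialLinearGroup

/-!
The conclusion of the structure theorem for a `p`-minimal group with an offender, in module language.
-/

set_option autoImplicit false
set_option linter.unusedSectionVars false

namespace CfsgLib.LocalEven.FFPMin

open CfsgLib.LocalEven.OffenderSL2 (fixP)

variable {p : ℕ} {P : Type*} [Group P] {N : Type*} [AddCommGroup N] [DistribMulAction P N]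

variable (N) in
/-- A factor is `SL₂` on its natural module. -/
def IsLinearFactor (p n : ℕ) (E : Subgroup P) : Prop :=
  ∃ (F : Type) (_ : Field F) (_ : Fintype F), Fintype.card F = p ^ n ∧
    ∃ (ρ : ↥E →* Matrix.SpecialLinearGroup (Fin 2) F) (ψ : N →+ (Fin 2 → F)),
      Function.Bijective ρ ∧ Function.Surjective ψ ∧ (∀ m, ψ m = 0 ↔ m ∈ fixP N E) ∧
        ∀ (g : ↥E) (m : N), ψ ((g : P) • m) = (ρ g).1.mulVec (ψ m)

variable (N) in
/-- A factor is a symmetric group on its even weight permutation module. -/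
def IsPermFactor (p n : ℕ) (E : Subgroup P) : Prop :=
  p = 2 ∧ ∃ (ρ : ↥E →* Equiv.Perm (Fin (2 ^ n + 1))) (ψ : N →+ (Fin (2 ^ n + 1) → ZMod 2)),
    Function.Bijective ρ ∧ (∀ m, ∑ j, ψ m j = 0) ∧
      (∀ v : Fin (2 ^ n + 1) → ZMod 2, ∑ j, v j = 0 → ∃ m, ψ m = v) ∧
      (∀ m, ψ m = 0 ↔ m ∈ fixP N E) ∧
        ∀ (g : ↥E) (m : N) (j : Fin (2 ^ n + 1)), ψ ((g : P) • m) j = ψ m ((ρ g)⁻¹ j)

/-- The decomposition into factors. -/
structure Decomp (D : Model p P N) where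
  /-- The number of factors. -/
  r : ℕ
  r_pos : 1 ≤ r
  /-- The factors. -/
  E : Fin r → Subgroup P
  /-- The index of the fixed points of a root subgroup. -/
  q : ℕ
  /-- The root subgroups. -/
  roots : Set (Subgroup P)
  sep : ∀ i j, i ≠ j → moveP N (E i) ≤ fixP N (E j)
  top : Cfsg.pResidual p P ≤ ⨆ i, E i
  perm : ∀ g i, ∃ j, cj g (E i) = E j
  trans : ∀ i j, ∃ g, cj g (E i) = E j
  rootsInv : ∀ g, ∀ A ∈ roots, cj g A ∈ roots
  rootsTrans : ∀ A ∈ roots, ∀ B ∈ roots, ∃ g, cj g A = B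
  rootIndex : ∀ A ∈ roots, (fixP N A).index = q
  gen : ∀ i, ∃ s : Finset (Subgroup P), ↑s ⊆ roots ∧ s.sup id = E i ∧ q ^ s.card = (fixP N (E i)).index
  offender : ∀ B : Subgroup P, B ≤ (D.T : Subgroup P) → IsOff N p B →
    B ≤ ⨆ i, E i ∧ Nat.card N = Nat.card B * Nat.card (fixP N B) ∧
      ∃ A ∈ roots, A ≤ B ∧
        fixP N A ≤ AddSubgroup.closure {m | ∃ g, cj g A = A ∧ ∃ n ∈ fixP N B, g • n = m}
  kind : ∀ i, ∃ n, 1 ≤ n ∧ (IsLinearFactor N p n (E i) ∨ IsPermFactor N p n (E i))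
  lift : (q = 2 ∧ ∃ X : Finset (Subgroup P), ↑X ⊆ roots ∧ (∀ A ∈ X, Nat.card A = 2) ∧
      (∀ t ∈ (D.T : Subgroup P), ∀ A ∈ X, cj t A ∈ X) ∧
      ∀ c : Subgroup P → N, (∀ A ∈ X, c A ∈ moveP N A ∧ c A ≠ 0) → ∑ A ∈ X, c A ≠ 0) ∨
    ∃ H J : Subgroup P, J ≤ H ∧ H ≤ (⨆ i, E i) ∧ (∃ s ⊆ roots, sSup s = J) ∧ ¬ p ∣ J.relIndex H ∧
      (∀ t ∈ (D.T : Subgroup P), cj t H = H ∧ cj t J = J) ∧ (∀ h ∈ H, cj h J = J) ∧
      fixP N J ≠ ⊥ ∧ fixP N J ⊓ fixP N H = ⊥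

end CfsgLib.LocalEven.FFPMin
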