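import Cfsg.Agent.Lib.LocalEven.FFPMin.Unique
import Cfsg.Agent.Lib.LocalEven.FFPMin.Decomp

/-!
The translates of the pair by the Sylow subgroup are the factors.
-/

set_option autoImplicit false
set_option linter.unusedSectionVars false

namespace CfsgLib.LocalEven.FFPMin

open CfsgLib.LocalEven.OffenderSL2 (fixP)
open scoped _root_.Classical Pointwise

variable {p : ℕ} [hp : Fact p.Prime] {P : Type*} [Group P] [Finite P] {N : Type*} [AddCommGroup N]
  [DistribMulAction P N] [Finite N]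

theorem moveP_cj (g : P) (X : Subgroup P) :
    moveP N (cj g X) = (moveP N X).map (DistribSMul.toAddMonoidHom N g) := by
  apply le_antisymm
  · intro m hm
    refine AddSubgroup.mem_map.2 ⟨g⁻¹ • m, ?_, smul_inv_smul g m⟩
    have := smul_mem_moveP_cj (g := g⁻¹) hm
    rwa [cj_inv_cj] at this
  · rintro _ ⟨m, hm, rfl⟩
    exact smul_mem_moveP_cj hm

theorem commute_of_moves (faith : ∀ g : P, (∀ n : N, g • n = n) → g = 1) {X Y : Subgroup P}
    (h1 : moveP N X ≤ fixP N Y) (h2 : moveP N Y ≤ fixP N X) {a b : P} (ha : a ∈ X) (hb : b ∈ Y) :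
    a * b = b * a := by
  refine inv_mul_eq_one.1 (faith _ fun n => ?_)
  rw [mul_smul, inv_smul_eq_iff, mul_smul, mul_smul]
  have e1 := h2 (move_mem hb n) a ha
  have e2 := h1 (move_mem ha n) b hb
  rw [smul_sub, sub_eq_iff_eq_add] at e1 e2
  rw [e1, e2]
  abel

theorem cj_eq_of_commute {g : P} {X : Subgroup P} (h : ∀ x ∈ X, g * x = x * g) : cj g X = X := by
  refine Subgroup.eq_of_le_of_card_ge ?_ (card_cj g X).ge
  rintro _ ⟨x, hx, rfl⟩
  show g * x * g⁻¹ ∈ X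
  rwa [h x hx, mul_inv_cancel_right]

theorem moveP_ne_bot (faith : ∀ g : P, (∀ n : N, g • n = n) → g = 1) {X : Subgroup P} (h : X ≠ ⊥) :
    moveP N X ≠ ⊥ := fun e => h ((Subgroup.eq_bot_iff_forall _).2 fun a ha => faith a fun n => by
  have := e.le (move_mem ha n)
  rwa [AddSubgroup.mem_bot, sub_eq_zero] at this)

theorem card_mul_card_fix_of_disjoint {X Y : AddSubgroup N} (h : X ⊓ Y = ⊥) :
    Nat.card X * Nat.card Y = Nat.card (X ⊔ Y : AddSubgroup N) := by
  have := OffenderSL2.Hyp.card_sup_mul (X := X) (Y := Y)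
  rw [h, AddSubgroup.card_bot, mul_one] at this
  exact this.symm

namespace Setup

variable {D : Model p P N} {F : Fam p P N} (S : Setup D F) {f : Subgroup P} (hf : S.Out f)
include hf

theorem pair : S.IsPair S.A f := S.inA.isPair hf

theorem notM_L : ¬ S.A ⊔ f ≤ D.M := fun e => hf.notM (le_sup_right.trans e)

theorem fixed_pair : ∀ t ∈ (D.T : Subgroup P) ⊓ S.G0, FFPMin.cj t (S.A ⊔ f) = S.A ⊔ f :=
  fun _ ht => cj_pair hf ht.2

theorem moveA_inf : moveP N S.A ⊓ fixP N (S.A ⊔ f : Subgroup P) = ⊥ :=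
  S.move_inf_eq_bot hf (S.fixed_pair hf)

theorem moveA_sup : moveP N S.A ⊔ fixP N (S.A ⊔ f : Subgroup P) = fixP N S.A :=
  le_antisymm (sup_le (moveP_le.2 fun a ha n => (S.memA.isMin.quad D.expN) a ha n)
    (fixP_anti le_sup_left)) (S.pair hf).axis_move

theorem card_moveA : Nat.card (moveP N S.A) = Nat.card S.A := by
  have h := card_mul_card_fix_of_disjoint (S.moveA_inf hf)
  rw [S.moveA_sup hf, ← (S.pair hf).facts.card] at h
  exact Nat.eq_of_mul_eq_mul_right Nat.card_pos h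

theorem exists_conj_f : ∃ x ∈ S.A ⊔ f, x ∈ S.G0 ∧ FFPMin.cj x S.A = f := by
  obtain ⟨x, hx, hxf⟩ := (S.pair hf).facts.mem f hf.mem le_sup_right
  exact ⟨x, hx, (S.pair hf).le0 hx, hxf⟩

theorem smul_mem_C {g : P} (hg : g ∈ S.A ⊔ f) {n : N} :
    g • n ∈ fixP N (S.A ⊔ f : Subgroup P) ↔ n ∈ fixP N (S.A ⊔ f : Subgroup P) := by
  constructor
  · intro h
    have := h _ (inv_mem hg)
    rw [inv_smul_smul] at this
    exact this ▸ h
  · intro h
    rw [h g hg]
    exact h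

theorem card_N : Nat.card N = Nat.card S.A * Nat.card S.A * Nat.card (fixP N (S.A ⊔ f : Subgroup P)) := by
  have hF := (S.pair hf).facts
  have h := OffenderSL2.Hyp.card_sup_mul (X := fixP N S.A) (Y := fixP N f)
  rw [hF.sup, AddSubgroup.card_top, ← fixP_sup, card_fix_mem hf.mem, ← card_fix_mem S.memA, ← hF.card] at h
  refine Nat.eq_of_mul_eq_mul_right (Nat.card_pos (α := fixP N (S.A ⊔ f : Subgroup P))) (h.trans ?_)
  ring

theorem moveL_sup : moveP N (S.A ⊔ f : Subgroup P) ⊔ fixP N (S.A ⊔ f : Subgroup P) = ⊤ := by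
  refine top_le_iff.1 ((S.pair hf).facts.sup.ge.trans (sup_le ?_ ?_))
  · rw [← S.moveA_sup hf]
    exact sup_le (le_sup_of_le_left (moveP_mono le_sup_left)) le_sup_right
  · intro n hn
    obtain ⟨x, hx, -, hxf⟩ := S.exists_conj_f hf
    rw [← hxf, mem_fixP_cj, ← S.moveA_sup hf, AddSubgroup.mem_sup] at hn
    obtain ⟨m, hm, c, hc, e⟩ := hn
    rw [← smul_inv_smul x n, ← e, smul_add]
    refine add_mem (AddSubgroup.mem_sup_left ?_) (AddSubgroup.mem_sup_right ((S.smul_mem_C hf hx).2 hc))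
    have := smul_mem_moveP_cj (g := x) hm
    rw [hxf] at this
    exact moveP_mono le_sup_right this

theorem moveL_inf : moveP N (S.A ⊔ f : Subgroup P) ⊓ fixP N (S.A ⊔ f : Subgroup P) = ⊥ := by
  have hM : Nat.card (moveP N (S.A ⊔ f : Subgroup P)) ≤ Nat.card S.A * Nat.card S.A := by
    obtain ⟨x, -, -, hxf⟩ := S.exists_conj_f hf
    have e := OffenderSL2.Hyp.card_sup_mul (X := moveP N S.A) (Y := moveP N f)
    have e' : Nat.card (moveP N f) = Nat.card (moveP N S.A) := by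
      rw [← hxf, moveP_cj]
      exact Nat.card_congr ((moveP N S.A).equivMapOfInjective _ (MulAction.injective x)).toEquiv.symm
    rw [← moveP_sup, e', S.card_moveA hf] at e
    exact le_trans (Nat.le_mul_of_pos_right _ Nat.card_pos) e.le
  have h := OffenderSL2.Hyp.card_sup_mul (X := moveP N (S.A ⊔ f : Subgroup P))
    (Y := fixP N (S.A ⊔ f : Subgroup P))
  rw [S.moveL_sup hf, AddSubgroup.card_top, S.card_N hf] at h
  refine AddSubgroup.eq_bot_of_card_le _ ?_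
  refine Nat.le_of_mul_le_mul_left ?_ (show 0 < Nat.card S.A * Nat.card S.A * Nat.card (fixP N (S.A ⊔ f : Subgroup P)) from
    Nat.mul_pos (Nat.mul_pos Nat.card_pos Nat.card_pos) Nat.card_pos)
  rw [mul_one, h]
  exact Nat.mul_le_mul_right _ hM

theorem index_fix : (fixP N (S.A ⊔ f : Subgroup P)).index = Nat.card S.A ^ 2 := by
  have h := (fixP N (S.A ⊔ f : Subgroup P)).card_mul_index
  rw [S.card_N hf] at h
  refine Nat.eq_of_mul_eq_mul_left (Nat.card_pos (α := fixP N (S.A ⊔ f : Subgroup P))) (h.trans ?_)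
  ring

theorem index_fix_A : (fixP N S.A).index = Nat.card S.A := by
  have h := (fixP N S.A).card_mul_index
  rw [S.card_N hf, ← (S.pair hf).facts.card] at h
  exact Nat.eq_of_mul_eq_mul_left (Nat.mul_pos (Nat.card_pos (α := S.A))
    (Nat.card_pos (α := fixP N (S.A ⊔ f : Subgroup P)))) (h.trans (by ring))

theorem L_cases {c : Subgroup P} (hc : F.Mem c) (hcL : c ≤ S.A ⊔ f) : c = S.A ∨ S.Out c := by
  obtain ⟨l, hl, rfl⟩ := (S.pair hf).facts.mem c hc hcL
  exact (S.inA.cj_cases ((S.pair hf).le0 hl)).imp_left fun h => h.eq_A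

theorem out_transitive {c : Subgroup P} (hc : S.Out c) : ∃ a ∈ S.A, FFPMin.cj a f = c := by
  have hP := S.pair hf
  have hF := hP.facts
  have hcL : c ≤ S.A ⊔ f := le_sup_right.trans (hc.sup_eq hf).le
  obtain ⟨v, hv, hvC⟩ : ∃ v ∈ fixP N c, v ∉ fixP N (S.A ⊔ f : Subgroup P) := by
    obtain ⟨s, hs, hsC⟩ := (S.pair hc).facts.exists_notC S.memA hc.mem
    exact ⟨s, hs, by rwa [hf.sup_eq hc]⟩
  obtain ⟨u, hu, y, hy, e⟩ := AddSubgroup.mem_sup.1 (hF.sup.ge (AddSubgroup.mem_top v))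
  have hyC : y ∉ fixP N (S.A ⊔ f : Subgroup P) := by
    intro h
    have hvA : v ∈ fixP N S.A := e ▸ add_mem hu (fix_sup_eq.1 h).1
    refine hvC ?_
    rw [hf.sup_eq hc]
    exact fix_sup_eq.2 ⟨hvA, hv⟩
  obtain ⟨a, ha, hay⟩ := hF.surjA y hy hyC u hu
  refine ⟨a, ha, (hP.eq_of_common hc.mem hcL (hf.mem.cj a)
    ((cj_mono le_sup_right).trans (cj_eq_of_mem (Subgroup.mem_sup_left ha)).le) hv ?_ hvC).symm⟩
  rw [show v = a • y - (a • y - y - u) by rw [← e]; abel]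
  refine sub_mem (smul_mem_fixP_cj hy) ?_
  exact fixP_anti ((cj_mono le_sup_right).trans (cj_eq_of_mem (Subgroup.mem_sup_left ha)).le) hay

/-- An element of the pair in the maximal subgroup, of order prime to `p`. -/
theorem exists_torus : ∃ (r : ℕ) (h : P), r.Prime ∧ r ≠ p ∧ orderOf h = r ∧ h ∈ S.A ⊔ f ∧ h ∈ D.M := by
  have hP := S.pair hf
  set H := (S.A ⊔ f) ⊓ D.M
  have hnp : ¬ IsPGroup p H := by
    intro hH
    obtain ⟨z, hz, hzH⟩ := exists_isTr_fix hH inf_le_right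
    have key : ∀ y ∈ fixP N S.A, y ∉ fixP N (S.A ⊔ f : Subgroup P) →
        z - y ∈ fixP N (S.A ⊔ f : Subgroup P) := by
      intro y hy hyC
      obtain ⟨l, hl, hlM, hlz⟩ := hP.transitive hz hy hyC
      rwa [hzH l ⟨hl, hlM⟩] at hlz
    let φ : fixP N S.A ⧸ (fixP N (S.A ⊔ f : Subgroup P)).addSubgroupOf (fixP N S.A) → Bool :=
      fun q => decide (q = 0)
    have hφ : Function.Injective φ := by
      intro q1 q2 e
      obtain ⟨⟨v1, hv1⟩, rfl⟩ := QuotientAddGroup.mk'_surjective _ q1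
      obtain ⟨⟨v2, hv2⟩, rfl⟩ := QuotientAddGroup.mk'_surjective _ q2
      simp only [φ, decide_eq_decide] at e
      by_cases h1 : v1 ∈ fixP N (S.A ⊔ f : Subgroup P)
      · have h1' := (QuotientAddGroup.eq_zero_iff
          (N := (fixP N (S.A ⊔ f : Subgroup P)).addSubgroupOf (fixP N S.A)) ⟨v1, hv1⟩).2 h1
        exact h1'.trans (e.1 h1').symm
      · have h2 : v2 ∉ fixP N (S.A ⊔ f : Subgroup P) := fun h2 => h1
          ((QuotientAddGroup.eq_zero_iff (⟨v1, hv1⟩ : fixP N S.A)).1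
            (e.2 ((QuotientAddGroup.eq_zero_iff (⟨v2, hv2⟩ : fixP N S.A)).2 h2)))
        refine QuotientAddGroup.eq.2 ?_
        show -v1 + v2 ∈ fixP N (S.A ⊔ f : Subgroup P)
        have := sub_mem (key v1 hv1 h1) (key v2 hv2 h2)
        rwa [show z - v1 - (z - v2) = -v1 + v2 by abel] at this
    have h2 := Nat.card_le_card_of_injective φ hφ
    rw [Nat.card_eq_fintype_card (α := Bool), Fintype.card_bool] at h2
    have h3 := AddSubgroup.card_eq_card_quotient_mul_card_addSubgroup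
      ((fixP N (S.A ⊔ f : Subgroup P)).addSubgroupOf (fixP N S.A))
    rw [Nat.card_congr (AddSubgroup.addSubgroupOfEquivOfLe (fixP_anti le_sup_left)).toEquiv,
      ← hP.facts.card] at h3
    have := Nat.eq_of_mul_eq_mul_right Nat.card_pos h3
    have := S.memA.three
    omega
  obtain ⟨r, hr, hdvd, hrp⟩ : ∃ r, r.Prime ∧ r ∣ Nat.card H ∧ r ≠ p := by
    by_contra hno
    push Not at hno
    exact hnp (IsPGroup.of_card (Nat.eq_prime_pow_of_unique_prime_dvd Nat.card_pos.ne' fun {d} hd hdd => hno d hd hdd))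
  haveI := Fact.mk hr
  obtain ⟨h, hh⟩ := exists_prime_orderOf_dvd_card' (G := H) r hdvd
  exact ⟨r, h, hr, hrp, (Subgroup.orderOf_coe h).trans hh, h.2.1, h.2.2⟩

/-- Such an element fixes nothing outside the common fixed points. -/
theorem torus_free {r : ℕ} {h : P} (hr : r.Prime) (hrp : r ≠ p) (hord : orderOf h = r) (hL : h ∈ S.A ⊔ f)
    {n : N} (hn : h • n - n ∈ fixP N (S.A ⊔ f : Subgroup P)) : n ∈ fixP N (S.A ⊔ f : Subgroup P) := by
  by_contra hnC
  have hP := S.pair hf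
  obtain ⟨l, hl, hnl⟩ := hP.facts.cover n
  have hmem : l⁻¹ * h * l ∈ S.A := by
    refine hP.facts.stabA _ (mul_mem (mul_mem (inv_mem hl) hL) hl) (l⁻¹ • n) (mem_fixP_cj.1 hnl)
      (fun e => hnC ((S.smul_mem_C hf (inv_mem hl)).1 e)) ?_
    rw [mul_smul, mul_smul, smul_inv_smul, ← smul_sub]
    exact (S.smul_mem_C hf (inv_mem hl)).2 hn
  have h1 := S.memA.pow_eq hmem
  have h2 : h ^ p = 1 := by
    have e : (l⁻¹ * h * l⁻¹⁻¹) ^ p = l⁻¹ * h ^ p * l⁻¹⁻¹ := conj_pow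
    rw [inv_inv] at e
    rw [e] at h1
    rwa [mul_eq_one_iff_eq_inv, mul_eq_left] at h1
  have h3 := orderOf_dvd_of_pow_eq_one h2
  rw [hord] at h3
  exact hrp ((Nat.prime_dvd_prime_iff_eq hr hp.out).1 h3)

omit hf in
theorem mem_G0_of_cj_A {t : P} (ht : t ∈ (D.T : Subgroup P)) (h : FFPMin.cj t S.A = S.A) : t ∈ S.G0 := by
  refine mem_normalizer_iff_cj.2 (Subgroup.eq_of_le_of_card_ge ?_ (card_cj t S.K).ge)
  rw [cj_le_iff]
  conv_lhs => rw [← S.gen]
  refine sSup_le fun c hc => cj_le_iff.1 ?_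
  refine (S.mem_T (hc.1.cj t) ((cj_mono (hc.2.trans S.KT)).trans (cj_eq_of_mem ht).le)).resolve_right
    fun e => S.AK ?_
  rw [← cj_injective t (e.trans h.symm)]
  exact hc.2

theorem cj_L_eq {t : P} (ht : t ∈ (D.T : Subgroup P)) (h : FFPMin.cj t S.A = S.A) :
    FFPMin.cj t (S.A ⊔ f) = S.A ⊔ f :=
  cj_pair hf (S.mem_G0_of_cj_A ht h)

/-- Two different translates of the pair centralise each other. -/
theorem other {t : P} (ht : t ∈ (D.T : Subgroup P)) (hne : FFPMin.cj t S.A ≠ S.A) :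
    moveP N (FFPMin.cj t (S.A ⊔ f)) ≤ fixP N (S.A ⊔ f : Subgroup P) := by
  have hP := S.pair hf
  have hT : ∀ {g : P}, g ∈ (D.T : Subgroup P) → FFPMin.cj g S.A ≠ S.A → FFPMin.cj g S.A ≤ S.K :=
    fun {g} hg hgne => (S.mem_T (S.memA.cj g) ((cj_mono S.AT).trans (cj_eq_of_mem hg).le)).resolve_right hgne
  have hA' : FFPMin.cj t S.A ≤ S.K := hT ht hne
  obtain ⟨r, h, hr, hrp, hord, hhL, hhM⟩ := S.exists_torus hf
  have hhA : FFPMin.cj h S.A = S.A := hP.normalises hhL hhM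
  have hhK : ∀ k ∈ S.K, h * k = k * h := hP.centralises_K.2.2 h hhL
  have hnK : FFPMin.cj h (FFPMin.cj t S.K) = FFPMin.cj t S.K := by
    refine Subgroup.eq_of_le_of_card_ge ?_ (card_cj h _).ge
    rw [cj_cj, cj_le_iff]
    conv_lhs => rw [← S.gen]
    refine sSup_le fun c hc => cj_le_iff.1 ?_
    have hfix : FFPMin.cj h (FFPMin.cj t c) = FFPMin.cj t c := by
      rcases S.mem_T (hc.1.cj t) ((cj_mono (hc.2.trans S.KT)).trans (cj_eq_of_mem ht).le) with e | e
      · exact cj_eq_of_commute fun x hx => hhK x (e hx)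
      · rw [e, hhA]
    rw [← cj_cj, hfix]
    exact cj_mono hc.2
  set g := t⁻¹ * h * t with hg
  have hgG : g ∈ S.G0 := mem_normalizer_iff_cj.2 (by rw [hg, ← cj_cj, ← cj_cj, hnK, cj_inv_cj])
  have hgM : g ∈ D.M := mul_mem (mul_mem (inv_mem (D.le ht)) hhM) (D.le ht)
  have hgord : g ^ r = 1 := by
    have e : (t⁻¹ * h * t⁻¹⁻¹) ^ r = t⁻¹ * h ^ r * t⁻¹⁻¹ := conj_pow
    rw [inv_inv] at e
    rw [hg, e, ← hord, pow_orderOf_eq_one, mul_one, inv_mul_cancel]
  have hgA : ∀ a ∈ S.A, g * a = a * g := by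
    intro a ha
    have := hhK _ (hA' (conj_mem_cj (g := t) ha))
    calc g * a = t⁻¹ * (h * (t * a * t⁻¹)) * t := by rw [hg]; group
      _ = a * g := by rw [this, hg]; group
  have hgA' : FFPMin.cj g S.A = S.A := cj_eq_of_commute hgA
  have hgOut : ∀ c, S.Out c → S.Out (FFPMin.cj g c) := fun c hc =>
    ⟨hc.mem.cj g, cj_le_G0 hgG hc.le0, fun e => hc.notM
      ((cj_le_iff.1 e).trans (cj_eq_of_mem (inv_mem hgM)).le)⟩
  obtain ⟨a, ha, hgf⟩ := S.out_transitive hf (hgOut f hf)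
  have hgf' : FFPMin.cj g f = f := by
    have hpow : ∀ k : ℕ, FFPMin.cj (g ^ k) f = FFPMin.cj (a ^ k) f := by
      intro k
      induction k with
      | zero => rw [pow_zero, pow_zero]
      | succ k ih =>
        rw [pow_succ', ← cj_cj, ih, cj_cj, hgA _ (pow_mem ha k), ← cj_cj, ← hgf, cj_cj, ← pow_succ]
    have h1 := hpow r
    rw [hgord, cj_one] at h1
    have h2 := S.inA.regular hf (pow_mem ha r) h1.symm
    have h3 : a = 1 := by
      rw [← orderOf_eq_one_iff]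
      exact Nat.eq_one_of_dvd_coprimes ((Nat.coprime_primes hr hp.out).2 hrp)
        (orderOf_dvd_of_pow_eq_one h2) (orderOf_dvd_of_pow_eq_one (S.memA.pow_eq ha))
    rw [← hgf, h3, cj_one]
  have hgfix : ∀ c, F.Mem c → c ≤ S.A ⊔ f → FFPMin.cj g c = c := by
    intro c hc hcL
    rcases S.L_cases hf hc hcL with rfl | ho
    · exact hgA'
    obtain ⟨a', ha', rfl⟩ := S.out_transitive hf ho
    rw [cj_cj, hgA a' ha', ← cj_cj, hgf']
  have hgcomf : ∀ b ∈ f, g * b = b * g := by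
    intro b hb
    have hb' : g * b * g⁻¹ ∈ f := by
      have := conj_mem_cj (g := g) hb
      rwa [hgf'] at this
    have hbL : FFPMin.cj b S.A ≤ S.A ⊔ f :=
      (cj_mono le_sup_left).trans (cj_eq_of_mem (Subgroup.mem_sup_right hb)).le
    have e : FFPMin.cj (g * b * g⁻¹) S.A = FFPMin.cj b S.A := by
      conv_lhs => rw [← hgA', cj_cj, inv_mul_cancel_right, ← cj_cj]
      exact hgfix _ (S.memA.cj b) hbL
    have h1 : b⁻¹ * (g * b * g⁻¹) = 1 := S.inA.regular' hf (mul_mem (inv_mem hb) hb') (by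
      rw [← cj_cj, e, cj_inv_cj])
    exact mul_inv_eq_iff_eq_mul.1 (inv_mul_eq_one.1 h1).symm
  have hgL : S.A ⊔ f ≤ Subgroup.centralizer {g} := sup_le
    (fun x hx => Subgroup.mem_centralizer_singleton_iff.2 (hgA x hx).symm)
    (fun x hx => Subgroup.mem_centralizer_singleton_iff.2 (hgcomf x hx).symm)
  set C := fixP N (S.A ⊔ f : Subgroup P)
  have hC : ∀ l ∈ FFPMin.cj t (S.A ⊔ f), ∀ n ∈ C, l • n ∈ C := by
    rintro _ ⟨l, hl, rfl⟩ n hn
    refine S.torus_free hf hr hrp hord hhL ?_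
    have e : g * l = l * g := (Subgroup.mem_centralizer_singleton_iff.1 (hgL hl)).symm
    have e' : h * (t * l * t⁻¹) = t * l * t⁻¹ * h := by
      calc h * (t * l * t⁻¹) = t * (g * l) * t⁻¹ := by rw [hg]; group
        _ = t * l * t⁻¹ * h := by rw [e, hg]; group
    show h • (t * l * t⁻¹) • n - (t * l * t⁻¹) • n ∈ C
    rw [← mul_smul, e', mul_smul, hn h hhL, sub_self]
    exact zero_mem _
  have hA'C : moveP N (FFPMin.cj t S.A) ≤ C := (moveP_mono hA').trans hP.centralises_K.1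
  rw [cj_sup, moveP_sup]
  refine sup_le hA'C ?_
  obtain ⟨x, hx, -, hxf⟩ := S.exists_conj_f hf
  have e : FFPMin.cj t f = FFPMin.cj (t * x * t⁻¹) (FFPMin.cj t S.A) := by
    rw [cj_cj, inv_mul_cancel_right, ← cj_cj, hxf]
  rw [e, moveP_cj]
  rintro _ ⟨m, hm, rfl⟩
  exact hC _ (conj_mem_cj hx) m (hA'C hm)

theorem other_both {s t : P} (hs : s ∈ (D.T : Subgroup P)) (ht : t ∈ (D.T : Subgroup P))
    (hne : FFPMin.cj s S.A ≠ FFPMin.cj t S.A) :
    moveP N (FFPMin.cj t (S.A ⊔ f)) ≤ fixP N (FFPMin.cj s (S.A ⊔ f)) := by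
  intro m hm
  rw [mem_fixP_cj]
  refine S.other hf (t := s⁻¹ * t) (mul_mem (inv_mem hs) ht) (fun e => hne ?_) ?_
  · conv_lhs => rw [← e, cj_cj, mul_inv_cancel_left]
  · have := smul_mem_moveP_cj (g := s⁻¹) hm
    rwa [cj_cj] at this

theorem residual_le : Cfsg.pResidual p P ≤
    ⨆ t : ↥(D.T : Subgroup P), FFPMin.cj (t : P) (S.A ⊔ f) := by
  set Y := ⨆ t : ↥(D.T : Subgroup P), FFPMin.cj (t : P) (S.A ⊔ f) with hY
  have hYM : ¬ Y ≤ D.M := fun e => S.notM_L hf
    (le_trans (le_of_eq (by rw [Subgroup.coe_one, cj_one]))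
      ((le_iSup (fun t : ↥(D.T : Subgroup P) => FFPMin.cj (t : P) (S.A ⊔ f)) 1).trans e))
  refine D.residual_le_of_normal (Subgroup.normalizer_eq_top_iff.1 ?_) hYM
  by_contra hne
  refine hYM (Subgroup.le_normalizer.trans (D.le_M hne fun s hs => mem_normalizer_iff_cj.2
    (Subgroup.eq_of_le_of_card_ge ?_ (card_cj s Y).ge)))
  rw [hY, FFPMin.cj, Subgroup.map_iSup]
  exact iSup_le fun t => le_trans (cj_cj s (t : P) _).le
    (le_iSup (fun t : ↥(D.T : Subgroup P) => FFPMin.cj (t : P) (S.A ⊔ f)) ⟨s * t, mul_mem hs t.2⟩)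

theorem members {d : Subgroup P} (hd : F.Mem d) (hdT : d ≤ (D.T : Subgroup P)) :
    ∃ t ∈ (D.T : Subgroup P), FFPMin.cj t S.A = d := by
  by_contra hno
  push Not at hno
  refine moveP_ne_bot D.faith hd.ne_bot (AddSubgroup.eq_bot_iff_forall _ |>.2 fun m hm => ?_)
  refine D.cfix m fun g hg => ?_
  have h1 : m ∈ fixP N (⨆ t : ↥(D.T : Subgroup P), FFPMin.cj (t : P) (S.A ⊔ f)) := by
    rw [fixP_iSup, AddSubgroup.mem_iInf]
    intro t
    rw [mem_fixP_cj]
    refine (S.pair hf).centralises_K.1 (moveP_mono ?_ (smul_mem_moveP_cj hm))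
    refine (S.mem_T (hd.cj _) ((cj_mono hdT).trans (cj_eq_of_mem (inv_mem t.2)).le)).resolve_right
      fun e => hno t t.2 ?_
    rw [← e, cj_cj_inv]
  exact h1 g (S.residual_le hf hg)

omit hf in
/-- The members in the Sylow subgroup. -/
abbrev Ix (_S : Setup D F) : Type _ := {d : Subgroup P // F.Mem d ∧ d ≤ (D.T : Subgroup P)}

/-- An element of the Sylow subgroup carrying the member to a given one. -/
noncomputable def tt (d : S.Ix) : P := Classical.choose (S.members hf d.2.1 d.2.2)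

theorem tt_mem (d : S.Ix) : S.tt hf d ∈ (D.T : Subgroup P) :=
  (Classical.choose_spec (S.members hf d.2.1 d.2.2)).1

theorem cj_tt (d : S.Ix) : FFPMin.cj (S.tt hf d) S.A = d.1 :=
  (Classical.choose_spec (S.members hf d.2.1 d.2.2)).2

/-- The factor belonging to a member in the Sylow subgroup. -/
noncomputable def fac (d : S.Ix) : Subgroup P := FFPMin.cj (S.tt hf d) (S.A ⊔ f)

theorem le_fac (d : S.Ix) : d.1 ≤ S.fac hf d := (S.cj_tt hf d).ge.trans (cj_mono le_sup_left)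

theorem fac_eq {t : P} (ht : t ∈ (D.T : Subgroup P)) {d : S.Ix} (h : FFPMin.cj t S.A = d.1) :
    S.fac hf d = FFPMin.cj t (S.A ⊔ f) := by
  have h1 := S.cj_L_eq hf (t := t⁻¹ * S.tt hf d) (mul_mem (inv_mem ht) (S.tt_mem hf d))
    (by rw [← cj_cj, S.cj_tt hf d, ← h, cj_inv_cj])
  conv_rhs => rw [← h1, cj_cj, mul_inv_cancel_left]
  rfl

theorem cj_fac {t : P} (ht : t ∈ (D.T : Subgroup P)) (d e : S.Ix) (h : FFPMin.cj t d.1 = e.1) :
    FFPMin.cj t (S.fac hf d) = S.fac hf e := by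
  rw [S.fac_eq hf (mul_mem ht (S.tt_mem hf d)) (d := e) (by rw [← cj_cj, S.cj_tt hf d, h]), ← cj_cj]
  rfl

theorem sep {d e : S.Ix} (hne : d ≠ e) : moveP N (S.fac hf d) ≤ fixP N (S.fac hf e) :=
  S.other_both hf (S.tt_mem hf e) (S.tt_mem hf d) fun h => hne (Subtype.ext (by
    rw [← S.cj_tt hf d, ← S.cj_tt hf e, h]))

theorem sep_commute {d e : S.Ix} (hne : d ≠ e) {a b : P} (ha : a ∈ S.fac hf d) (hb : b ∈ S.fac hf e) :
    a * b = b * a :=
  commute_of_moves D.faith (S.sep hf hne) (S.sep hf hne.symm) ha hb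

theorem residual_le_fac : Cfsg.pResidual p P ≤ ⨆ d, S.fac hf d := by
  refine (S.residual_le hf).trans (iSup_le fun t => ?_)
  exact le_trans (S.fac_eq hf t.2
    (d := ⟨_, S.memA.cj (t : P), (cj_mono S.AT).trans (cj_eq_of_mem t.2).le⟩) rfl).ge (le_iSup (S.fac hf) _)

theorem fac_normal : (⨆ d, S.fac hf d).Normal := by
  have hE : ¬ (⨆ d, S.fac hf d) ≤ D.M := fun e => S.notM_L hf (by
    refine le_trans ?_ ((le_iSup (S.fac hf) ⟨S.A, S.memA, S.AT⟩).trans e)
    exact ((S.fac_eq hf (one_mem _) (d := ⟨S.A, S.memA, S.AT⟩) (cj_one _)).trans (cj_one _)).ge)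
  refine Subgroup.normalizer_eq_top_iff.1 ?_
  by_contra hne
  refine hE (Subgroup.le_normalizer.trans (D.le_M hne fun t ht => mem_normalizer_iff_cj.2
    (Subgroup.eq_of_le_of_card_ge ?_ (card_cj t _).ge)))
  rw [FFPMin.cj, Subgroup.map_iSup]
  exact iSup_le fun d => (S.cj_fac hf ht d ⟨_, d.2.1.cj t, (cj_mono d.2.2).trans (cj_eq_of_mem ht).le⟩ rfl).le.trans
    (le_iSup (S.fac hf) _)

theorem fac_sup_T : (⨆ d, S.fac hf d) ⊔ (D.T : Subgroup P) = ⊤ := by
  by_contra hne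
  exact S.notM_L hf ((le_trans ((S.fac_eq hf (one_mem _) (d := ⟨S.A, S.memA, S.AT⟩) (cj_one _)).trans
    (cj_one _)).ge ((le_iSup (S.fac hf) _).trans le_sup_left)).trans (D.le_M hne le_sup_right))

theorem cj_fac_self {g : P} (hg : g ∈ ⨆ d, S.fac hf d) (d : S.Ix) : FFPMin.cj g (S.fac hf d) = S.fac hf d := by
  refine mem_normalizer_iff_cj.1 ((iSup_le fun e => ?_ : _ ≤ Subgroup.normalizer (S.fac hf d : Set P)) hg)
  rcases eq_or_ne e d with rfl | hne
  · exact Subgroup.le_normalizer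
  · exact fun b hb => mem_normalizer_iff_cj.2 (cj_eq_of_commute fun x hx => S.sep_commute hf hne hb hx)

theorem perm (g : P) (d : S.Ix) : ∃ e, FFPMin.cj g (S.fac hf d) = S.fac hf e := by
  haveI := S.fac_normal hf
  have hg : g ∈ ((⨆ d, S.fac hf d : Subgroup P) : Set P) * ((D.T : Subgroup P) : Set P) := by
    rw [← Subgroup.normal_mul, S.fac_sup_T hf]
    trivial
  obtain ⟨ε, hε, t, ht, rfl⟩ := hg
  let e : S.Ix := ⟨FFPMin.cj t d.1, d.2.1.cj t, (cj_mono d.2.2).trans (cj_eq_of_mem ht).le⟩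
  refine ⟨e, ?_⟩
  show FFPMin.cj (ε * t) _ = _
  rw [← cj_cj, S.cj_fac hf ht d e rfl, S.cj_fac_self hf hε]

theorem fac_trans (d e : S.Ix) : ∃ g, FFPMin.cj g (S.fac hf d) = S.fac hf e :=
  ⟨S.tt hf e * (S.tt hf d)⁻¹, by rw [fac, cj_cj, inv_mul_cancel_right]; rfl⟩

theorem span : ⨆ d, moveP N (S.fac hf d) = ⊤ := by
  rw [← moveP_iSup]
  exact top_le_iff.1 (D.full.ge.trans (moveP_mono (S.residual_le_fac hf)))

theorem eq_zero_of_fixed {n : N} (h : ∀ d, n ∈ fixP N (S.fac hf d)) : n = 0 :=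
  D.cfix n fun g hg => (by rw [fixP_iSup, AddSubgroup.mem_iInf]; exact h : n ∈ fixP N (⨆ d, S.fac hf d)) g
    (S.residual_le_fac hf hg)

theorem move_fac (d : S.Ix) {n : N} :
    n ∈ moveP N (S.fac hf d) ↔ (S.tt hf d)⁻¹ • n ∈ moveP N (S.A ⊔ f : Subgroup P) := by
  constructor
  · intro h
    have := smul_mem_moveP_cj (g := (S.tt hf d)⁻¹) h
    rwa [fac, cj_inv_cj] at this
  · intro h
    have := smul_mem_moveP_cj (g := S.tt hf d) h
    rwa [smul_inv_smul] at this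

theorem move_mem_d (d : S.Ix) {n : N} :
    n ∈ moveP N d.1 ↔ (S.tt hf d)⁻¹ • n ∈ moveP N S.A := by
  constructor
  · intro h
    have := smul_mem_moveP_cj (g := (S.tt hf d)⁻¹) h
    rwa [← S.cj_tt hf d, cj_inv_cj] at this
  · intro h
    have := smul_mem_moveP_cj (g := S.tt hf d) h
    rwa [smul_inv_smul, S.cj_tt hf d] at this

theorem fac_inf (d : S.Ix) : moveP N (S.fac hf d) ⊓ fixP N (S.fac hf d) = ⊥ := by
  refine (AddSubgroup.eq_bot_iff_forall _).2 fun n hn => ?_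
  have := (AddSubgroup.eq_bot_iff_forall _).1 (S.moveL_inf hf) ((S.tt hf d)⁻¹ • n)
    ⟨(S.move_fac hf d).1 hn.1, mem_fixP_cj.1 hn.2⟩
  rwa [smul_eq_zero_iff_eq] at this

theorem stab_fac (d : S.Ix) {l : P} (hl : l ∈ S.fac hf d) {v : N} (hv : v ∈ fixP N d.1)
    (hvC : v ∉ fixP N (S.fac hf d)) (hlv : l • v - v ∈ fixP N (S.fac hf d)) : l ∈ d.1 := by
  set t := S.tt hf d with ht
  have hv' : t⁻¹ • v ∈ fixP N S.A := by
    rwa [← S.cj_tt hf d, mem_fixP_cj] at hv
  have h := (S.pair hf).facts.stabA (t⁻¹ * l * t) (mem_cj.1 hl) (t⁻¹ • v) hv'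
    (fun e => hvC (mem_fixP_cj.2 e)) (by
      rw [mul_smul, mul_smul, smul_inv_smul, ← smul_sub]
      exact mem_fixP_cj.1 hlv)
  rw [← S.cj_tt hf d, mem_cj]
  exact h

theorem exists_elem_fac (d : S.Ix) {b : P} (hbp : b ^ p = 1) (hbd : FFPMin.cj b d.1 = d.1)
    (hbL : FFPMin.cj b (S.fac hf d) = S.fac hf d)
    (hbU : ∀ u ∈ fixP N d.1, b • u - u ∈ fixP N (S.fac hf d)) :
    ∃ a ∈ d.1, ∀ n : N, b • n - a • n ∈ fixP N (S.fac hf d) := by
  set t := S.tt hf d with ht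
  have hcjc : ∀ X : Subgroup P, FFPMin.cj b (FFPMin.cj t X) = FFPMin.cj t X →
      FFPMin.cj (t⁻¹ * b * t) X = X := fun X e => by
    rw [← cj_cj, ← cj_cj, e, cj_inv_cj]
  have hp' : (t⁻¹ * b * t) ^ p = 1 := by
    have e : (t⁻¹ * b * t⁻¹⁻¹) ^ p = t⁻¹ * b ^ p * t⁻¹⁻¹ := conj_pow
    rw [inv_inv] at e
    rw [e, hbp, mul_one, inv_mul_cancel]
  obtain ⟨a, ha, h⟩ := (S.pair hf).exists_elem hp' (hcjc _ (by rw [S.cj_tt hf d, hbd])) (hcjc _ hbL) (by
    intro u hu
    have h1 := mem_fixP_cj.1 (hbU (t • u) (by rw [← S.cj_tt hf d]; exact smul_mem_fixP_cj hu))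
    rwa [smul_sub, inv_smul_smul, ← mul_smul, ← mul_smul] at h1)
  refine ⟨t * a * t⁻¹, (S.cj_tt hf d).le (conj_mem_cj ha), fun n => mem_fixP_cj.2 ?_⟩
  have := h (t⁻¹ • n)
  rw [← ht, smul_sub, ← mul_smul, ← mul_smul, show t⁻¹ * (t * a * t⁻¹) = a * t⁻¹ by group]
  rwa [← mul_smul, ← mul_smul, show t⁻¹ * b * t * t⁻¹ = t⁻¹ * b by group] at this

/-- An element acting on every factor as an element of its member lies in the group they generate. -/
theorem mem_J {b : P} (h : ∀ d : S.Ix, ∃ a ∈ d.1, ∀ n : N, b • n - a • n ∈ fixP N (S.fac hf d)) :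
    b ∈ ⨆ d : S.Ix, d.1 := by
  choose a ha h using h
  haveI : Fintype S.Ix := Fintype.ofFinite _
  have key : ∀ s : Finset S.Ix, ∃ j ∈ ⨆ d : S.Ix, d.1,
      (∀ d ∈ s, ∀ n : N, b • n - j • n ∈ fixP N (S.fac hf d)) ∧
        ∀ d ∉ s, ∀ n : N, j • n - n ∈ fixP N (S.fac hf d) := by
    intro s
    induction s using Finset.induction_on with
    | empty => exact ⟨1, one_mem _, fun d hd => absurd hd (Finset.notMem_empty d),
        fun d _ n => by rw [one_smul, sub_self]; exact zero_mem _⟩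
    | @insert d0 s hd0 ih =>
      obtain ⟨j, hj, hj1, hj2⟩ := ih
      have haL := S.le_fac hf d0 (ha d0)
      have hmove : ∀ d, d ≠ d0 → ∀ m : N, a d0 • m - m ∈ fixP N (S.fac hf d) := fun d hd m =>
        S.sep hf hd.symm (move_mem haL m)
      refine ⟨a d0 * j, mul_mem (le_iSup (fun d : S.Ix => d.1) d0 (ha d0)) hj, fun d hd n => ?_,
        fun d hd n => ?_⟩
      · rcases Finset.mem_insert.1 hd with rfl | hd
        · have h1 := h d n
          have h2 := hj2 d hd0 n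
          have h3 : a d • (j • n - n) = j • n - n := h2 _ haL
          have := sub_mem h1 h2
          rw [← h3, smul_sub] at this
          rw [mul_smul]
          convert this using 1
          abel
        · have hne : d ≠ d0 := fun e => hd0 (e ▸ hd)
          have := sub_mem (hj1 d hd n) (hmove d hne (j • n))
          rw [mul_smul]
          convert this using 1
          abel
      · rw [Finset.mem_insert, not_or] at hd
        have := add_mem (hmove d hd.1 (j • n)) (hj2 d hd.2 n)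
        rwa [sub_add_sub_cancel, ← mul_smul] at this
  obtain ⟨j, hj, hj1, -⟩ := key Finset.univ
  suffices b = j by rwa [this]
  refine (inv_mul_eq_one.1 (D.faith (j⁻¹ * b) fun n => ?_)).symm
  rw [mul_smul, inv_smul_eq_iff, ← sub_eq_zero]
  exact S.eq_zero_of_fixed hf fun d => hj1 d (Finset.mem_univ d) n

/-- An element of the product of the factors acts on each factor as one of its elements. -/
theorem local_elem {b : P} (hb : b ∈ ⨆ d, S.fac hf d) (d : S.Ix) :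
    ∃ l ∈ S.fac hf d, ∀ n : N, b • n - l • n ∈ fixP N (S.fac hf d) := by
  refine Subgroup.iSup_induction (fun e => S.fac hf e)
    (C := fun b => ∃ l ∈ S.fac hf d, ∀ n : N, b • n - l • n ∈ fixP N (S.fac hf d)) hb ?_ ?_ ?_
  · intro e x hx
    rcases eq_or_ne e d with rfl | hne
    · exact ⟨x, hx, fun n => by rw [sub_self]; exact zero_mem _⟩
    · exact ⟨1, one_mem _, fun n => by rw [one_smul]; exact S.sep hf hne (move_mem hx n)⟩
  · exact ⟨1, one_mem _, fun n => by rw [sub_self]; exact zero_mem _⟩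
  · intro x y hx hy
    obtain ⟨l, hl, h1⟩ := hx
    obtain ⟨m, hm, h2⟩ := hy
    refine ⟨l * m, mul_mem hl hm, fun n => ?_⟩
    have h3 : l • (y • n - m • n) = y • n - m • n := h2 n l hl
    have := add_mem (h1 (y • n)) (h2 n)
    rw [mul_smul, mul_smul]
    convert this using 1
    rw [← h3, smul_sub]
    abel

theorem v_notC {v : N} (hv : v ∈ fixP N (D.T : Subgroup P)) (hv0 : v ≠ 0) (d : S.Ix) :
    v ∉ fixP N (S.fac hf d) := by
  intro h
  refine S.notM_L hf fun x hx => ?_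
  have h1 := D.stab_le hv hv0 (h _ (conj_mem_cj (g := S.tt hf d) hx))
  have ht := D.le (S.tt_mem hf d)
  have := mul_mem (mul_mem (inv_mem ht) h1) ht
  rwa [show (S.tt hf d)⁻¹ * (S.tt hf d * x * (S.tt hf d)⁻¹) * S.tt hf d = x by group] at this

/-- The Sylow subgroup meets the product of the factors in the group generated by the members. -/
theorem T_inf_le : (D.T : Subgroup P) ⊓ (⨆ d, S.fac hf d) ≤ ⨆ d : S.Ix, d.1 := by
  rintro b ⟨hbT, hbE⟩
  obtain ⟨v, hv, hv0⟩ := D.exists_fixed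
  refine S.mem_J hf fun d => ?_
  obtain ⟨l, hl, h⟩ := S.local_elem hf hbE d
  refine ⟨l, S.stab_fac hf d hl (fixP_anti d.2.2 hv) (S.v_notC hf hv hv0 d) ?_, h⟩
  have := neg_mem (h v)
  rwa [hv b hbT, neg_sub] at this

theorem index_fix_fac (d : S.Ix) : (fixP N (S.fac hf d)).index = Nat.card S.A ^ 2 := by
  have h1 := (fixP N (S.fac hf d)).card_mul_index
  rw [fac, card_fixP_cj, ← (fixP N (S.A ⊔ f : Subgroup P)).card_mul_index, S.index_fix hf] at h1
  exact Nat.eq_of_mul_eq_mul_left (Nat.card_pos (α := fixP N (S.A ⊔ f : Subgroup P))) h1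

theorem index_fix_mem {d : Subgroup P} (hd : F.Mem d) : (fixP N d).index = Nat.card S.A := by
  have h1 := (fixP N d).card_mul_index
  rw [card_fix_mem hd, ← card_fix_mem S.memA, ← (fixP N S.A).card_mul_index, S.index_fix_A hf] at h1
  exact Nat.eq_of_mul_eq_mul_left (Nat.card_pos (α := fixP N S.A)) h1

theorem fac_gen (d : S.Ix) : ∃ s : Finset (Subgroup P), ↑s ⊆ {A | F.Mem A} ∧ s.sup id = S.fac hf d ∧
    Nat.card S.A ^ s.card = (fixP N (S.fac hf d)).index := by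
  refine ⟨{FFPMin.cj (S.tt hf d) S.A, FFPMin.cj (S.tt hf d) f}, ?_, ?_, ?_⟩
  · intro A hA
    rw [Finset.coe_insert, Finset.coe_singleton, Set.mem_insert_iff, Set.mem_singleton_iff] at hA
    rcases hA with rfl | rfl
    · exact S.memA.cj _
    · exact hf.mem.cj _
  · rw [Finset.sup_insert, Finset.sup_singleton, id, id, ← cj_sup]
    rfl
  · rw [Finset.card_pair, S.index_fix_fac hf]
    exact fun e => hf.notM (cj_injective _ e ▸ S.inA.leM)

theorem fac_linear (d : S.Ix) : ∃ n, 1 ≤ n ∧ IsLinearFactor N p n (S.fac hf d) := by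
  obtain ⟨K, iK, iK', hK, ρ, ψ, hρ, hψ, hψ0, hψc⟩ := (S.pair hf).facts.natural
  obtain ⟨n, hn⟩ := IsPGroup.iff_card.1 S.memA.isPGroup
  have hn1 : 1 ≤ n := by
    rcases Nat.eq_zero_or_pos n with rfl | h
    · exact absurd (Subgroup.card_eq_one.1 (by rw [hn, pow_zero])) S.memA.ne_bot
    · exact h
  set t := S.tt hf d
  let c : ↥(S.fac hf d) →* ↥(S.A ⊔ f : Subgroup P) :=
    { toFun := fun g => ⟨t⁻¹ * g * t, mem_cj.1 g.2⟩
      map_one' := Subtype.ext (by simp)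
      map_mul' := fun g h => Subtype.ext (by
        show t⁻¹ * ((g : P) * h) * t = t⁻¹ * g * t * (t⁻¹ * h * t)
        group) }
  refine ⟨n, hn1, K, iK, iK', hK.trans hn, ρ.comp c, ψ.comp (DistribSMul.toAddMonoidHom N t⁻¹), ?_,
    hψ.comp (MulAction.surjective t⁻¹), fun m => (hψ0 _).trans mem_fixP_cj.symm, fun g m => ?_⟩
  · refine hρ.comp ⟨fun g h e => Subtype.ext ?_, fun g => ⟨⟨t * g * t⁻¹, conj_mem_cj g.2⟩, Subtype.ext ?_⟩⟩
    · have := congrArg Subtype.val e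
      simpa [c] using this
    · show t⁻¹ * (t * g * t⁻¹) * t = g
      group
  · show ψ (t⁻¹ • (g : P) • m) = (ρ (c g)).1.mulVec (ψ (t⁻¹ • m))
    rw [← hψc, ← mul_smul]
    show _ = ψ ((t⁻¹ * (g : P) * t) • t⁻¹ • m)
    rw [← mul_smul, show t⁻¹ * (g : P) * t * t⁻¹ = t⁻¹ * g by group]

theorem torus_sep (d : S.Ix) {n : N} (hn : n ∈ fixP N (S.fac hf d ⊓ D.M : Subgroup P)) :
    n ∈ fixP N (S.fac hf d) := by
  obtain ⟨r, h, hr, hrp, hord, hhL, hhM⟩ := S.exists_torus hf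
  set t := S.tt hf d
  refine mem_fixP_cj.2 (S.torus_free hf hr hrp hord hhL ?_)
  have h1 := hn (t * h * t⁻¹) <| Subgroup.mem_inf.2 ⟨conj_mem_cj hhL,
    mul_mem (mul_mem (D.le (S.tt_mem hf d)) hhM) (inv_mem (D.le (S.tt_mem hf d)))⟩
  rw [show h • t⁻¹ • n - t⁻¹ • n = t⁻¹ • ((t * h * t⁻¹) • n - n) by
    rw [smul_sub, ← mul_smul, ← mul_smul, show t⁻¹ * (t * h * t⁻¹) = h * t⁻¹ by group], h1, sub_self, smul_zero]
  exact zero_mem _

theorem fac_lift : ∃ H J : Subgroup P, J ≤ H ∧ H ≤ (⨆ d, S.fac hf d) ∧ (∃ s ⊆ {A | F.Mem A}, sSup s = J) ∧ ¬ p ∣ J.relIndex H ∧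
    (∀ t ∈ (D.T : Subgroup P), FFPMin.cj t H = H ∧ FFPMin.cj t J = J) ∧ (∀ h ∈ H, FFPMin.cj h J = J) ∧
      fixP N J ≠ ⊥ ∧ fixP N J ⊓ fixP N H = ⊥ := by
  set X : S.Ix → Subgroup P := fun d => S.fac hf d ⊓ D.M
  set H := ⨆ d, X d
  set J := ⨆ d : S.Ix, d.1
  have hdX : ∀ d : S.Ix, d.1 ≤ X d := fun d => le_inf (S.le_fac hf d) (d.2.2.trans D.le)
  have hJH : J ≤ H := iSup_mono hdX
  have hHM : H ≤ D.M := iSup_le fun d => inf_le_right
  have hHE : H ≤ ⨆ d, S.fac hf d := iSup_mono fun d => inf_le_left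
  have hJT : J ≤ (D.T : Subgroup P) := iSup_le fun d => d.2.2
  have hJn : ∀ h ∈ H, FFPMin.cj h J = J := by
    intro h hh
    refine mem_normalizer_iff_cj.1 ((iSup_le fun d => ?_ : H ≤ Subgroup.normalizer (J : Set P)) hh)
    intro x hx
    refine mem_normalizer_iff_cj.2 (Subgroup.eq_of_le_of_card_ge ?_ (card_cj x J).ge)
    rw [cj_le_iff]
    refine iSup_le fun e => cj_le_iff.1 ?_
    rcases eq_or_ne e d with rfl | hne
    · refine le_trans ?_ (le_iSup (fun d : S.Ix => d.1) e)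
      set t := S.tt hf e
      have ht := D.le (S.tt_mem hf e)
      have h1 := (S.pair hf).normalises (mem_cj.1 hx.1) (mul_mem (mul_mem (inv_mem ht) hx.2) ht)
      have h2 := congrArg (FFPMin.cj t) h1
      rw [cj_cj, show t * (t⁻¹ * x * t) = x * t by group, ← cj_cj, S.cj_tt hf e] at h2
      exact h2.le
    · exact (cj_eq_of_commute fun y hy => S.sep_commute hf hne.symm hx.1 (S.le_fac hf e hy)).le.trans
        (le_iSup (fun d : S.Ix => d.1) e)
  have hJp : IsPGroup p J := D.T.isPGroup'.to_le hJT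
  refine ⟨H, J, hJH, hHE, ⟨Set.range fun d : S.Ix => d.1, ?_, sSup_range⟩, ?_, fun t ht => ⟨?_, ?_⟩, hJn, ?_, ?_⟩
  · rintro _ ⟨d, rfl⟩
    exact d.2.1
  · obtain ⟨Q, hQ⟩ := IsPGroup.exists_le_sylow (P := J.subgroupOf H)
      (hJp.comap_of_injective H.subtype Subtype.val_injective)
    obtain ⟨m, -, hm⟩ := D.exists_conj_T (Q.isPGroup'.map H.subtype) ((Subgroup.map_subtype_le _).trans hHM)
    have hle : FFPMin.cj m⁻¹ ((Q : Subgroup H).map H.subtype) ≤ J := by
      refine le_trans (le_inf (cj_le_iff.2 (by rwa [inv_inv])) ?_) (S.T_inf_le hf)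
      haveI := S.fac_normal hf
      exact (cj_mono ((Subgroup.map_subtype_le _).trans hHE)).trans
        (mem_normalizer_iff_cj.1 (by rw [Subgroup.normalizer_eq_top_iff.2 (S.fac_normal hf)]; trivial)).le
    have hcard := Subgroup.card_le_of_le hle
    rw [card_cj, Subgroup.card_map_of_injective H.subtype_injective] at hcard
    have he : J.subgroupOf H = (Q : Subgroup H) := Subgroup.eq_of_le_of_card_ge hQ
      (hcard.trans (Nat.card_congr (Subgroup.subgroupOfEquivOfLe hJH).toEquiv).ge)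
    show ¬ p ∣ (J.subgroupOf H).index
    rw [he]
    exact Q.not_dvd_index
  · refine Subgroup.eq_of_le_of_card_ge ?_ (card_cj t H).ge
    rw [cj_le_iff]
    refine iSup_le fun d => cj_le_iff.1 ?_
    let e : S.Ix := ⟨FFPMin.cj t d.1, d.2.1.cj t, (cj_mono d.2.2).trans (cj_eq_of_mem ht).le⟩
    refine le_trans ?_ (le_iSup X e)
    exact le_inf ((cj_mono inf_le_left).trans (S.cj_fac hf ht d e rfl).le)
      ((cj_mono inf_le_right).trans (cj_eq_of_mem (D.le ht)).le)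
  · refine Subgroup.eq_of_le_of_card_ge ?_ (card_cj t J).ge
    rw [cj_le_iff]
    refine iSup_le fun d => cj_le_iff.1 ?_
    exact le_iSup (fun d : S.Ix => d.1)
      ⟨FFPMin.cj t d.1, d.2.1.cj t, (cj_mono d.2.2).trans (cj_eq_of_mem ht).le⟩
  · obtain ⟨v, hv, hv0⟩ := D.exists_fixed
    exact fun e => hv0 ((AddSubgroup.eq_bot_iff_forall _).1 e v (fixP_anti hJT hv))
  · refine (AddSubgroup.eq_bot_iff_forall _).2 fun n hn => S.eq_zero_of_fixed hf fun d => ?_
    exact S.torus_sep hf d (fixP_anti (le_iSup X d) hn.2)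

end Setup

end CfsgLib.LocalEven.FFPMin
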