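import Cfsg.Agent.Lib.LocalEven.FFPMin.Bridge

/-!
The structure theorem for a group of automorphisms of an elementary abelian subgroup.
-/

set_option autoImplicit false
set_option linter.unusedSectionVars false

namespace CfsgLib.LocalEven.FFPMin

open CfsgLib.LocalEven.OffenderSL2 (fixP)
open scoped _root_.Classical IsMulCommutative

variable {G : Type*} [Group G] [Finite G] {p : ℕ} [hp : Fact p.Prime] {V P : Subgroup G}

/-- The action by conjugation. -/
@[reducible] def conjMod [IsMulCommutative V] (hPV : P ≤ Subgroup.normalizer (V : Set G)) :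
    DistribMulAction ↥P (Additive ↥V) where
  smul g v := Additive.ofMul ⟨(g : G) * ((Additive.toMul v : ↥V) : G) * (g : G)⁻¹,
    (Subgroup.mem_normalizer_iff.1 (hPV g.2) _).1 (Additive.toMul v).2⟩
  one_smul v := Subtype.ext (by
    show ((1 : ↥P) : G) * _ * ((1 : ↥P) : G)⁻¹ = _
    rw [Subgroup.coe_one, one_mul, inv_one, mul_one]
    rfl)
  mul_smul g h v := Subtype.ext (by
    show ((g * h : ↥P) : G) * _ * ((g * h : ↥P) : G)⁻¹ = (g : G) * ((h : G) * _ * (h : G)⁻¹) * (g : G)⁻¹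
    rw [Subgroup.coe_mul]
    group)
  smul_zero g := Subtype.ext (by
    show (g : G) * 1 * (g : G)⁻¹ = 1
    rw [mul_one, mul_inv_cancel])
  smul_add g v w := Subtype.ext (by
    show (g : G) * (((Additive.toMul v : ↥V) : G) * ((Additive.toMul w : ↥V) : G)) * (g : G)⁻¹ =
      (g : G) * ((Additive.toMul v : ↥V) : G) * (g : G)⁻¹ *
        ((g : G) * ((Additive.toMul w : ↥V) : G) * (g : G)⁻¹)
    group)

theorem up_id (E : Subgroup ↥P) : up (MonoidHom.id ↥P) E = E.map P.subtype := by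
  rw [up, Subgroup.comap_id]

theorem exists_off [IsMulCommutative V] (hfaith : P ⊓ Subgroup.centralizer (V : Set G) = ⊥)
    (hPV : P ≤ Subgroup.normalizer (V : Set G)) (hexp : ∀ v ∈ V, v ^ p = 1)
    (hoff : ∃ A : Subgroup G, A ≤ P ∧ ¬ A ≤ Subgroup.centralizer (V : Set G) ∧ Cfsg.IsBestOffenderOn p V A) :
    letI := conjMod hPV
    (∀ g : ↥P, (∀ v : Additive ↥V, g • v = v) → g = 1) ∧ (∀ v : Additive ↥V, p • v = 0) ∧
      ∃ B : Subgroup ↥P, IsOff (Additive ↥V) p B := by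
  letI := conjMod hPV
  have hact : ∀ (x : ↥P) (v : Additive ↥V), ((Additive.toMul ((MonoidHom.id ↥P) x • v) : ↥V) : G) =
      (x : G) * ((Additive.toMul v : ↥V) : G) * (x : G)⁻¹ := fun x v => rfl
  have hid : Function.Surjective (MonoidHom.id ↥P) := fun x => ⟨x, rfl⟩
  obtain ⟨A, hAP, hAC, hmax, hcomm, hpow⟩ := hoff
  have hone : ∀ x ∈ P, x ∈ Subgroup.centralizer (V : Set G) → x = 1 := fun x h1 h2 => by
    have : x ∈ P ⊓ Subgroup.centralizer (V : Set G) := ⟨h1, h2⟩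
    rwa [hfaith, Subgroup.mem_bot] at this
  refine ⟨fun g hg => Subtype.ext (hone g g.2 (Subgroup.mem_centralizer_iff.2 fun v hv => ?_)),
    fun v => Additive.toMul.injective (Subtype.ext (hexp _ (Additive.toMul v).2)), A.subgroupOf P, ?_⟩
  · exact ((fixed_iff (MonoidHom.id ↥P) hact g (Additive.ofMul ⟨v, hv⟩)).1 (hg _)).symm
  have hAmap : (A.subgroupOf P).map P.subtype = A := Subgroup.map_subgroupOf_eq_of_le hAP
  refine ⟨fun e => hAC ?_, fun a ha b hb => Subtype.ext ?_, fun a ha => Subtype.ext ?_, ?_⟩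
  · intro a ha
    have : (⟨a, hAP ha⟩ : ↥P) ∈ A.subgroupOf P := ha
    rw [e, Subgroup.mem_bot] at this
    rw [show a = 1 from congrArg Subtype.val this]
    exact one_mem _
  · have h := hone _ (mul_mem (mul_mem (mul_mem (hAP ha) (hAP hb)) (inv_mem (hAP ha))) (inv_mem (hAP hb)))
      (hcomm (Subgroup.commutator_mem_commutator ha hb))
    rw [mul_inv_eq_one, mul_inv_eq_iff_eq_mul] at h
    exact h
  · rw [Subgroup.coe_pow, Subgroup.coe_one]
    exact hone _ (pow_mem (hAP ha) p) (hpow _ ha)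
  · have e1 := card_toG (fixP (Additive ↥V) (A.subgroupOf P))
    rw [toG_fix (MonoidHom.id ↥P) hid hact, up_id, hAmap] at e1
    rw [Nat.card_congr (Subgroup.subgroupOfEquivOfLe hAP).toEquiv, ← e1]
    refine le_trans (le_of_eq ?_) (hmax ⊥ bot_le)
    rw [Subgroup.card_bot, one_mul, Subgroup.coe_bot, Nat.card_congr Additive.toMul]
    refine Nat.card_congr (MulEquiv.subgroupCongr (le_antisymm (le_inf le_rfl fun v _ => ?_) inf_le_left)).toEquiv
    exact Subgroup.mem_centralizer_iff.2 fun b hb => by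
      rw [Set.mem_singleton_iff.1 hb, one_mul, mul_one]

/-- The structure theorem. -/
theorem structure_thm (hV : Cfsg.IsElementaryAbelian p V) (hPV : P ≤ Subgroup.normalizer (V : Set G))
    (hfaith : P ⊓ Subgroup.centralizer (V : Set G) = ⊥) (hmin : Cfsg.IsPMinimal p ↥P) (T : Sylow p ↥P)
    (hOp : Cfsg.pCore p ↥P = ⊥)
    (hoff : ∃ A : Subgroup G, A ≤ P ∧ ¬ A ≤ Subgroup.centralizer (V : Set G) ∧ Cfsg.IsBestOffenderOn p V A) :
    ∃ (r : ℕ) (E : Fin r → Subgroup G), 1 ≤ r ∧ (∀ i, E i ≤ P) ∧ (∀ i j, i ≠ j → ⁅E i, E j⁆ = ⊥) ∧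
      (∀ i, E i ⊓ (⨆ j ∈ {j | j ≠ i}, E j) = ⊥) ∧ (⨆ i, E i) ⊔ ((T : Subgroup ↥P).map P.subtype) = P ∧
      (∀ i j, ∃ t ∈ ((T : Subgroup ↥P).map P.subtype), (E i).map (MulAut.conj t).toMonoidHom = E j) ∧
      (V ⊓ Subgroup.centralizer (((⨆ i, E i) : Subgroup G) : Set G)) ⊔ (⨆ i, ⁅V, E i⁆) = V ∧
      (∀ i j, i ≠ j → ⁅⁅V, E i⁆, E j⁆ = ⊥) ∧ ∀ i, ∃ n : ℕ, 1 ≤ n ∧
        ((∃ (F : Type) (_ : Field F) (_ : Fintype F), Fintype.card F = p ^ n ∧
            Nonempty (↥(E i) ≃* Matrix.SpecialLinearGroup (Fin 2) F) ∧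
            Cfsg.ActsAsSL2OnSection F ⊤ (E i) ⁅V, E i⁆
              (⁅V, E i⁆ ⊓ Subgroup.centralizer ((E i : Subgroup G) : Set G))) ∨
          (p = 2 ∧ Nonempty (↥(E i) ≃* Equiv.Perm (Fin (2 ^ n + 1))) ∧
            Cfsg.ActsAsOddPermModuleOnSection (2 ^ n + 1) ⊤ (E i) ⁅V, E i⁆
              (⁅V, E i⁆ ⊓ Subgroup.centralizer ((E i : Subgroup G) : Set G)))) := by
  haveI : IsMulCommutative V := hV.1
  letI := conjMod hPV
  obtain ⟨h1, h2, B, hB⟩ := exists_off hfaith hPV hV.2 hoff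
  obtain ⟨Q⟩ := VData.exists_vdecomp (⟨hmin, hOp, h1, h2⟩ : VData p ↥P (Additive ↥V)) T hB
  have hact : ∀ (x : ↥P) (v : Additive ↥V), ((Additive.toMul ((MonoidHom.id ↥P) x • v) : ↥V) : G) =
      (x : G) * ((Additive.toMul v : ↥V) : G) * (x : G)⁻¹ := fun x v => rfl
  have hid : Function.Surjective (MonoidHom.id ↥P) := fun x => ⟨x, rfl⟩
  refine ⟨Q.r, fun i => (Q.E i).map P.subtype, Q.r_pos, fun i => Subgroup.map_subtype_le _, fun i j hij => ?_,
    fun i => ?_, ?_, fun i j => ?_, ?_, fun i j hij => ?_, fun i => ?_⟩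
  · rw [Subgroup.commutator_eq_bot_iff_le_centralizer]
    rintro _ ⟨a, ha, rfl⟩
    rw [Subgroup.mem_centralizer_iff]
    rintro _ ⟨b, hb, rfl⟩
    exact congrArg Subtype.val (Q.commute i j hij a ha b hb).symm
  · have := congrArg (Subgroup.map P.subtype) (Q.disjoint i)
    simpa only [Subgroup.map_inf _ _ _ P.subtype_injective, Subgroup.map_iSup, Subgroup.map_bot] using this
  · rw [← Subgroup.map_iSup, ← Subgroup.map_sup, Q.top, ← MonoidHom.range_eq_map, Subgroup.range_subtype]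
  · obtain ⟨t, ht, e⟩ := Q.trans i j
    refine ⟨(t : G), ⟨t, ht, rfl⟩, ?_⟩
    beta_reduce
    rw [← e, cj, Subgroup.map_map, Subgroup.map_map]
    rfl
  · have := congrArg toG Q.span
    simpa only [toG_sup, toG_iSup, toG_top, toG_fix (MonoidHom.id ↥P) hid hact,
      toG_move (MonoidHom.id ↥P) hid hact, up_id, Subgroup.map_iSup] using this
  · beta_reduce
    rw [Subgroup.commutator_eq_bot_iff_le_centralizer, ← up_id, ← up_id, ← toG_move (MonoidHom.id ↥P) hid hact]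
    refine (toG_mono (Q.sep i j hij)).trans ?_
    rw [toG_fix (MonoidHom.id ↥P) hid hact]
    exact inf_le_right
  · obtain ⟨n, hn, hk⟩ := Q.kind i
    refine ⟨n, hn, ?_⟩
    have e : ↥((Q.E i).map P.subtype) ≃* ↥(Q.E i) :=
      ((Q.E i).equivMapOfInjective _ P.subtype_injective).symm
    rcases hk with h | h
    · obtain ⟨F, iF, iF', hF, ⟨χ, hχ⟩, ha⟩ := acts_linear (MonoidHom.id ↥P) hid hact _ h
      rw [up_id] at ha
      exact Or.inl ⟨F, iF, iF', hF, ⟨e.trans (MulEquiv.ofBijective χ hχ)⟩, ha⟩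
    · obtain ⟨hp2, ⟨χ, hχ⟩, ha⟩ := acts_perm (MonoidHom.id ↥P) hid hact _ h
      rw [up_id] at ha
      exact Or.inr ⟨hp2, ⟨e.trans (MulEquiv.ofBijective χ hχ)⟩, ha⟩

/-- The fixed points of the Sylow subgroup are moved. -/
theorem moves_thm (hV : Cfsg.IsElementaryAbelian p V) (hPV : P ≤ Subgroup.normalizer (V : Set G))
    (hfaith : P ⊓ Subgroup.centralizer (V : Set G) = ⊥) (hmin : Cfsg.IsPMinimal p ↥P)
    (hOp : Cfsg.pCore p ↥P = ⊥)
    (hoff : ∃ A : Subgroup G, A ≤ P ∧ ¬ A ≤ Subgroup.centralizer (V : Set G) ∧ Cfsg.IsBestOffenderOn p V A)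
    (T : Sylow p ↥P) :
    ⁅(V ⊓ Subgroup.centralizer ((((T : Subgroup ↥P).map P.subtype) : Subgroup G) : Set G)), P⁆ ≠ ⊥ := by
  haveI : IsMulCommutative V := hV.1
  letI := conjMod hPV
  obtain ⟨h1, h2, B, hB⟩ := exists_off hfaith hPV hV.2 hoff
  obtain ⟨v, hvT, hvC⟩ := VData.exists_moved (⟨hmin, hOp, h1, h2⟩ : VData p ↥P (Additive ↥V)) T hB
  have hact : ∀ (x : ↥P) (v : Additive ↥V), ((Additive.toMul ((MonoidHom.id ↥P) x • v) : ↥V) : G) =
      (x : G) * ((Additive.toMul v : ↥V) : G) * (x : G)⁻¹ := fun x v => rfl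
  have hid : Function.Surjective (MonoidHom.id ↥P) := fun x => ⟨x, rfl⟩
  intro h
  rw [Subgroup.commutator_eq_bot_iff_le_centralizer, ← up_id, ← toG_fix (MonoidHom.id ↥P) hid hact] at h
  refine hvC fun g _ => ?_
  have := h (mem_toG.2 ⟨(Additive.toMul v).2, hvT⟩)
  exact (fixed_iff (MonoidHom.id ↥P) hact g v).2 (Subgroup.mem_centralizer_iff.1 this g g.2)

end CfsgLib.LocalEven.FFPMin
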