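import Cfsg.Agent.Lib.LocalEven.FFPMin.Translates

/-!
A `p`-group containing the common part contains at most one further member normalising it inside the
maximal subgroup.
-/

set_option autoImplicit false
set_option linter.unusedSectionVars false

namespace CfsgLib.LocalEven.FFPMin

open CfsgLib.LocalEven.OffenderSL2 (fixP)
open scoped _root_.Classical Pointwise

namespace Setup

variable {p : ℕ} [hp : Fact p.Prime] {P : Type*} [Group P] [Finite P] {N : Type*} [AddCommGroup N]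
  [DistribMulAction P N] [Finite N]
variable {D : Model p P N} {F : Fam p P N} {S : Setup D F}

/-- For commuting members, each element of the second differs from an element of the first by an
element centralising some pair. -/
theorem key_elem {A B : Subgroup P} (hA : S.In A) (hB : S.In B)
    (hcomm : ∀ a ∈ A, ∀ b ∈ B, a * b = b * a) :
    ∃ x ∈ S.G0, x ∉ D.M ∧ ∀ b ∈ B, ∃ a ∈ A, x⁻¹ * (a⁻¹ * b) * x ∈ D.M ∧
      ∃ f, S.IsPair A f ∧ ∀ l ∈ A ⊔ f, l * (a⁻¹ * b) = a⁻¹ * b * l := by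
  obtain ⟨e, he⟩ := S.out
  obtain ⟨f, hf, -⟩ := exists_pair hA (⟨he.1, he.2.1, he.2.2⟩ : S.Out e)
  have hF := hf.facts
  set L := A ⊔ f
  set C := fixP N L
  obtain ⟨x, hx, hxf⟩ := hF.mem f hf.outF.mem le_sup_right
  have hxM : x ∉ D.M := fun e =>
    hf.outF.notM (hxf ▸ (cj_mono hA.leM).trans (cj_eq_of_mem e).le)
  have hBinv : ∀ b ∈ B, ∀ n ∈ fixP N A, b • n ∈ fixP N A := fun b hb n hn a ha => by
    rw [← mul_smul, hcomm a ha b hb, mul_smul, hn a ha]
  have hUtop : fixP N A ≠ ⊤ := fun e => hA.mem.ne_bot ((Subgroup.eq_bot_iff_forall _).2 fun a ha =>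
    D.faith a fun n => (e.ge (AddSubgroup.mem_top n)) a ha)
  obtain ⟨n0, hn0, hn0B⟩ := exists_fixed_mod hB.mem.isPGroup D.expN hUtop hBinv
  obtain ⟨u, hu, y, hy, rfl⟩ := AddSubgroup.mem_sup.1 (hF.sup.ge (AddSubgroup.mem_top n0))
  have hyC : y ∉ C := fun e => hn0 (add_mem hu (fix_sup_eq.1 e).1)
  have hy' : x⁻¹ • y ∈ fixP N A := mem_fixP_cj.1 (hxf.symm ▸ hy)
  obtain ⟨z0, hz0⟩ := exists_isTr (D := D)
  obtain ⟨l0, -, hl0M, hl0⟩ := hf.transitive hz0 hy' fun e => hyC (by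
    have := e x hx
    rw [smul_inv_smul] at this
    exact this.symm ▸ e)
  set z := l0 • z0 with hzdef
  have hz : IsTr D z := hz0.smul hl0M
  set n1 := x • z with hn1
  have hn1f : n1 ∈ fixP N f := by
    rw [← hxf]
    refine smul_mem_fixP_cj ?_
    have := add_mem (fix_sup_eq.1 hl0).1 hy'
    rwa [sub_add_cancel] at this
  have hn1y : n1 - y ∈ C := by
    have e : n1 - y = x • (z - x⁻¹ • y) := by rw [smul_sub, smul_inv_smul]
    rw [e, hl0 x hx]
    exact hl0
  have hn1C : n1 ∉ C := fun e => hyC (by simpa using sub_mem e hn1y)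
  have hn1B : ∀ b ∈ B, b • n1 - n1 ∈ fixP N A := by
    intro b hb
    have h1 := sub_mem (hBinv b hb _ (fix_sup_eq.1 hn1y).1) (fix_sup_eq.1 hn1y).1
    have h2 := sub_mem (hn0B b hb) (sub_mem (hBinv b hb u hu) hu)
    have := add_mem h1 h2
    convert this using 1
    simp only [smul_add, smul_sub]
    abel
  have hall : ∀ b ∈ B, ∃ a ∈ A, x⁻¹ * (a⁻¹ * b) * x ∈ D.M := by
    intro b hb
    obtain ⟨a, ha, hc⟩ := hF.surjA n1 hn1f hn1C _ (hn1B b hb)
    refine ⟨a, ha, ?_⟩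
    set c := a • n1 - n1 - (b • n1 - n1) with hcdef
    set k := a⁻¹ * b with hk
    have hkn : k • n1 = n1 - c := by
      have hac : a⁻¹ • c = c := hc _ (inv_mem (Subgroup.mem_sup_left ha))
      rw [hk, mul_smul, ← hac, show b • n1 = a • n1 - c by rw [hcdef]; abel, smul_sub, inv_smul_smul, hac]
    have h1 : cj (k * x)⁻¹ f ≤ D.M := hz.le_M_smul (g := k * x) (by
      rw [mul_smul, ← hn1, hkn]
      exact sub_mem hn1f (fix_sup_eq.1 hc).2)
    rw [← hxf, cj_cj] at h1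
    have hkG : k ∈ S.G0 := mul_mem (inv_mem (hA.le0 ha)) (hB.le0 hb)
    have h2 := hA.cl (mul_mem (inv_mem (mul_mem hkG (hf.le0 hx))) (hf.le0 hx)) h1
    have := inv_mem h2
    rwa [show ((k * x)⁻¹ * x)⁻¹ = x⁻¹ * k * x by group] at this
  refine ⟨x, hf.le0 hx, hxM, fun b hb => ?_⟩
  obtain ⟨a, ha, hkx⟩ := hall b hb
  refine ⟨a, ha, hkx, ?_⟩
  set k := a⁻¹ * b with hk
  have hkA : ∀ a' ∈ A, a' * k = k * a' := fun a' ha' => by
    rw [hk, ← mul_assoc, hA.mem.isMin.comm a' ha' _ (inv_mem ha), mul_assoc, hcomm a' ha' b hb, mul_assoc]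
  have hkM : k ∈ D.M := mul_mem (inv_mem (hA.leM ha)) (hB.leM hb)
  have hkG : k ∈ S.G0 := mul_mem (inv_mem (hA.le0 ha)) (hB.le0 hb)
  let GΩ : Subgroup P :=
    { carrier := {g | g ∈ S.G0 ∧ ∀ l ∈ L, l⁻¹ * g * l ∈ D.M}
      one_mem' := ⟨one_mem _, fun l _ => by simp [one_mem]⟩
      mul_mem' := fun {g g'} hg hg' => ⟨mul_mem hg.1 hg'.1, fun l hl => by
        have := mul_mem (hg.2 l hl) (hg'.2 l hl)
        rwa [show l⁻¹ * g * l * (l⁻¹ * g' * l) = l⁻¹ * (g * g') * l by group] at this⟩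
      inv_mem' := fun {g} hg => ⟨inv_mem hg.1, fun l hl => by
        have := inv_mem (hg.2 l hl)
        rwa [show (l⁻¹ * g * l)⁻¹ = l⁻¹ * g⁻¹ * l by group] at this⟩ }
  have hGM : GΩ ≤ D.M := fun g hg => by simpa using hg.2 1 (one_mem _)
  have hnorm : ∀ l ∈ L, cj l GΩ = GΩ := fun l hl => by
    refine Subgroup.eq_of_le_of_card_ge ?_ (card_cj l GΩ).ge
    rintro _ ⟨g, hg, rfl⟩
    refine ⟨mul_mem (mul_mem (hf.le0 hl) hg.1) (inv_mem (hf.le0 hl)), fun l' hl' => ?_⟩
    have := hg.2 (l⁻¹ * l') (mul_mem (inv_mem hl) hl')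
    show l'⁻¹ * (l * g * l⁻¹) * l' ∈ D.M
    rwa [show (l⁻¹ * l')⁻¹ * g * (l⁻¹ * l') = l'⁻¹ * (l * g * l⁻¹) * l' by group] at this
  have hkΩ : k ∈ GΩ := by
    refine ⟨hkG, fun l hl => ?_⟩
    have hzl : l • z ∈ fixP N (cj l A) := smul_mem_fixP_cj (hA.fix_tr hz)
    have hzC : l • z ∉ C := fun e => hf.tr_notC hz (by
      have := e _ (inv_mem hl)
      rw [inv_smul_smul] at this
      rw [this]; exact e)
    by_cases hcase : l • z ∈ fixP N A
    · have hlM := hf.mem_M_of_fix hl hcase hzl hzC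
      exact mul_mem (mul_mem (inv_mem hlM) hkM) hlM
    obtain ⟨u2, hu2, y2, hy2, e⟩ := AddSubgroup.mem_sup.1 (hF.sup.ge (AddSubgroup.mem_top (l • z)))
    have hy2C : y2 ∉ C := fun e' => hcase (e ▸ add_mem hu2 (fix_sup_eq.1 e').1)
    obtain ⟨a', ha', hc'⟩ := hF.surjA y2 hy2 hy2C (-u2) (neg_mem hu2)
    have h1 : cj (a' * l)⁻¹ f ≤ D.M := hz.le_M_smul (g := a' * l) (by
      rw [mul_smul, ← e, smul_add, hu2 a' ha',
        show u2 + a' • y2 = y2 + (a' • y2 - y2 - -u2) by abel]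
      exact add_mem hy2 (fix_sup_eq.1 hc').2)
    rw [← hxf, cj_cj] at h1
    have h2 := hA.cl (mul_mem (inv_mem (mul_mem (hA.le0 ha') (hf.le0 hl))) (hf.le0 hx)) h1
    set g := (a' * l)⁻¹ * x
    have : l⁻¹ * k * l = g * (x⁻¹ * k * x) * g⁻¹ := by
      have e1 : a' * k * a'⁻¹ = k := by rw [hkA a' ha', mul_inv_cancel_right]
      calc l⁻¹ * k * l = (a' * l)⁻¹ * (a' * k * a'⁻¹) * (a' * l) := by group
        _ = g * (x⁻¹ * k * x) * g⁻¹ := by rw [e1]; simp only [g]; group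
    rw [this]
    exact mul_mem (mul_mem h2 hkx) (inv_mem h2)
  have hAL : A ≤ Subgroup.normalizer (GΩ : Set P) := fun a' ha' =>
    mem_normalizer_iff_cj.2 (hnorm a' (Subgroup.mem_sup_left ha'))
  have hkp : k ^ p = 1 := by
    rw [hk, (show Commute a⁻¹ b from Commute.inv_left (hcomm a ha b hb)).mul_pow, inv_pow,
      hA.mem.pow_eq ha, hB.mem.pow_eq hb, inv_one, one_mul]
  have hzk : IsPGroup p (Subgroup.zpowers k) := by
    intro g
    obtain ⟨j, hj⟩ := Subgroup.mem_zpowers_iff.1 g.2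
    refine ⟨1, Subtype.ext ?_⟩
    show (g : P) ^ (p ^ 1) = 1
    rw [← hj, pow_one, ← zpow_natCast, ← zpow_mul, mul_comm, zpow_mul, zpow_natCast, hkp, one_zpow]
  have hkcen : Subgroup.zpowers k ≤ Subgroup.normalizer (A : Set P) := by
    refine Subgroup.zpowers_le.2 (Subgroup.centralizer_le_normalizer _ (Subgroup.mem_centralizer_iff.2 hkA))
  set H := A ⊔ GΩ with hH
  have hQ0 : IsPGroup p ((A ⊔ Subgroup.zpowers k).subgroupOf H) :=
    (hA.mem.isPGroup.to_sup_of_normal_left' hzk hkcen).comap_of_injective _ Subtype.val_injective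
  obtain ⟨SH, hSH⟩ := hQ0.exists_le_sylow
  set SP := (SH : Subgroup H).map H.subtype with hSP
  have hQ0S : A ⊔ Subgroup.zpowers k ≤ SP := fun g hg =>
    ⟨⟨g, (sup_le le_sup_left ((Subgroup.zpowers_le.2 hkΩ).trans le_sup_right)) hg⟩, hSH hg, rfl⟩
  set Q := SP ⊓ GΩ with hQdef
  have hQp : IsPGroup p Q := (SH.isPGroup'.map H.subtype).to_le inf_le_left
  have hkQ : k ∈ Q := ⟨hQ0S (Subgroup.mem_sup_right (Subgroup.mem_zpowers k)), hkΩ⟩
  have hAQ : ∀ a' ∈ A, cj a' Q = Q := fun a' ha' => by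
    rw [hQdef, cj, Subgroup.map_inf _ _ _ (MulAut.conj a').injective]
    exact congrArg₂ (· ⊓ ·) (cj_eq_of_mem (hQ0S (Subgroup.mem_sup_left ha'))) (hnorm a' (Subgroup.mem_sup_left ha'))
  -- conjugate inside the kernel
  have hconj : ∀ R : Subgroup P, IsPGroup p R → R ≤ GΩ → ∃ g ∈ GΩ, R ≤ cj g Q := by
    intro R hR hRG
    obtain ⟨SR, hSR⟩ := (hR.comap_of_injective H.subtype Subtype.val_injective).exists_le_sylow
    obtain ⟨h, hh⟩ := MulAction.exists_smul_eq H SH SR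
    have hRh : R ≤ cj (h : P) SP := by
      intro r hr
      have h1 : (⟨r, le_sup_right (a := A) (hRG hr)⟩ : H) ∈ (SR : Subgroup H) :=
        hSR (Subgroup.mem_subgroupOf.2 hr)
      rw [← hh, Sylow.coe_subgroup_smul, Subgroup.mem_smul_pointwise_iff_exists] at h1
      obtain ⟨t, ht, et⟩ := h1
      exact ⟨t, ⟨t, ht, rfl⟩, congrArg Subtype.val et⟩
    have hh2 : (h : P) ∈ ((A : Set P) * (GΩ : Set P)) := by
      rw [← Subgroup.coe_mul_of_left_le_normalizer_right A GΩ hAL]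
      exact h.2
    obtain ⟨a', ha', g', hg', e⟩ := hh2
    set g := a' * g' * a'⁻¹ with hg
    have hgG : g ∈ GΩ := (Subgroup.mem_normalizer_iff.1 (hAL ha') g').1 hg'
    refine ⟨g, hgG, ?_⟩
    have h2 : R ≤ cj g SP := by
      refine hRh.trans (le_of_eq ?_)
      rw [← e, show (fun u v : P => u * v) a' g' = g * a' by rw [hg]; group, ← cj_cj,
        cj_eq_of_mem (hQ0S (Subgroup.mem_sup_left ha'))]
    intro r hr
    rw [mem_cj]
    exact ⟨mem_cj.1 (h2 hr), GΩ.mul_mem (GΩ.mul_mem (GΩ.inv_mem hgG) (hRG hr)) hgG⟩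
  obtain ⟨g, hg, hgle⟩ := hconj (cj x Q) (isPGroup_cj hQp x)
    ((cj_mono inf_le_right).trans (hnorm x hx).le)
  have heq : cj x Q = cj g Q := Subgroup.eq_of_le_of_card_ge hgle (by rw [card_cj, card_cj])
  set n := g⁻¹ * x with hn
  have hnQ : cj n Q = Q := by rw [hn, ← cj_cj, heq, cj_inv_cj]
  have hnG : n ∈ S.G0 := mul_mem (inv_mem hg.1) (hf.le0 hx)
  have hnM : n ∉ D.M := fun e => hxM (by
    have := mul_mem (hGM hg) e
    rwa [hn, mul_inv_cancel_left] at this)
  have hout : S.Out (cj n A) :=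
    ((hA.cj_cases hnG).resolve_left fun e => hnM (hA.cl hnG e.leM))
  obtain ⟨f3, hf3, hf3le⟩ := exists_pair hA hout
  have hN3 : A ⊔ f3 ≤ Subgroup.normalizer (Q : Set P) := by
    refine (sup_le le_sup_left hf3le).trans (sup_le (fun a' ha' => mem_normalizer_iff_cj.2 (hAQ a' ha')) ?_)
    intro q hq
    rw [mem_normalizer_iff_cj]
    obtain ⟨a', ha', rfl⟩ := hq
    show cj (n * a' * n⁻¹) Q = Q
    rw [← cj_cj, show cj n⁻¹ Q = Q by conv_lhs => rw [← hnQ, cj_inv_cj],
      ← cj_cj, hAQ a' ha', hnQ]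
  exact ⟨f3, hf3, fun l hl => (hf3.centralised hQp (inf_le_right.trans hGM) hN3).2.2 l hl k hkQ⟩

/-- An element centralising a pair and fixing the translates acts trivially modulo the common part. -/
theorem IsPair.trivial_mod {A f : Subgroup P} (h : S.IsPair A f) {k : P}
    (hk : ∀ l ∈ A ⊔ f, l * k = k * l) (hz : ∀ z, IsTr D z → k • z = z) :
    ∀ n : N, k • n - n ∈ fixP N (A ⊔ f : Subgroup P) := by
  have hF := h.facts
  set C := fixP N (A ⊔ f : Subgroup P)
  have hkC : ∀ c ∈ C, k • c ∈ C := fun c hc l hl => by rw [← mul_smul, hk l hl, mul_smul, hc l hl]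
  have hkU : ∀ u ∈ fixP N A, k • u - u ∈ C := by
    intro u hu
    obtain ⟨s, hs, c, hc, rfl⟩ := AddSubgroup.mem_sup.1 (h.axis_le hu)
    have hs' : k • s = s := by
      have : AddSubgroup.closure {z | IsTr D z} ≤ fixP N (Subgroup.zpowers k) :=
        (AddSubgroup.closure_le _).2 fun z hzz g hg =>
          (Subgroup.zpowers_le.2 (show k ∈ MulAction.stabilizer P z from hz z hzz)) hg
      exact this hs k (Subgroup.mem_zpowers k)
    rw [smul_add, hs', add_sub_add_left_eq_sub]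
    exact sub_mem (hkC c hc) hc
  intro n
  obtain ⟨u, hu, y, hy, rfl⟩ := AddSubgroup.mem_sup.1 (hF.sup.ge (AddSubgroup.mem_top n))
  rw [smul_add, add_sub_add_comm]
  refine add_mem (hkU u hu) ?_
  obtain ⟨x, hx, hxf⟩ := hF.mem f h.outF.mem le_sup_right
  rw [← hxf, mem_fixP_cj] at hy
  have h1 := hkU _ hy
  have h2 : x • (k • x⁻¹ • y - x⁻¹ • y) = k • x⁻¹ • y - x⁻¹ • y := h1 x hx
  rw [smul_sub, smul_inv_smul, ← mul_smul, hk x hx, mul_smul, smul_inv_smul] at h2
  rwa [h2]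

/-- Uniqueness of the member in a `p`-group. -/
theorem key : ∀ (k : ℕ) (Q : Subgroup P), Nat.card Q ≤ k → IsPGroup p Q → S.K ≤ Q →
    ∀ A B : Subgroup P, S.In A → S.In B → A ≤ Q → B ≤ Q → A = B := by
  intro k
  induction k with
  | zero => intro Q hQ; exact absurd hQ (by have := Nat.card_pos (α := Q); omega)
  | succ k ih =>
    intro Q hQc hQ hK A B hA hB hAQ hBQ
    have hnorm : ∀ A B : Subgroup P, S.In A → S.In B → A ≤ Q → B ≤ Q → ∀ b ∈ B, cj b A = A := by
      intro A B hA hB hAQ hBQ b hb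
      by_cases htop : S.K ⊔ A = Q
      · have hQn : Q ≤ Subgroup.normalizer (A : Set P) := by
          rw [← htop]
          refine sup_le (fun z hz => ?_) Subgroup.le_normalizer
          exact Subgroup.centralizer_le_normalizer _
            (Subgroup.mem_centralizer_iff.2 fun a ha => hA.centralises_K.2 a ha z hz)
        exact mem_normalizer_iff_cj.1 (hQn (hBQ hb))
      · obtain ⟨Q1, ⟨hQ1lt, hQ1⟩, hmax⟩ := Set.Finite.exists_maximalFor id
          {R : Subgroup P | R < Q ∧ S.K ⊔ A ≤ R} (Set.toFinite _)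
          ⟨_, lt_of_le_of_ne (sup_le hK hAQ) htop, le_rfl⟩
        have hlt2 := Fusion.lt_inf_normalizer hQ hQ1lt
        have hQn : Q ≤ Subgroup.normalizer (Q1 : Set P) := by
          by_contra hne
          have h' : Q ⊓ Subgroup.normalizer (Q1 : Set P) < Q :=
            lt_of_le_of_ne inf_le_left fun e => hne (e ▸ inf_le_right)
          exact hlt2.not_ge (hmax ⟨h', hQ1.trans hlt2.le⟩ hlt2.le)
        have hle : FFPMin.cj b A ≤ Q1 :=
          (cj_mono (le_sup_right.trans hQ1)).trans (mem_normalizer_iff_cj.1 (hQn (hBQ hb))).le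
        refine (ih Q1 ?_ (hQ.to_le hQ1lt.le) (le_sup_left.trans hQ1) A (FFPMin.cj b A) hA
          (hA.cj (hB.le0 hb) (hB.leM hb)) (le_sup_right.trans hQ1) hle).symm
        by_contra hc
        exact hQ1lt.ne (Subgroup.eq_of_le_of_card_ge hQ1lt.le (by omega))
    have hcomm : ∀ a ∈ A, ∀ b ∈ B, a * b = b * a := by
      intro a ha b hb
      set c := a * b * a⁻¹ * b⁻¹ with hc
      have hcA : c ∈ A := by
        rw [hc, mul_assoc (a * b), mul_assoc a, ← mul_assoc b]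
        refine mul_mem ha ?_
        rw [← hnorm A B hA hB hAQ hBQ b hb]
        exact conj_mem_cj (inv_mem ha)
      have hcB : c ∈ B := by
        refine mul_mem ?_ (inv_mem hb)
        rw [← hnorm B A hB hA hBQ hAQ a ha]
        exact conj_mem_cj hb
      by_cases hc1 : c = 1
      · exact mul_inv_eq_iff_eq_mul.1 (mul_inv_eq_one.1 (hc ▸ hc1))
      · have hU : fixP N A = fixP N B := fix_eq_of_le hA.mem hB.mem fun n hn =>
          semireg S hB.mem hcB hc1 (hn c hcA)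
        exact commute_of_axes D.faith (hA.mem.isMin.quad D.expN) (hB.mem.isMin.quad D.expN) hU ha hb
    obtain ⟨x, hx0, hxM, helem⟩ := key_elem hA hB hcomm
    have htriv : ∀ b ∈ B, ∀ a ∈ A, ∀ z, IsTr D z → (a⁻¹ * b) • z = z := fun b hb a ha z hz => by
      rw [mul_smul, hB.fix_tr hz b hb, hA.fix_tr hz _ (inv_mem ha)]
    -- some element has a nontrivial component
    obtain ⟨b, hb, a, ha, ha1, f3, hf3, hc3⟩ : ∃ b ∈ B, ∃ a ∈ A, a ≠ 1 ∧ ∃ f, S.IsPair A f ∧
        ∀ l ∈ A ⊔ f, l * (a⁻¹ * b) = a⁻¹ * b * l := by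
      by_contra hno
      suffices h : cj x⁻¹ B ≤ D.M from hxM (by simpa using inv_mem (hB.cl (inv_mem hx0) h))
      refine cj_le_iff.2 fun b hb => ?_
      obtain ⟨a, ha, hax, f, hf, hcf⟩ := helem b hb
      rcases eq_or_ne a 1 with rfl | ha1
      · rw [mem_cj, inv_inv, inv_inv]
        rwa [inv_one, one_mul] at hax
      · exact absurd ⟨b, hb, a, ha, ha1, f, hf, hcf⟩ hno
    have hU : fixP N A = fixP N B := by
      have h0 : ∀ n, b • n = n → a⁻¹ • n = n → n ∈ fixP N A := fun n _ h => semireg S hA.mem (inv_mem ha)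
        (inv_ne_one.2 ha1) h
      have hstep : ∀ n, b • n = n → n ∈ fixP N A := by
        intro n hn
        refine h0 n hn ?_
        have h1 := hf3.trivial_mod hc3 (htriv b hb a ha) n
        rw [mul_smul, hn] at h1
        obtain ⟨u, hu, y, hy, rfl⟩ := AddSubgroup.mem_sup.1 (hf3.facts.sup.ge (AddSubgroup.mem_top n))
        rw [smul_add, hu _ (inv_mem ha), add_sub_add_left_eq_sub] at h1
        have := hf3.facts.inj _ (inv_mem ha) y hy h1 (inv_ne_one.2 ha1)
        rw [smul_add, hu _ (inv_mem ha), (fix_sup_eq.1 this).1 _ (inv_mem ha)]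
      exact (fix_eq_of_le hB.mem hA.mem fun n hn => hstep n (hn b hb)).symm
    have hsub : B ≤ A := by
      intro b hb
      obtain ⟨a, ha, -, f, hf, hcf⟩ := helem b hb
      suffices a⁻¹ * b = 1 by rwa [← inv_mul_eq_one.1 this]
      refine D.faith _ fun n => ?_
      obtain ⟨u, hu, y, hy, rfl⟩ := AddSubgroup.mem_sup.1 (hf.facts.sup.ge (AddSubgroup.mem_top n))
      have hku : ∀ u ∈ fixP N A, (a⁻¹ * b) • u = u := fun u hu => by
        rw [mul_smul, (hU ▸ hu : u ∈ fixP N B) b hb, hu _ (inv_mem ha)]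
      rw [smul_add, hku u hu]
      congr 1
      obtain ⟨x, hx, hxf⟩ := hf.facts.mem f hf.outF.mem le_sup_right
      rw [← hxf, mem_fixP_cj] at hy
      have h2 := congrArg (fun g : P => g • x⁻¹ • y) (hcf x hx)
      simp only [mul_smul x, mul_smul _ x, smul_inv_smul] at h2
      rw [hku _ hy, smul_inv_smul] at h2
      exact h2.symm
    exact (Subgroup.eq_of_le_of_card_ge hsub (by rw [hA.mem.card, hB.mem.card])).symm

theorem key' {Q A B : Subgroup P} (hQ : IsPGroup p Q) (hK : S.K ≤ Q) (hA : S.In A) (hB : S.In B)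
    (hAQ : A ≤ Q) (hBQ : B ≤ Q) : A = B :=
  key _ Q le_rfl hQ hK A B hA hB hAQ hBQ

end Setup

end CfsgLib.LocalEven.FFPMin
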