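import Cfsg.Agent.Lib.LocalEven.FFPMin.Bridge
import Cfsg.Agent.Lib.LocalEven.Baumann.Basic

/-!
The local C** theorem for a `p`-minimal group of characteristic `p`.
-/

set_option autoImplicit false
set_option linter.unusedSectionVars false

namespace CfsgLib.LocalEven.FFPMin

open CfsgLib.LocalEven.OffenderSL2 (fixP)
open scoped _root_.Classical IsMulCommutative Pointwise commutatorElement

variable {G : Type*} [Group G] [Finite G] {p : ℕ} [hp : Fact p.Prime]

theorem conj_normal {N : Subgroup G} (hN : N.Normal) (g : G) : cj g N = N :=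
  mem_normalizer_iff_cj.1 (by rw [Subgroup.normalizer_eq_top_iff.2 hN]; trivial)

/-- The conjugation action of the quotient by the centraliser. -/
@[reducible] noncomputable def quotMod {Z : Subgroup G} [IsMulCommutative Z] (hZ : Z.Normal)
    {C : Subgroup G} [C.Normal] (hC : C ≤ Subgroup.centralizer (Z : Set G)) :
    DistribMulAction (G ⧸ C) (Additive ↥Z) where
  smul q v := Additive.ofMul ⟨q.out * ((Additive.toMul v : ↥Z) : G) * q.out⁻¹,
    hZ.conj_mem _ (Additive.toMul v).2 _⟩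
  one_smul v := Subtype.ext (by
    show (1 : G ⧸ C).out * _ * (1 : G ⧸ C).out⁻¹ = _
    have h1 : (1 : G ⧸ C).out ∈ C := (QuotientGroup.eq_one_iff _).1 (QuotientGroup.out_eq' _)
    exact mul_inv_eq_iff_eq_mul.2 (Subgroup.mem_centralizer_iff.1 (hC h1) _ (Additive.toMul v).2).symm)
  mul_smul a b v := Subtype.ext (by
    show (a * b).out * ((Additive.toMul v : ↥Z) : G) * (a * b).out⁻¹ =
      a.out * (b.out * ((Additive.toMul v : ↥Z) : G) * b.out⁻¹) * a.out⁻¹
    have h1 : (a.out * b.out)⁻¹ * (a * b).out ∈ C := QuotientGroup.eq.1 (by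
      rw [QuotientGroup.mk_mul, QuotientGroup.out_eq', QuotientGroup.out_eq', QuotientGroup.out_eq'])
    have h2 := Subgroup.mem_centralizer_iff.1 (hC h1) _ (Additive.toMul v).2
    set c := (a.out * b.out)⁻¹ * (a * b).out with hc
    rw [show (a * b).out = a.out * b.out * c by rw [hc, mul_inv_cancel_left]]
    rw [_root_.mul_inv_rev, show a.out * b.out * c * ((Additive.toMul v : ↥Z) : G) * (c⁻¹ * (a.out * b.out)⁻¹) =
      a.out * b.out * (c * ((Additive.toMul v : ↥Z) : G)) * c⁻¹ * (a.out * b.out)⁻¹ by group, ← h2]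
    group)
  smul_zero q := Subtype.ext (by
    show q.out * 1 * q.out⁻¹ = 1
    rw [mul_one, mul_inv_cancel])
  smul_add q v w := Subtype.ext (by
    show q.out * (((Additive.toMul v : ↥Z) : G) * ((Additive.toMul w : ↥Z) : G)) * q.out⁻¹ =
      q.out * ((Additive.toMul v : ↥Z) : G) * q.out⁻¹ * (q.out * ((Additive.toMul w : ↥Z) : G) * q.out⁻¹)
    group)

/-- A quotient by a normal subgroup inside the maximal subgroup is again `p`-minimal. -/
theorem quot_pminimal (hmin : Cfsg.IsPMinimal p G) (T : Sylow p G) {M : Subgroup G} (hM : IsCoatom M)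
    (hTM : (T : Subgroup G) ≤ M) (C : Subgroup G) [hCn : C.Normal] (hCM : C ≤ M) :
    Cfsg.IsPMinimal p (G ⧸ C) := by
  intro S
  obtain ⟨S0, rfl⟩ := Sylow.mapSurjective_surjective (QuotientGroup.mk'_surjective C) p S
  obtain ⟨g, hg⟩ := MulAction.exists_smul_eq G T S0
  have hM' : IsCoatom (cj g M) := by
    refine ⟨fun e => hM.1 ?_, fun Y hY => ?_⟩
    · rw [← cj_inv_cj g M, e, conj_normal inferInstance]
    · have hlt : M < cj g⁻¹ Y := lt_of_le_of_ne
        (cj_le_iff.1 hY.le) (fun e => hY.ne (by rw [e, cj_cj_inv]))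
      rw [← cj_cj_inv g Y, hM.2 _ hlt, conj_normal inferInstance]
  have hS0M : (S0 : Subgroup G) ≤ cj g M := by
    rw [← hg, Sylow.coe_subgroup_smul]
    exact cj_mono hTM
  have hCM' : C ≤ cj g M := (conj_normal hCn g).ge.trans (cj_mono hCM)
  set π := QuotientGroup.mk' C
  have hsurj : Function.Surjective π := QuotientGroup.mk'_surjective C
  have hcomap : ((S0 : Subgroup G).map π).comap π = (S0 : Subgroup G) ⊔ C := by
    rw [Subgroup.comap_map_eq, QuotientGroup.ker_mk']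
  rw [Sylow.coe_mapSurjective]
  refine ⟨fun hn => ?_, (cj g M).map π, ⟨?_, Subgroup.map_mono hS0M⟩, fun Y hY => ?_⟩
  · have hn' : ((S0 : Subgroup G) ⊔ C).Normal := hcomap ▸ hn.comap π
    haveI := hn'
    rcases PMin.normal_dichotomy hmin S0 hM' hS0M ((S0 : Subgroup G) ⊔ C) with h | h
    · exact PMin.residual_not_le hmin S0 hM' hS0M (h.trans (sup_le hS0M hCM'))
    · have h2 := PMin.normal_inf_sylow_le hmin S0 hM' hS0M ((S0 : Subgroup G) ⊔ C) h
      rw [inf_eq_left.2 le_sup_left] at h2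
      haveI : (Cfsg.pCore p G).Normal := inferInstance
      exact (hmin S0).1 ((le_antisymm (S0.is_maximal' (CfsgLib.LocalEven.Baumann.isPGroup_OO) h2).le h2).symm ▸
        (inferInstance : (Cfsg.pCore p G).Normal))
  · refine ⟨fun e => hM'.1 ?_, fun Y hY => ?_⟩
    · have := congrArg (Subgroup.comap π) e
      rwa [Subgroup.comap_map_eq, QuotientGroup.ker_mk', Subgroup.comap_top, sup_eq_left.2 hCM'] at this
    · have hlt : cj g M < Y.comap π := by
        refine lt_of_le_of_ne (Subgroup.map_le_iff_le_comap.1 hY.le) fun e => hY.ne ?_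
        rw [e, Subgroup.map_comap_eq_self_of_surjective hsurj]
      rw [← Subgroup.map_comap_eq_self_of_surjective hsurj Y, hM'.2 _ hlt, Subgroup.map_top_of_surjective π hsurj]
  · obtain ⟨M0, -, huniq⟩ := (hmin S0).2
    have hYc : IsCoatom (Y.comap π) := Subgroup.isCoatom_comap_of_surjective hsurj hY.1
    have e1 := huniq _ ⟨hYc, Subgroup.map_le_iff_le_comap.1 hY.2⟩
    have e2 := huniq _ ⟨hM', hS0M⟩
    rw [← Subgroup.map_comap_eq_self_of_surjective hsurj Y, e1, ← e2]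

/-- The local theorem. -/
theorem local_thm (hmin : Cfsg.IsPMinimal p G)
    (hG : Subgroup.centralizer (Cfsg.pCore p G : Set G) ≤ Cfsg.pCore p G) (T : Sylow p G)
    (hne : Cfsg.cStarStarOf p (T : Subgroup G) ≠ ⊤) {Z C : Subgroup G}
    (hZdef : Z = Cfsg.omegaOneCenter p (Cfsg.pCore p G)) (hCdef : C = Subgroup.centralizer (Z : Set G)) :
    ∃ (r : ℕ) (E : Fin r → Subgroup G), (∀ i, C ≤ E i) ∧ Cfsg.thompsonSubgroup p G ⊔ (T : Subgroup G) ⊔ C = ⊤ ∧
      (⨆ i, E i) = Cfsg.thompsonSubgroup p G ⊔ C ∧ (∀ i j, i ≠ j → ⁅E i, E j⁆ ≤ C) ∧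
      (∀ i, E i ⊓ (⨆ j ∈ {j | j ≠ i}, E j) ≤ C) ∧
      (∀ i j, ∃ t ∈ (T : Subgroup G), (E i).map (MulAut.conj t).toMonoidHom = E j) ∧
      (Z ⊓ Subgroup.centralizer ((⨆ i, E i : Subgroup G) : Set G)) ⊔ (⨆ i, ⁅Z, E i⁆) = Z ∧
      (∀ i j, i ≠ j → ⁅⁅Z, E i⁆, E j⁆ = ⊥) ∧ ∀ i, ∃ n : ℕ, 1 ≤ n ∧
        ((∃ (F : Type) (_ : Field F) (_ : Fintype F), Fintype.card F = p ^ n ∧
            (∃ _ : (C.subgroupOf (E i)).Normal,
              Nonempty (↥(E i) ⧸ C.subgroupOf (E i) ≃* Matrix.SpecialLinearGroup (Fin 2) F)) ∧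
            Cfsg.ActsAsSL2OnSection F ⊤ (E i) ⁅Z, E i⁆ (⁅Z, E i⁆ ⊓ Subgroup.centralizer ((E i : Subgroup G) : Set G))) ∨
          (p = 2 ∧ (∃ _ : (C.subgroupOf (E i)).Normal,
              Nonempty (↥(E i) ⧸ C.subgroupOf (E i) ≃* Equiv.Perm (Fin (2 ^ n + 1)))) ∧
            Cfsg.ActsAsOddPermModuleOnSection (2 ^ n + 1) ⊤ (E i) ⁅Z, E i⁆
              (⁅Z, E i⁆ ⊓ Subgroup.centralizer ((E i : Subgroup G) : Set G)))) := by
  obtain ⟨M, ⟨hM, hTM⟩, -⟩ := (hmin T).2
  have hOn : (Cfsg.pCore p G).Normal := inferInstance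
  have hOp : IsPGroup p (Cfsg.pCore p G) := CfsgLib.LocalEven.Baumann.isPGroup_OO
  have hOT : Cfsg.pCore p G ≤ (T : Subgroup G) := by
    obtain ⟨S, hS⟩ := hOp.exists_le_sylow
    obtain ⟨g, hg⟩ := MulAction.exists_smul_eq G S T
    rw [← hg, Sylow.coe_subgroup_smul]
    exact (conj_normal hOn g).ge.trans (cj_mono hS)
  have hmemZ : ∀ {x}, x ∈ Z ↔ x ∈ Cfsg.pCore p G ∧ x ∈ Subgroup.centralizer (Cfsg.pCore p G : Set G) ∧ x ^ p = 1 :=
    hZdef ▸ Baumann.mem_omegaOneCenter_iff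
  have hZn : Z.Normal := Subgroup.normalizer_eq_top_iff.1 (eq_top_iff.2 fun g _ =>
    hZdef ▸ Baumann.mem_normalizer_omegaOneCenter (by rw [Subgroup.normalizer_eq_top_iff.2 hOn]; trivial))
  haveI := hZn
  have hCn : C.Normal := hCdef ▸ inferInstance
  haveI := hCn
  haveI : IsMulCommutative Z :=
    ⟨⟨fun a b => Subtype.ext (Subgroup.mem_centralizer_iff.1 (hmemZ.1 b.2).2.1 a (hmemZ.1 a.2).1)⟩⟩
  have hOC : Cfsg.pCore p G ≤ C := fun x hx => hCdef ▸ Subgroup.mem_centralizer_iff.2 fun z hz =>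
    (Subgroup.mem_centralizer_iff.1 (hmemZ.1 hz).2.1 x hx).symm
  have htopX : ∀ {X : Subgroup G}, X ≤ Cfsg.cStarStarOf p (T : Subgroup G) → X ≠ ⊤ := fun h e =>
    hne (top_le_iff.1 (e ▸ h))
  -- the centraliser lies in the maximal subgroup
  have hZT : Cfsg.omegaOneCenter p (T : Subgroup G) ≤ Z := fun x hx => by
    obtain ⟨h1, h2, h3⟩ := Baumann.mem_omegaOneCenter_iff.1 hx
    have h4 : x ∈ Subgroup.centralizer (Cfsg.pCore p G : Set G) := Subgroup.centralizer_le hOT h2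
    exact hmemZ.2 ⟨hG h4, h4, h3⟩
  have hCss : C ≤ Cfsg.cStarStarOf p (T : Subgroup G) :=
    le_trans (hCdef ▸ Subgroup.centralizer_le hZT) le_sup_left
  have hTss : (T : Subgroup G) ≤ Cfsg.cStarStarOf p (T : Subgroup G) := le_trans
    (Subgroup.le_normalizer.trans (Transfer.normalizer_le_normalizer_thompsonSubgroupOf (T : Subgroup G))) le_sup_right
  have hCT : C ≤ M :=
    (PMin.le_unique hmin T hM hTM (htopX (sup_le hCss hTss)) le_sup_right).trans' le_sup_left
  have hcore : Cfsg.pCore p (G ⧸ C) = ⊥ := by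
    set R := (Cfsg.pCore p (G ⧸ C)).comap (QuotientGroup.mk' C) with hR
    have hRn : R.Normal := (inferInstance : (Cfsg.pCore p (G ⧸ C)).Normal).comap _
    have hCR : C ≤ R := fun c hc => by
      show QuotientGroup.mk' C c ∈ Cfsg.pCore p (G ⧸ C)
      rw [QuotientGroup.mk'_apply, (QuotientGroup.eq_one_iff c).2 hc]
      exact one_mem _
    have hcoreP : IsPGroup p (Cfsg.pCore p (G ⧸ C)) := CfsgLib.LocalEven.Baumann.isPGroup_OO
    have hRle : R ≤ (T : Subgroup G) ⊔ C := by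
      obtain ⟨S, hS⟩ := hcoreP.exists_le_sylow
      obtain ⟨g, hg⟩ := MulAction.exists_smul_eq (G ⧸ C) S (T.mapSurjective (QuotientGroup.mk'_surjective C))
      have h1 : Cfsg.pCore p (G ⧸ C) ≤ (T : Subgroup G).map (QuotientGroup.mk' C) := by
        rw [← Sylow.coe_mapSurjective (QuotientGroup.mk'_surjective C), ← hg, Sylow.coe_subgroup_smul]
        exact (conj_normal inferInstance g).ge.trans (cj_mono hS)
      have := Subgroup.comap_mono (f := QuotientGroup.mk' C) h1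
      rwa [Subgroup.comap_map_eq, QuotientGroup.ker_mk'] at this
    haveI := hRn
    have hRM : R ≤ M := hRle.trans (sup_le hTM hCT)
    have h3 : R ≤ C := by
      intro x hx
      haveI := hCn
      have hx' : x ∈ ((T : Subgroup G) : Set G) * (C : Set G) := by
        rw [← Subgroup.mul_normal]; exact hRle hx
      obtain ⟨t, ht, c, hc, rfl⟩ := hx'
      have htR : t ∈ R := by
        have := mul_mem hx (inv_mem (hCR hc))
        rwa [mul_inv_cancel_right] at this
      exact mul_mem (hOC (PMin.normal_inf_sylow_le hmin T hM hTM R hRM ⟨ht, htR⟩)) hc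
    rw [← Subgroup.map_comap_eq_self_of_surjective (QuotientGroup.mk'_surjective C) (Cfsg.pCore p (G ⧸ C)), eq_bot_iff]
    rintro _ ⟨x, hx, rfl⟩
    rw [Subgroup.mem_bot, QuotientGroup.mk'_apply, QuotientGroup.eq_one_iff]
    exact h3 hx
  -- the module
  letI : DistribMulAction (G ⧸ C) (Additive ↥Z) := quotMod hZn (le_of_eq hCdef)
  let π : ↥(⊤ : Subgroup G) →* G ⧸ C := (QuotientGroup.mk' C).comp (⊤ : Subgroup G).subtype
  have hπ : Function.Surjective π := fun q => by
    obtain ⟨g, rfl⟩ := QuotientGroup.mk'_surjective C q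
    exact ⟨⟨g, trivial⟩, rfl⟩
  have hact : ∀ (x : ↥(⊤ : Subgroup G)) (v : Additive ↥Z), ((Additive.toMul (π x • v) : ↥Z) : G) =
      (x : G) * ((Additive.toMul v : ↥Z) : G) * (x : G)⁻¹ := by
    intro x v
    show (QuotientGroup.mk' C (x : G)).out * _ * (QuotientGroup.mk' C (x : G)).out⁻¹ = _
    obtain ⟨c, hc⟩ := QuotientGroup.mk_out_eq_mul C (x : G)
    rw [QuotientGroup.mk'_apply, hc]
    have h2 := Subgroup.mem_centralizer_iff.1 (show (c : G) ∈ Subgroup.centralizer (Z : Set G) from hCdef.le c.2) _ (Additive.toMul v).2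
    rw [_root_.mul_inv_rev, show (x : G) * c * ((Additive.toMul v : ↥Z) : G) * ((c : G)⁻¹ * (x : G)⁻¹) =
      x * ((c : G) * ((Additive.toMul v : ↥Z) : G)) * (c : G)⁻¹ * (x : G)⁻¹ by group, ← h2]
    group
  have hup : ∀ Y : Subgroup (G ⧸ C), up π Y = Y.comap (QuotientGroup.mk' C) := fun Y => by
    ext g
    exact ⟨fun h => by obtain ⟨_, h'⟩ := (mem_up π).1 h; exact h', fun h => (mem_up π).2 ⟨trivial, h⟩⟩
  have hfaith : ∀ q : G ⧸ C, (∀ v : Additive ↥Z, q • v = v) → q = 1 := by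
    intro q hq
    obtain ⟨x, rfl⟩ := hπ q
    show QuotientGroup.mk' C (x : G) = 1
    rw [QuotientGroup.mk'_apply, QuotientGroup.eq_one_iff, hCdef, Subgroup.mem_centralizer_iff]
    intro z hz
    exact ((fixed_iff π hact x (Additive.ofMul ⟨z, hz⟩)).1 (hq _)).symm
  have hexp : ∀ v : Additive ↥Z, p • v = 0 := fun v =>
    Additive.toMul.injective (Subtype.ext (hmemZ.1 (Additive.toMul v).2).2.2)
  have hZel : Cfsg.IsElementaryAbelian p Z := ⟨inferInstance, fun z hz => (hmemZ.1 hz).2.2⟩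
  -- the maximal elementary abelian subgroups give offenders
  have hoffA : ∀ A ∈ PLocal.maxEAOf p (T : Subgroup G), ¬ A ≤ C →
      IsOff (Additive ↥Z) p (A.map (QuotientGroup.mk' C)) := by
    intro A hA hAC
    refine ⟨fun e => hAC ?_, ?_, ?_, ?_⟩
    · intro a ha
      have : QuotientGroup.mk' C a ∈ A.map (QuotientGroup.mk' C) := ⟨a, ha, rfl⟩
      rwa [e, Subgroup.mem_bot, QuotientGroup.mk'_apply, QuotientGroup.eq_one_iff] at this
    · rintro _ ⟨a, ha, rfl⟩ _ ⟨b, hb, rfl⟩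
      rw [← map_mul, ← map_mul, PLocal.isElementaryAbelian_comm hA.2.1 ha hb]
    · rintro _ ⟨a, ha, rfl⟩
      rw [← map_pow, hA.2.1.2 a ha, map_one]
    · set A0 := A ⊓ C
      have hA0 : Cfsg.IsElementaryAbelian p A0 := PLocal.isElementaryAbelian_of_le hA.2.1 inf_le_left
      have hA0Z : A0 ≤ Subgroup.centralizer (Z : Set G) := fun x hx => hCdef ▸ hx.2
      have hB := hA.2.2 (A0 ⊔ Z) (sup_le (inf_le_left.trans hA.1) (fun z hz => hOT (hmemZ.1 hz).1))
        (PLocal.isElementaryAbelian_sup hA0 hZel hA0Z)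
      have hcard : Nat.card ↥(A0 ⊔ Z : Subgroup G) * Nat.card ↥(A0 ⊓ Z : Subgroup G) = Nat.card A0 * Nat.card Z :=
        CfsgLib.Base.card_sup_mul_card_inf A0 Z
      have hImg : Nat.card (A.map (QuotientGroup.mk' C)) * Nat.card A0 = Nat.card A := by
        let φ : ↥A →* G ⧸ C := (QuotientGroup.mk' C).comp A.subtype
        have hr : φ.range = A.map (QuotientGroup.mk' C) := by rw [MonoidHom.range_comp, Subgroup.range_subtype]
        have hk : Nat.card φ.ker = Nat.card A0 := by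
          rw [show φ.ker = A0.subgroupOf A by
            ext a
            show QuotientGroup.mk' C (a : G) = 1 ↔ (a : G) ∈ A0
            rw [QuotientGroup.mk'_apply, QuotientGroup.eq_one_iff]
            exact ⟨fun h => ⟨a.2, h⟩, fun h => h.2⟩]
          exact Nat.card_congr (Subgroup.subgroupOfEquivOfLe inf_le_left).toEquiv
        have := φ.ker.card_mul_index
        rw [Subgroup.index_ker, hr, hk] at this
        rw [← this, mul_comm]
      have hfix : Nat.card ↥(A0 ⊓ Z : Subgroup G) ≤ Nat.card (fixP (Additive ↥Z) (A.map (QuotientGroup.mk' C))) := by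
        rw [← card_toG (fixP (Additive ↥Z) (A.map (QuotientGroup.mk' C))), toG_fix π hπ hact, hup]
        refine Subgroup.card_le_of_le (le_inf inf_le_right fun z hz => Subgroup.mem_centralizer_iff.2 fun g hg => ?_)
        have hg' : g ∈ A ⊔ C := by
          rwa [Subgroup.comap_map_eq, QuotientGroup.ker_mk'] at hg
        have hle : A ⊔ C ≤ Subgroup.centralizer {z} := sup_le
          (fun a ha => Subgroup.mem_centralizer_singleton_iff.2
            (PLocal.isElementaryAbelian_comm hA.2.1 ha hz.1.1))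
          (fun c hc => Subgroup.mem_centralizer_singleton_iff.2
            (Subgroup.mem_centralizer_iff.1 (hCdef ▸ hc) z hz.2).symm)
        exact Subgroup.mem_centralizer_singleton_iff.1 (hle hg')
      rw [Nat.card_congr Additive.toMul]
      refine Nat.le_of_mul_le_mul_left ?_ (Nat.card_pos (α := A0))
      calc Nat.card A0 * Nat.card Z = Nat.card ↥(A0 ⊔ Z : Subgroup G) * Nat.card ↥(A0 ⊓ Z : Subgroup G) := hcard.symm
        _ ≤ Nat.card A * Nat.card (fixP (Additive ↥Z) (A.map (QuotientGroup.mk' C))) := Nat.mul_le_mul hB hfix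
        _ = _ := by rw [← hImg]; ring
  obtain ⟨A1, hA1, hA1C⟩ : ∃ A ∈ PLocal.maxEAOf p (T : Subgroup G), ¬ A ≤ C := by
    by_contra h
    push Not at h
    have hJC : Cfsg.thompsonSubgroupOf p (T : Subgroup G) ≤ C := by
      rw [PLocal.thompsonSubgroupOf_eq_sSup]; exact sSup_le h
    obtain ⟨Q, hQ⟩ : ∃ Q : Sylow p ↥C, (Q : Subgroup ↥C).map C.subtype = (T : Subgroup G) ⊓ C := by
      obtain ⟨Q, hQ⟩ := exists_sylow_inf_eq T (N := ⊤) (C := C) le_top le_top
        (by rw [Subgroup.normalizer_eq_top_iff.2 hCn])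
      exact ⟨Q, hQ⟩
    have hF := Sylow.normalizer_sup_eq_top Q
    rw [hQ] at hF
    have hJ : Cfsg.thompsonSubgroupOf p ((T : Subgroup G) ⊓ C) = Cfsg.thompsonSubgroupOf p (T : Subgroup G) :=
      PLocal.thompsonSubgroupOf_eq_of_le (le_inf (PLocal.thompsonSubgroupOf_le _ _) hJC) inf_le_left
    refine hne (top_le_iff.1 (hF.ge.trans (sup_le ?_ hCss)))
    refine le_trans ?_ le_sup_right
    rw [← hJ]
    exact Transfer.normalizer_le_normalizer_thompsonSubgroupOf _
  set Tq := T.mapSurjective (QuotientGroup.mk'_surjective C)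
  have hTq : (Tq : Subgroup (G ⧸ C)) = (T : Subgroup G).map (QuotientGroup.mk' C) :=
    Sylow.coe_mapSurjective _ _
  obtain ⟨Q⟩ := VData.exists_vdecomp
    (⟨quot_pminimal hmin T hM hTM C hCT, hcore, hfaith, hexp⟩ : VData p (G ⧸ C) (Additive ↥Z)) Tq (hoffA A1 hA1 hA1C)
  have hcomapC : ∀ Y : Subgroup (G ⧸ C), C ≤ Y.comap (QuotientGroup.mk' C) := fun Y c hc => by
    show QuotientGroup.mk' C c ∈ Y
    rw [QuotientGroup.mk'_apply, (QuotientGroup.eq_one_iff c).2 hc]
    exact one_mem _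
  have hsurjC : Function.Surjective (QuotientGroup.mk' C) := QuotientGroup.mk'_surjective C
  have hiSup : (⨆ i, (Q.E i).comap (QuotientGroup.mk' C)) = (⨆ i, Q.E i).comap (QuotientGroup.mk' C) := by
    have h1 : C ≤ ⨆ i, (Q.E i).comap (QuotientGroup.mk' C) :=
      (hcomapC (Q.E ⟨0, Q.r_pos⟩)).trans (le_iSup (fun i => (Q.E i).comap (QuotientGroup.mk' C)) ⟨0, Q.r_pos⟩)
    refine le_antisymm (iSup_le fun i => Subgroup.comap_mono (le_iSup Q.E i)) ?_
    have h2 : (⨆ i, Q.E i) = (⨆ i, (Q.E i).comap (QuotientGroup.mk' C)).map (QuotientGroup.mk' C) := by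
      rw [Subgroup.map_iSup]
      exact iSup_congr fun i => (Subgroup.map_comap_eq_self_of_surjective hsurjC _).symm
    rw [h2, Subgroup.comap_map_eq, QuotientGroup.ker_mk']
    exact sup_le le_rfl h1
  -- the Thompson subgroup
  have hJeq : (⨆ i, Q.E i) = (Cfsg.thompsonSubgroup p G).map (QuotientGroup.mk' C) := by
    haveI := PLocal.thompsonSubgroup_characteristic p G
    refine le_antisymm (Q.least _ (hoffA A1 hA1 hA1C) _ ((inferInstance : (Cfsg.thompsonSubgroup p G).Normal).map _ hsurjC)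
      (Subgroup.map_mono ((PLocal.le_thompsonSubgroupOf hA1).trans (PLocal.thompsonSubgroupOf_sylow_le T)))) ?_
    rw [PLocal.thompsonSubgroup_eq_iSup, Subgroup.map_iSup]
    refine iSup_le fun S => ?_
    rw [PLocal.thompsonSubgroupOf_eq_sSup, Subgroup.map_le_iff_le_comap]
    refine sSup_le fun A hA => Subgroup.map_le_iff_le_comap.1 ?_
    obtain ⟨g, hg⟩ := MulAction.exists_smul_eq G S T
    have hST : cj g (S : Subgroup G) = (T : Subgroup G) := by
      rw [← hg, Sylow.coe_subgroup_smul]; rfl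
    have hA' : cj g A ∈ PLocal.maxEAOf p (T : Subgroup G) := by
      rw [← hST]
      exact PLocal.map_mem_maxEAOf (MulAut.conj g).injective hA
    have h1 : (cj g A).map (QuotientGroup.mk' C) ≤ ⨆ i, Q.E i := by
      by_cases hAC : cj g A ≤ C
      · refine (Subgroup.map_mono hAC).trans ?_
        rw [QuotientGroup.map_mk'_self]
        exact bot_le
      · exact Q.off_le _ (hTq ▸ Subgroup.map_mono hA'.1) (hoffA _ hA' hAC)
    intro q hq
    obtain ⟨a, ha, rfl⟩ := hq
    have h2 : QuotientGroup.mk' C (g * a * g⁻¹) ∈ ⨆ i, Q.E i := h1 ⟨_, conj_mem_cj ha, rfl⟩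
    have h3 := Q.normal.conj_mem _ h2 (QuotientGroup.mk' C g)⁻¹
    rwa [← map_inv, ← map_inv, ← map_mul, ← map_mul, show g⁻¹ * (g * a * g⁻¹) * g⁻¹⁻¹ = a by group] at h3
  have hEJ : (⨆ i, (Q.E i).comap (QuotientGroup.mk' C)) = Cfsg.thompsonSubgroup p G ⊔ C := by
    rw [hiSup, hJeq, Subgroup.comap_map_eq, QuotientGroup.ker_mk']
  refine ⟨Q.r, fun i => (Q.E i).comap (QuotientGroup.mk' C), fun i => hcomapC _, ?_, hEJ, fun i j hij => ?_,
    fun i => ?_, fun i j => ?_, ?_, fun i j hij => ?_, fun i => ?_⟩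
  · have h := congrArg (Subgroup.comap (QuotientGroup.mk' C)) Q.top
    rw [hJeq, hTq, ← Subgroup.map_sup, Subgroup.comap_map_eq, QuotientGroup.ker_mk', Subgroup.comap_top] at h
    exact h
  · rw [Subgroup.commutator_le]
    intro a ha b hb
    rw [← QuotientGroup.eq_one_iff]
    show QuotientGroup.mk' C ⁅a, b⁆ = 1
    rw [map_commutatorElement, commutatorElement_eq_one_iff_mul_comm]
    exact Q.commute i j hij _ ha _ hb
  · intro x hx
    have h1 : (⨆ j ∈ {j | j ≠ i}, (Q.E j).comap (QuotientGroup.mk' C)) ≤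
        (⨆ j ∈ {j | j ≠ i}, Q.E j).comap (QuotientGroup.mk' C) :=
      iSup₂_le fun j hj => Subgroup.comap_mono (le_iSup₂_of_le j hj le_rfl)
    have h2 : QuotientGroup.mk' C x ∈ Q.E i ⊓ (⨆ j ∈ {j | j ≠ i}, Q.E j) := ⟨hx.1, h1 hx.2⟩
    rwa [Q.disjoint, Subgroup.mem_bot, QuotientGroup.mk'_apply, QuotientGroup.eq_one_iff] at h2
  · obtain ⟨q, hq, e⟩ := Q.trans i j
    rw [hTq] at hq
    obtain ⟨t, ht, rfl⟩ := hq
    refine ⟨t, ht, ?_⟩
    beta_reduce
    ext x
    rw [← e]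
    show x ∈ cj t _ ↔ QuotientGroup.mk' C x ∈ cj (QuotientGroup.mk' C t) (Q.E i)
    rw [mem_cj, mem_cj, Subgroup.mem_comap, map_mul, map_mul, map_inv]
  · have := congrArg toG Q.span
    simpa only [toG_sup, toG_iSup, toG_top, toG_fix π hπ hact, toG_move π hπ hact, hup, ← hiSup] using this
  · beta_reduce
    rw [Subgroup.commutator_eq_bot_iff_le_centralizer, ← hup, ← hup, ← toG_move π hπ hact]
    refine (toG_mono (Q.sep i j hij)).trans ?_
    rw [toG_fix π hπ hact]
    exact inf_le_right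
  · obtain ⟨n, hn, hk⟩ := Q.kind i
    refine ⟨n, hn, ?_⟩
    beta_reduce
    set Ei := (Q.E i).comap (QuotientGroup.mk' C)
    haveI hnorm : (C.subgroupOf Ei).Normal := inferInstance
    let ρ0 : ↥Ei →* ↥(Q.E i) := (QuotientGroup.mk' C).subgroupComap (Q.E i)
    have hρ0 : Function.Surjective ρ0 := fun q => by
      obtain ⟨g, hg⟩ := hsurjC q
      exact ⟨⟨g, show QuotientGroup.mk' C g ∈ Q.E i from hg ▸ q.2⟩, Subtype.ext hg⟩
    have hker : C.subgroupOf Ei = ρ0.ker := by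
      ext g
      show (g : G) ∈ C ↔ ρ0 g = 1
      rw [Subtype.ext_iff, ← QuotientGroup.eq_one_iff]
      rfl
    have e : ↥Ei ⧸ C.subgroupOf Ei ≃* ↥(Q.E i) :=
      (QuotientGroup.quotientMulEquivOfEq hker).trans (QuotientGroup.quotientKerEquivOfSurjective ρ0 hρ0)
    rcases hk with h | h
    · obtain ⟨F, iF, iF', hF, ⟨χ, hχ⟩, ha⟩ := acts_linear π hπ hact _ h
      rw [hup] at ha
      exact Or.inl ⟨F, iF, iF', hF, ⟨hnorm, ⟨e.trans (MulEquiv.ofBijective χ hχ)⟩⟩, ha⟩
    · obtain ⟨hp2, ⟨χ, hχ⟩, ha⟩ := acts_perm π hπ hact _ h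
      rw [hup] at ha
      exact Or.inr ⟨hp2, ⟨hnorm, ⟨e.trans (MulEquiv.ofBijective χ hχ)⟩⟩, ha⟩

end CfsgLib.LocalEven.FFPMin
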