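import Cfsg.Agent.Lib.LocalEven.FFPMin.TransvectionOffender

/-!
The decomposition in the presence of a transvection.
-/

set_option autoImplicit false
set_option linter.unusedSectionVars false

namespace CfsgLib.LocalEven.FFPMin

open CfsgLib.LocalEven.OffenderSL2 (fixP)
open scoped _root_.Classical

variable {P : Type*} [Group P] [Finite P] {N : Type*} [AddCommGroup N] [DistribMulAction P N] [Finite N]
  [Module (ZMod 2) N] [hfaith : Fact (∀ g : P, (∀ n : N, g • n = n) → g = 1)]

theorem fix_zpowers {x : P} (hx : IsTv N x) : fixP N (Subgroup.zpowers x) = (fn N x).ker := by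
  ext n
  rw [AddMonoidHom.mem_ker, ← hx.fix_iff]
  refine ⟨fun h => h x (Subgroup.mem_zpowers x), fun h g hg => ?_⟩
  exact (Subgroup.zpowers_le.2 (show x ∈ MulAction.stabilizer P n from h)) hg

theorem index_fix_zpowers {x : P} (hx : IsTv N x) : (fixP N (Subgroup.zpowers x)).index = 2 := by
  obtain ⟨n, hn⟩ := hx.ax.exists_one
  have hs : Function.Surjective (fn N x) := fun z => by
    rcases zmod_two_cases z with rfl | rfl
    · exact ⟨0, map_zero _⟩
    · exact ⟨n, hn⟩
  rw [fix_zpowers hx, AddSubgroup.index_ker, AddMonoidHom.range_eq_top.2 hs, AddSubgroup.card_top, Nat.card_zmod]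

theorem moveP_zpowers {x : P} (hx : IsTv N x) {m : N} (hm : m ∈ moveP N (Subgroup.zpowers x)) :
    m = 0 ∨ m = cen N x := by
  have h : moveP N (Subgroup.zpowers x) ≤ AddSubgroup.zmultiples (cen N x) :=
    moveP_le.2 (Subgroup.zpowers_le.2 (hx.move_mem (AddSubgroup.mem_zmultiples _)))
  obtain ⟨j, rfl⟩ := AddSubgroup.mem_zmultiples_iff.1 (h hm)
  rw [← Int.cast_smul_eq_zsmul (ZMod 2)]
  rcases zmod_two_cases ((j : ZMod 2)) with e | e <;> rw [e]
  · exact Or.inl (zero_smul _ _)
  · exact Or.inr (one_smul _ _)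

variable (D : Model 2 P N) (hex : ∃ x : P, IsTv N x)
include hex

/-- The decomposition. -/
theorem exists_decomp_tv : Nonempty (Decomp D) := by
  let Cl : Finset (Finset P) := (outT D).image (cls D)
  let e := Cl.equivFin
  let cl : Fin Cl.card → Finset P := fun i => (e.symm i : Finset P)
  have hcl : ∀ i, ∃ x ∈ outT D, cls D x = cl i := fun i => Finset.mem_image.1 (e.symm i).2
  have hcov : ∀ x ∈ outT D, ∃ i, cl i = cls D x := fun x hx =>
    ⟨e ⟨cls D x, Finset.mem_image_of_mem _ hx⟩, by simp [cl]⟩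
  obtain ⟨a0, ha0, ha0T⟩ := exists_tv_T D hex
  obtain ⟨e0, he0, -⟩ := exists_nbr_eq D hex ha0 ha0T
  let E : Fin Cl.card → Subgroup P := fun i => Subgroup.closure (cl i : Set P)
  have hmemE : ∀ x ∈ outT D, x ∈ ⨆ i, E i := fun x hx => by
    obtain ⟨i, hi⟩ := hcov x hx
    exact le_iSup E i (Subgroup.subset_closure (by rw [hi]; exact self_mem_cls D hex hx))
  have hXE : ∀ a, IsTv N a → a ∈ (D.T : Subgroup P) → a ∈ ⨆ i, E i := fun a ha haT => by
    obtain ⟨x, hx, hxa⟩ := exists_nbr_eq D hex ha haT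
    have hxt := ((mem_outT D).1 hx).1
    have e1 : x * twin D hex x * x = a := eq_of_cen_eq D hex ((twin_tv D hex hx).conj' hxt) ha (by
      rw [cen_refl hxt (twin_tv D hex hx), pair_twin D hex hx, one_smul, cen_twin D hex hx, hxa, add_comm,
        ← add_assoc, add_self_two, zero_add])
    rw [← e1]
    exact mul_mem (mul_mem (hmemE x hx) (hmemE _ (twin_mem D hex hx))) (hmemE x hx)
  have hpermT : ∀ t ∈ (D.T : Subgroup P), ∀ i, ∃ j, cj t (E i) = E j := by
    intro t ht i
    obtain ⟨x, hx, hxi⟩ := hcl i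
    obtain ⟨j, hj⟩ := hcov _ (conj_mem_outT D hex (D.le ht) hx)
    refine ⟨j, ?_⟩
    show cj t (Subgroup.closure _) = Subgroup.closure _
    rw [cj_closure, hj, cls_conj D hex (D.le ht) hx, ← hxi, Finset.coe_image]
  have hpermO : ∀ x ∈ outT D, ∀ i, cj x (E i) = E i := by
    intro x hx i
    obtain ⟨y, hy, hyi⟩ := hcl i
    by_cases h : x ∈ cl i
    · exact cj_eq_of_mem (Subgroup.subset_closure h)
    · show cj x (Subgroup.closure _) = Subgroup.closure _
      rw [cj_closure]
      congr 1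
      refine Set.EqOn.image_eq_self fun z hz => ?_
      rw [← hyi] at h hz
      have h0 : pair N x z = 0 := by
        rw [pair_of_mem_cls D hex hy (Finset.mem_coe.1 hz) hx, if_neg (fun h' => h h'.1)]
      show x * z * x⁻¹ = z
      rw [(pair_zero_iff D hex ((mem_outT D).1 hx).1 (cls_tv D hex z hz)).1 h0, mul_inv_cancel_right]
  have hperm : ∀ g i, ∃ j, cj g (E i) = E j := by
    let S : Subgroup P :=
      { carrier := {g | cj g '' Set.range E = Set.range E}
        one_mem' := by
          show cj 1 '' _ = _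
          rw [show cj (1 : P) = id from funext cj_one, Set.image_id]
        mul_mem' := fun {a b} ha hb => by
          show cj (a * b) '' _ = _
          rw [show cj (a * b) = cj a ∘ cj b from funext fun X => (cj_cj a b X).symm, Set.image_comp, hb, ha]
        inv_mem' := fun {a} ha => by
          show cj a⁻¹ '' _ = _
          conv_lhs => rw [← (ha : cj a '' Set.range E = Set.range E)]
          rw [← Set.image_comp, show cj a⁻¹ ∘ cj a = id from funext (cj_inv_cj a), Set.image_id] }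
    have hS : ∀ g, (∀ i, ∃ j, cj g (E i) = E j) → g ∈ S := fun g hg => by
      refine Set.eq_of_subset_of_ncard_le ?_ ?_ (Set.toFinite _)
      · rintro _ ⟨_, ⟨i, rfl⟩, rfl⟩
        obtain ⟨j, hj⟩ := hg i
        exact ⟨j, hj.symm⟩
      · rw [Set.ncard_image_of_injective _ (cj_injective g)]
    have htop : S = ⊤ := by
      by_contra hne
      refine ((mem_outT D).1 he0).2 (D.le_M hne (fun t ht => hS t (hpermT t ht)) (hS e0 fun i => ⟨i, hpermO e0 he0 i⟩))
    intro g i
    have hg : cj g '' Set.range E = Set.range E := (htop.ge (Subgroup.mem_top g) : g ∈ S)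
    obtain ⟨j, hj⟩ := hg.le ⟨E i, ⟨i, rfl⟩, rfl⟩
    exact ⟨j, hj.symm⟩
  have hconjT : ∀ x, IsTv N x → ∃ g, g * x * g⁻¹ ∈ (D.T : Subgroup P) := by
    intro x hx
    have hp : IsPGroup 2 (Subgroup.zpowers x) := by
      intro a
      obtain ⟨j, hj⟩ := Subgroup.mem_zpowers_iff.1 a.2
      refine ⟨1, Subtype.ext ?_⟩
      show (a : P) ^ (2 ^ 1) = 1
      rw [← hj, pow_one, ← zpow_natCast, ← zpow_mul, mul_comm, zpow_mul, zpow_natCast, pow_two, hx.sq, one_zpow]
    obtain ⟨S, hS⟩ := hp.exists_le_sylow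
    obtain ⟨g, hg⟩ := MulAction.exists_smul_eq P S D.T
    refine ⟨g, ?_⟩
    rw [← hg, Sylow.coe_subgroup_smul]
    exact Subgroup.smul_mem_pointwise_smul x (MulAut.conj g) _ (hS (Subgroup.mem_zpowers x))
  refine ⟨{
    r := Cl.card
    r_pos := Finset.card_pos.2 ⟨_, Finset.mem_image_of_mem _ he0⟩
    E := E
    q := 2
    roots := {A | ∃ x, IsTv N x ∧ Subgroup.zpowers x = A}
    sep := ?_
    top := ?_
    perm := hperm
    trans := ?_
    rootsInv := ?_
    rootsTrans := ?_
    rootIndex := ?_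
    gen := ?_
    offender := ?_
    kind := ?_
    lift := ?_ }⟩
  · intro i j hij
    obtain ⟨x, hx, hxi⟩ := hcl i
    obtain ⟨y, hy, hyj⟩ := hcl j
    show moveP N (Subgroup.closure _) ≤ fixP N (Subgroup.closure _)
    rw [← hxi, ← hyj]
    refine sep_cls D hex hx hy fun h => hij (e.symm.injective (Subtype.ext ?_))
    show cl i = cl j
    rw [← hxi, ← hyj, h]
  · refine le_trans (D.residual_le_out (XS := {A | ∃ x, IsTv N x ∧ Subgroup.zpowers x = A}) ?_ ?_) (sSup_le ?_)
    · rintro g _ ⟨x, hx, rfl⟩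
      exact ⟨_, hx.conj g, ((MulAut.conj g).toMonoidHom.map_zpowers x).symm⟩
    · obtain ⟨het, heM⟩ := (mem_outT D).1 he0
      exact ⟨_, ⟨e0, het, rfl⟩, fun h => heM (h (Subgroup.mem_zpowers e0))⟩
    · rintro _ ⟨⟨x, hx, rfl⟩, hxM⟩
      refine Subgroup.zpowers_le.2 (hmemE x ((mem_outT D).2 ⟨hx, fun h => hxM ?_⟩))
      exact Subgroup.zpowers_le.2 h
  · intro i j
    obtain ⟨x, hx, hxi⟩ := hcl i
    obtain ⟨y, hy, hyj⟩ := hcl j
    obtain ⟨⟨ha, haT, -⟩, -⟩ := nbr_spec D hex hx
    obtain ⟨⟨hb, hbT, -⟩, -⟩ := nbr_spec D hex hy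
    obtain ⟨t, ht, htab⟩ := tv_trans D hex ha haT hb hbT
    have hto := conj_mem_outT D hex (D.le ht) hx
    have hmem : y ∈ cls D (t * x * t⁻¹) := by
      refine (mem_cls D hex).2 ⟨hy, (em (y = t * x * t⁻¹)).imp_right fun hne => ?_⟩
      exact pair_one_of_nbr_eq D hex hto hy hne (by rw [nbr_conj D hex ht hx, htab])
    refine ⟨t, ?_⟩
    show cj t (Subgroup.closure _) = Subgroup.closure _
    rw [cj_closure, ← hxi, ← hyj, cls_eq D hex hto hmem, cls_conj D hex (D.le ht) hx, Finset.coe_image]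
  · rintro g _ ⟨x, hx, rfl⟩
    exact ⟨_, hx.conj g, ((MulAut.conj g).toMonoidHom.map_zpowers x).symm⟩
  · rintro _ ⟨x, hx, rfl⟩ _ ⟨y, hy, rfl⟩
    obtain ⟨g, hg⟩ := hconjT x hx
    obtain ⟨k, hk⟩ := hconjT y hy
    obtain ⟨t, -, ht⟩ := tv_trans D hex (hx.conj g) hg (hy.conj k) hk
    refine ⟨k⁻¹ * t * g, ?_⟩
    rw [cj, MonoidHom.map_zpowers]
    refine congrArg Subgroup.zpowers ?_
    show k⁻¹ * t * g * x * (k⁻¹ * t * g)⁻¹ = y
    rw [show k⁻¹ * t * g * x * (k⁻¹ * t * g)⁻¹ = k⁻¹ * (t * (g * x * g⁻¹) * t⁻¹) * k by group, ht]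
    group
  · rintro _ ⟨x, hx, rfl⟩
    exact index_fix_zpowers hx
  · intro i
    obtain ⟨y, hy, hyi⟩ := hcl i
    refine ⟨(cl i).image Subgroup.zpowers, ?_, ?_, ?_⟩
    · intro A hA
      obtain ⟨x, hx, rfl⟩ := Finset.mem_image.1 hA
      exact ⟨x, cls_tv D hex x (Finset.mem_coe.2 (hyi ▸ hx)), rfl⟩
    · rw [Finset.sup_image]
      refine le_antisymm (Finset.sup_le fun x hx => Subgroup.zpowers_le.2 (Subgroup.subset_closure hx))
        ((Subgroup.closure_le _).2 fun x hx => ?_)
      exact Finset.le_sup (f := id ∘ Subgroup.zpowers) (Finset.mem_coe.1 hx) (Subgroup.mem_zpowers x)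
    · rw [Finset.card_image_of_injOn ?_]
      · show 2 ^ (cl i).card = (fixP N (Subgroup.closure _)).index
        rw [← hyi, index_fix_cls D hex hy]
      · intro x hx z hz h
        have hxt : IsTv N x := cls_tv D hex x (by rw [hyi]; exact hx)
        have hzt : IsTv N z := cls_tv D hex z (by rw [hyi]; exact hz)
        refine eq_of_cen_eq D hex hxt hzt ?_
        obtain ⟨n, hn⟩ := hxt.ax.exists_one
        have h1 : cen N x ∈ moveP N (Subgroup.zpowers z) := by
          have := move_mem (N := N) (show x ∈ Subgroup.zpowers z from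
            (show Subgroup.zpowers x = Subgroup.zpowers z from h) ▸ Subgroup.mem_zpowers x) n
          rwa [hxt.act, hn, one_smul, add_sub_cancel_left] at this
        exact (moveP_zpowers hzt h1).resolve_left hxt.ax.c_ne
  · intro B hBT hB
    obtain ⟨h1, ⟨a, ha, haB⟩, h2⟩ := offender_tv D hex hBT hB
    refine ⟨h2.trans ((Subgroup.closure_le _).2 fun x hx => hXE x hx.1 (hBT hx.2)), h1, _, ⟨a, ha, rfl⟩,
      Subgroup.zpowers_le.2 haB, fix_span D hex ?_ ha (hBT haB)⟩
    exact h2.trans (Subgroup.closure_mono fun x hx => ⟨hx.1, hBT hx.2⟩)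
  · intro i
    obtain ⟨y, hy, hyi⟩ := hcl i
    obtain ⟨n, hn1, hn⟩ := cls_card_pow D hex hy
    refine ⟨n, hn1, Or.inr ?_⟩
    show IsPermFactor N 2 n (Subgroup.closure _)
    rw [← hyi]
    exact isPermFactor_cls D hex hy hn
  · refine Or.inl ⟨rfl, ((Set.toFinite {x : P | IsTv N x ∧ x ∈ (D.T : Subgroup P)}).toFinset).image
      Subgroup.zpowers, ?_, ?_, ?_, ?_⟩
    · intro A hA
      obtain ⟨x, hx, rfl⟩ := Finset.mem_image.1 hA
      exact ⟨x, ((Set.Finite.mem_toFinset _).1 hx).1, rfl⟩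
    · intro A hA
      obtain ⟨x, hx, rfl⟩ := Finset.mem_image.1 hA
      have hxt := ((Set.Finite.mem_toFinset _).1 hx).1
      rw [Nat.card_zpowers]
      exact orderOf_eq_prime (by rw [pow_two]; exact hxt.sq) hxt.ne_one
    · intro t ht A hA
      obtain ⟨x, hx, rfl⟩ := Finset.mem_image.1 hA
      obtain ⟨hxt, hxT⟩ := (Set.Finite.mem_toFinset _).1 hx
      refine Finset.mem_image.2 ⟨t * x * t⁻¹, (Set.Finite.mem_toFinset _).2
        ⟨hxt.conj t, mul_mem (mul_mem ht hxT) (inv_mem ht)⟩, ?_⟩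
      exact ((MulAut.conj t).toMonoidHom.map_zpowers x).symm
    · intro c hc h0
      set X := (Set.toFinite {x : P | IsTv N x ∧ x ∈ (D.T : Subgroup P)}).toFinset with hX
      have hmemX : ∀ x, x ∈ X ↔ IsTv N x ∧ x ∈ (D.T : Subgroup P) := fun x => Set.Finite.mem_toFinset _
      have hcx : ∀ x ∈ X, c (Subgroup.zpowers x) = cen N x := fun x hx => by
        obtain ⟨h1, h2⟩ := hc _ (Finset.mem_image_of_mem _ hx)
        exact (moveP_zpowers ((hmemX x).1 hx).1 h1).resolve_left h2
      have hinj : Set.InjOn (Subgroup.zpowers : P → Subgroup P) (X : Set P) := fun x hx z hz h =>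
        eq_of_cen_eq D hex ((hmemX x).1 hx).1 ((hmemX z).1 hz).1 (by rw [← hcx x hx, ← hcx z hz, h])
      rw [Finset.sum_image hinj, Finset.sum_congr rfl hcx] at h0
      have := congrArg (fn N e0) h0
      have h1 : ∀ x ∈ X, fn N e0 (cen N x) = if x = nbr D hex e0 then (1 : ZMod 2) else 0 := fun x hx =>
        pair_nbr D hex he0 ((hmemX x).1 hx).1 ((hmemX x).1 hx).2
      rw [map_sum, map_zero, Finset.sum_congr rfl h1, Finset.sum_ite_eq',
        if_pos ((hmemX _).2 ⟨(nbr_spec D hex he0).1.1, (nbr_spec D hex he0).1.2.1⟩)] at this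
      exact one_ne_zero this

omit hex [Module (ZMod 2) N] hfaith in
/-- An offender of order two is generated by a transvection. -/
theorem exists_tv_of_card_two [Module (ZMod 2) N] {A : Subgroup P} (hA : IsOff N 2 A)
    (hf : ∀ g : P, (∀ n : N, g • n = n) → g = 1) (hcard : Nat.card A = 2) : ∃ x : P, IsTv N x := by
  obtain ⟨⟨a, haA⟩, ha1⟩ := Subgroup.ne_bot_iff_exists_ne_one.1 hA.ne_bot
  have ha : a ≠ 1 := fun h => ha1 (Subtype.ext h)
  have hall : ∀ b ∈ A, b = 1 ∨ b = a := by
    intro b hb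
    by_contra h
    push Not at h
    have h3 : 3 ≤ Nat.card A := by
      refine le_trans (le_of_eq ?_) (Nat.card_le_card_of_injective
        (fun i : Fin 3 => (![1, ⟨a, haA⟩, ⟨b, hb⟩] : Fin 3 → A) i) ?_)
      · simp
      · intro i j hij
        fin_cases i <;> fin_cases j <;>
          first
          | rfl
          | (exfalso; simp [Subtype.ext_iff] at hij; first
            | exact ha hij.symm | exact ha hij | exact h.1 hij | exact h.1 hij.symm
            | exact h.2 hij | exact h.2 hij.symm)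
    omega
  set U := fixP N A with hU
  have hiff : ∀ n, n ∈ U ↔ a • n = n := fun n => ⟨fun h => h a haA, fun h b hb => by
    rcases hall b hb with rfl | rfl
    · exact one_smul _ _
    · exact h⟩
  obtain ⟨n0, hn0⟩ : ∃ n0, n0 ∉ U := by
    by_contra h
    push Not at h
    exact ha (hf a fun n => (hiff n).1 (h n))
  have hidx : U.index = 2 := by
    have h1 := U.card_mul_index
    have h2 := hA.ineq
    rw [hcard, ← h1, mul_comm (2 : ℕ)] at h2
    have h3 : U.index ≤ 2 := Nat.le_of_mul_le_mul_left h2 Nat.card_pos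
    have h4 : U.index ≠ 1 := fun e => hn0 (by rw [AddSubgroup.index_eq_one.1 e]; trivial)
    have h5 : U.index ≠ 0 := AddSubgroup.index_ne_zero_of_finite
    omega
  set c := a • n0 - n0 with hc
  let g : N →+ ZMod 2 :=
    { toFun := fun n => if n ∈ U then 0 else 1
      map_zero' := if_pos (zero_mem U)
      map_add' := fun x y => by
        have := AddSubgroup.add_mem_iff_of_index_two hidx (a := x) (b := y)
        by_cases hx : x ∈ U <;> by_cases hy : y ∈ U <;> simp [hx, hy, this] <;> decide }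
  have ha2 : a * a = 1 := by rw [← pow_two]; exact hA.exp a haA
  have hcU : c ∈ U := by
    rw [hiff, hc, smul_sub, ← mul_smul, ha2, one_smul]
    rw [← sub_eq_zero, show n0 - a • n0 - (a • n0 - n0) = (n0 + n0) - (a • n0 + a • n0) by abel,
      add_self_two, add_self_two, sub_zero]
  refine ⟨a, c, g, fun h => hn0 ((hiff n0).2 (sub_eq_zero.1 h)), if_pos hcU, fun h => ?_, fun n => ?_⟩
  · have := DFunLike.congr_fun h n0
    simp [g, hn0] at this
  · by_cases hn : n ∈ U
    · rw [show g n = 0 from if_pos hn, zero_smul, add_zero]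
      exact (hiff n).1 hn
    · rw [show g n = 1 from if_neg hn, one_smul]
      have hd : n - n0 ∈ U := by
        rw [sub_eq_add_neg, AddSubgroup.add_mem_iff_of_index_two hidx]
        simp [hn, hn0]
      have := (hiff _).1 hd
      rw [smul_sub, sub_eq_iff_eq_add] at this
      rw [this, hc]
      abel

end CfsgLib.LocalEven.FFPMin
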