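import Cfsg.Agent.Lib.LocalEven.FFPMin.Offender
import Cfsg.Agent.Lib.LocalEven.FFPMin.TransvectionMain

/-!
The structure theorem in module language.
-/

set_option autoImplicit false
set_option linter.unusedSectionVars false

namespace CfsgLib.LocalEven.FFPMin

open CfsgLib.LocalEven.OffenderSL2 (fixP)
open scoped _root_.Classical Pointwise

variable {p : ℕ} [hp : Fact p.Prime] {P : Type*} [Group P] [Finite P] {N : Type*} [AddCommGroup N]
  [DistribMulAction P N] [Finite N]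

theorem cj_sSup_image {g : P} {s : Set (Subgroup P)} : cj g (sSup s) = sSup (cj g '' s) := by
  rw [cj, sSup_image, sSup_eq_iSup, Subgroup.map_iSup]
  refine iSup_congr fun a => ?_
  rw [Subgroup.map_iSup]
  rfl

theorem Setup.exists_decomp {D : Model p P N} {F : Fam p P N} (S : Setup D F) : Nonempty (Decomp D) := by
  obtain ⟨f, hf, -⟩ := S.exists_fixed_pair
  let e : S.Ix ≃ Fin (Nat.card S.Ix) := Finite.equivFin _
  have hE : (⨆ i, S.fac hf (e.symm i)) = ⨆ d, S.fac hf d := Equiv.iSup_comp (g := S.fac hf) e.symm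
  refine ⟨{
    r := Nat.card S.Ix
    r_pos := by
      haveI : Nonempty S.Ix := ⟨⟨S.A, S.memA, S.AT⟩⟩
      exact Nat.card_pos
    E := fun i => S.fac hf (e.symm i)
    q := Nat.card S.A
    roots := {A | F.Mem A}
    sep := fun i j hij => S.sep hf fun h => hij (e.symm.injective h)
    top := hE.ge.trans' (S.residual_le_fac hf)
    perm := fun g i => ?_
    trans := fun i j => S.fac_trans hf _ _
    rootsInv := fun g A hA => Fam.Mem.cj hA g
    rootsTrans := ?_
    rootIndex := fun A hA => S.index_fix_mem hf hA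
    gen := fun i => S.fac_gen hf _
    offender := fun B hBT hB => ?_
    kind := fun i => ?_
    lift := Or.inr (by rw [hE]; exact S.fac_lift hf) }⟩
  · obtain ⟨d, hd⟩ := S.perm hf g (e.symm i)
    exact ⟨e d, by rw [hd, Equiv.symm_apply_apply]⟩
  · rintro _ ⟨g, rfl⟩ _ ⟨h, rfl⟩
    exact ⟨h * g⁻¹, by rw [cj_cj, inv_mul_cancel_right]⟩
  · obtain ⟨h1, h2⟩ := S.offender_field hf hBT hB
    exact ⟨hE.ge.trans' h1, h2⟩
  · obtain ⟨n, hn, h⟩ := S.fac_linear hf (e.symm i)
    exact ⟨n, hn, Or.inl h⟩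

/-- The decomposition for a conjugate Sylow subgroup gives one for the original. -/
theorem Decomp.transfer {D : Model p P N} {T' : Sylow p P} {hT' : (T' : Subgroup P) ≤ D.M}
    (Q : Decomp (D.withT T' hT')) : Nonempty (Decomp D) := by
  obtain ⟨m, hm, hle⟩ := D.exists_conj_T T'.isPGroup' hT'
  have hT : cj m⁻¹ (T' : Subgroup P) = (D.T : Subgroup P) :=
    Subgroup.eq_of_le_of_card_ge (cj_le_iff.2 (by rwa [inv_inv])) (by
      rw [card_cj]
      exact (Nat.le_of_eq (Sylow.card_eq_multiplicity D.T)).trans (Nat.le_of_eq (Sylow.card_eq_multiplicity T').symm))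
  have hT2 : cj m (D.T : Subgroup P) = (T' : Subgroup P) := by rw [← hT, cj_cj_inv]
  have hEn : ∀ g, cj g (⨆ i, Q.E i) ≤ ⨆ i, Q.E i := fun g => by
    rw [cj, Subgroup.map_iSup]
    refine iSup_le fun i => ?_
    obtain ⟨j, hj⟩ := Q.perm g i
    exact hj.le.trans (le_iSup Q.E j)
  refine ⟨{
    r := Q.r
    r_pos := Q.r_pos
    E := Q.E
    q := Q.q
    roots := Q.roots
    sep := Q.sep
    top := Q.top
    perm := Q.perm
    trans := Q.trans
    rootsInv := Q.rootsInv
    rootsTrans := Q.rootsTrans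
    rootIndex := Q.rootIndex
    gen := Q.gen
    offender := fun B hBT hB => ?_
    kind := Q.kind
    lift := ?_ }⟩
  · obtain ⟨h1, h2, A, hA, hAB, hfix⟩ := Q.offender (cj m B) ((cj_mono hBT).trans hT2.le) (hB.cj m)
    refine ⟨?_, by rwa [card_cj, card_fixP_cj] at h2, cj m⁻¹ A, Q.rootsInv _ A hA, ?_, ?_⟩
    · have := (cj_mono (g := m⁻¹) h1).trans (hEn m⁻¹)
      rwa [cj_inv_cj] at this
    · exact cj_le_iff.2 (by rwa [inv_inv])
    · intro n hn
      rw [mem_fixP_cj, inv_inv] at hn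
      set Z := AddSubgroup.closure {z | ∃ g, cj g (cj m⁻¹ A) = cj m⁻¹ A ∧ ∃ n ∈ fixP N B, g • n = z}
      suffices h : AddSubgroup.closure {z | ∃ g, cj g A = A ∧ ∃ n ∈ fixP N (cj m B), g • n = z} ≤
          Z.comap (DistribSMul.toAddMonoidHom N m⁻¹) by
        have := h (hfix hn)
        rwa [AddSubgroup.mem_comap, DistribSMul.toAddMonoidHom_apply, inv_smul_smul] at this
      refine (AddSubgroup.closure_le _).2 ?_
      rintro _ ⟨g, hg, k, hk, rfl⟩
      refine AddSubgroup.subset_closure ⟨m⁻¹ * g * m, ?_, m⁻¹ • k, mem_fixP_cj.1 hk, ?_⟩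
      · rw [cj_cj, mul_inv_cancel_right, ← cj_cj, hg]
      · show _ = m⁻¹ • g • k
        rw [mul_smul, mul_smul, smul_inv_smul]
  · rcases Q.lift with ⟨hq, X, hX, hX2, hXT, hc⟩ | ⟨H, J, hJH, hHE, ⟨s, hs, hJ⟩, hidx, hnorm, hHJ, hfix, hinf⟩
    · refine Or.inl ⟨hq, X.image (cj m⁻¹), ?_, ?_, ?_, ?_⟩
      · intro A hA
        obtain ⟨A', hA', rfl⟩ := Finset.mem_image.1 hA
        exact Q.rootsInv _ _ (hX hA')
      · intro A hA
        obtain ⟨A', hA', rfl⟩ := Finset.mem_image.1 hA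
        rw [card_cj]
        exact hX2 A' hA'
      · intro t ht A hA
        obtain ⟨A', hA', rfl⟩ := Finset.mem_image.1 hA
        refine Finset.mem_image.2 ⟨cj (m * t * m⁻¹) A', hXT _ (hT2.le (conj_mem_cj ht)) A' hA', ?_⟩
        rw [cj_cj, cj_cj]
        congr 1
        group
      · intro c hcc e
        refine hc (fun A => m • c (cj m⁻¹ A)) (fun A hA => ?_) ?_
        · obtain ⟨h1, h2⟩ := hcc _ (Finset.mem_image_of_mem _ hA)
          refine ⟨?_, fun h => h2 (by rwa [smul_eq_zero_iff_eq] at h)⟩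
          have := smul_mem_moveP_cj (g := m) h1
          rwa [cj_cj_inv] at this
        · rw [← Finset.smul_sum]
          rw [Finset.sum_image fun a _ b _ h => cj_injective _ h] at e
          rw [e, smul_zero]
    · refine Or.inr ⟨cj m⁻¹ H, cj m⁻¹ J, cj_mono hJH, (cj_mono hHE).trans (hEn m⁻¹), ⟨cj m⁻¹ '' s, ?_, ?_⟩, ?_, fun t ht => ?_, ?_, ?_, ?_⟩
      · rintro _ ⟨A, hA, rfl⟩
        exact Q.rootsInv _ _ (hs hA)
      · rw [← cj_sSup_image, hJ]
      · rwa [cj, cj, Subgroup.relIndex_map_map_of_injective _ _ (MulAut.conj m⁻¹).injective]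
      · obtain ⟨h1, h2⟩ := hnorm (m * t * m⁻¹) (hT2.le (conj_mem_cj ht))
        have e : t * m⁻¹ = m⁻¹ * (m * t * m⁻¹) := by group
        exact ⟨by rw [cj_cj, e, ← cj_cj, h1], by rw [cj_cj, e, ← cj_cj, h2]⟩
      · rintro _ ⟨h, hh, rfl⟩
        show cj (m⁻¹ * h * m⁻¹⁻¹) _ = _
        rw [cj_cj, inv_inv, mul_inv_cancel_right, ← cj_cj, hHJ h hh]
      · refine fun e => hfix ((AddSubgroup.eq_bot_iff_forall _).2 fun n hn => ?_)
        have h1 := (AddSubgroup.eq_bot_iff_forall _).1 e _ (smul_mem_fixP_cj (g := m⁻¹) hn)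
        rwa [smul_eq_zero_iff_eq] at h1
      · refine (AddSubgroup.eq_bot_iff_forall _).2 fun n hn => ?_
        have h1 := (AddSubgroup.eq_bot_iff_forall _).1 hinf (m⁻¹⁻¹ • n)
          ⟨mem_fixP_cj.1 hn.1, mem_fixP_cj.1 hn.2⟩
        rwa [smul_eq_zero_iff_eq] at h1

/-- The structure theorem. -/
theorem Model.exists_decomp (D : Model p P N) {B : Subgroup P} (hB : IsOff N p B) :
    Nonempty (Decomp D) := by
  by_cases htwo : ∀ A : Subgroup P, IsMin N p A → 3 ≤ Nat.card A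
  · obtain ⟨A, -, hA⟩ := hB.exists_min
    obtain ⟨T', hT', ⟨S⟩⟩ := exists_setup D ⟨A, hA, htwo⟩
    obtain ⟨Q⟩ := S.exists_decomp
    exact Q.transfer
  push Not at htwo
  obtain ⟨A, hA, hA3⟩ := htwo
  have h1 : 1 < Nat.card A := A.one_lt_card_iff_ne_bot.2 hA.ne_bot
  have h2 : Nat.card A = 2 := by omega
  obtain ⟨k, hk⟩ := IsPGroup.iff_card.1 hA.toIsOff.isPGroup
  obtain rfl : p = 2 := by
    have hd : p ∣ Nat.card A := hk ▸ dvd_pow_self p (fun e => by rw [e, pow_zero] at hk; omega)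
    rw [h2] at hd
    exact (Nat.prime_dvd_prime_iff_eq hp.out Nat.prime_two).1 hd
  letI : Module (ZMod 2) N := AddCommGroup.zmodModule D.expN
  haveI : Fact (∀ g : P, (∀ n : N, g • n = n) → g = 1) := ⟨D.faith⟩
  exact exists_decomp_tv D (exists_tv_of_card_two hA.toIsOff D.faith h2)

end CfsgLib.LocalEven.FFPMin
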