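import Cfsg.Agent.Lib.LocalEven.FFPMin.Factors
import Cfsg.Agent.Lib.LocalEven.Baumann.SL2Facts
import Cfsg.Agent.Lib.Components.LocalLayer

/-!
Every offender in the Sylow subgroup contains one of the members and lies in the group they generate.
-/

set_option autoImplicit false
set_option linter.unusedSectionVars false

namespace CfsgLib.LocalEven.FFPMin

open CfsgLib.LocalEven.OffenderSL2 (fixP)
open scoped _root_.Classical Pointwise

variable {p : ℕ} [hp : Fact p.Prime] {P : Type*} [Group P] [Finite P] {N : Type*} [AddCommGroup N]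
  [DistribMulAction P N] [Finite N]
variable {D : Model p P N} {F : Fam p P N}

/-- Every minimal offender acts semiregularly. -/
theorem semireg_min (D : Model p P N) (F : Fam p P N) {B : Subgroup P} (hB : IsMin N p B) {b : P}
    (hb : b ∈ B) (hb1 : b ≠ 1) {n : N} (hn : b • n = n) : n ∈ fixP N B := by
  let F1 : Fam p P N := ⟨B, hB, F.noTwo⟩
  obtain ⟨T', hT', ⟨S1⟩⟩ := exists_setup D F1
  exact Setup.semireg S1 (⟨1, cj_one B⟩ : F1.Mem B) hb hb1 hn

/-- A minimal offender of order at least four lies in the residual. -/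
theorem min_le_residual (D : Model p P N) (F : Fam p P N) {B : Subgroup P} (hB : IsMin N p B)
    (h4 : 4 ≤ Nat.card B) : B ≤ Cfsg.pResidual p P := by
  let F1 : Fam p P N := ⟨B, hB, F.noTwo⟩
  obtain ⟨T', hT', ⟨S1⟩⟩ := exists_setup D F1
  obtain ⟨f, hf, -⟩ := S1.exists_fixed_pair
  obtain ⟨K, iK, iK', hK, ρ, -, hρ, -⟩ := (S1.inA.isPair hf).facts.natural
  obtain ⟨g, hg⟩ := S1.memA
  have h4' : 4 ≤ Nat.card K := by rwa [Nat.card_eq_fintype_card, hK, ← hg, card_cj]
  have hperf : Group.IsPerfect ↥(S1.A ⊔ f : Subgroup P) := by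
    constructor
    let e := MulEquiv.ofBijective ρ hρ
    have h1 := Baumann.commutator_eq_top_of_four h4'
    have h2 : (commutator ↥(S1.A ⊔ f : Subgroup P)).map e.toMonoidHom = commutator _ := by
      rw [commutator_def, commutator_def, Subgroup.map_commutator,
        Subgroup.map_top_of_surjective e.toMonoidHom e.surjective]
    refine Subgroup.map_injective (f := e.toMonoidHom) e.injective (h2.trans ?_)
    rw [h1, Subgroup.map_top_of_surjective e.toMonoidHom e.surjective]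
  have hres := Components.pResidual_eq_top_of_perfect (p := p) hperf
  have hle : S1.A ⊔ f ≤ Cfsg.pResidual p P := by
    have := Transfer.map_pResidual_le (p := p) (S1.A ⊔ f : Subgroup P).subtype
    rwa [hres, ← MonoidHom.range_eq_map, Subgroup.range_subtype] at this
  haveI := Transfer.pResidual_normal (G := P) (p := p)
  intro b hb
  have h5 : g * b * g⁻¹ ∈ Cfsg.pResidual p P :=
    hle (Subgroup.mem_sup_left (hg ▸ conj_mem_cj hb))
  have := Subgroup.Normal.conj_mem ‹_› _ h5 g⁻¹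
  rwa [show g⁻¹ * (g * b * g⁻¹) * g⁻¹⁻¹ = b by group] at this

theorem exists_fixed_nonzero {X : Subgroup P} (hX : IsPGroup p X) (expN : ∀ n : N, p • n = 0)
    {U : AddSubgroup N} (hU : U ≠ ⊥) (hinv : ∀ g ∈ X, ∀ n ∈ U, g • n ∈ U) :
    ∃ s ∈ U, s ≠ 0 ∧ s ∈ fixP N X := by
  let : MulAction ↥X U :=
    { smul := fun g n => ⟨(g : P) • (n : N), hinv g g.2 n n.2⟩
      one_smul := fun n => Subtype.ext (one_smul P (n : N))
      mul_smul := fun g h n => Subtype.ext (mul_smul (g : P) (h : P) (n : N)) }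
  obtain ⟨n, hn, hn0⟩ : ∃ n ∈ U, n ≠ 0 := by
    by_contra h
    push Not at h
    exact hU ((AddSubgroup.eq_bot_iff_forall _).2 h)
  have hdvd : p ∣ Nat.card U := by
    have : addOrderOf (⟨n, hn⟩ : U) = p := addOrderOf_eq_prime (Subtype.ext (expN n))
      (fun e => hn0 (congrArg Subtype.val e))
    exact this ▸ addOrderOf_dvd_natCard _
  obtain ⟨s, hs, hs0⟩ := hX.exists_fixed_point_of_prime_dvd_card_of_fixed_point U hdvd
    (a := (0 : U)) (fun t => Subtype.ext (smul_zero (t : P)))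
  exact ⟨s, s.2, fun e => hs0 (Subtype.ext e.symm), fun g hg => congrArg Subtype.val (hs ⟨g, hg⟩)⟩

theorem isPGroup_zpowers {b : P} (hb : b ^ p = 1) : IsPGroup p (Subgroup.zpowers b) := by
  intro g
  obtain ⟨j, hj⟩ := Subgroup.mem_zpowers_iff.1 g.2
  refine ⟨1, Subtype.ext ?_⟩
  show (g : P) ^ (p ^ 1) = 1
  rw [← hj, pow_one, ← zpow_natCast, ← zpow_mul, mul_comm, zpow_mul, zpow_natCast, hb, one_zpow]

namespace Setup

variable (S : Setup D F) {f : Subgroup P} (hf : S.Out f)
include hf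

theorem moveP_fac_ne_bot (d : S.Ix) : moveP N (S.fac hf d) ≠ ⊥ := fun e =>
  moveP_ne_bot D.faith d.2.1.ne_bot (le_bot_iff.1 ((moveP_mono (S.le_fac hf d)).trans e.le))

theorem T_mem_fac {d e : S.Ix} (h : e.1 ≤ S.fac hf d) : e = d := by
  by_contra hne
  refine moveP_ne_bot D.faith e.2.1.ne_bot (le_bot_iff.1 ?_)
  rw [← S.fac_inf hf e]
  exact le_inf (moveP_mono (S.le_fac hf e)) ((moveP_mono h).trans (S.sep hf (Ne.symm hne)))

theorem member_normalised {b : P} (hbT : b ∈ (D.T : Subgroup P)) (d : S.Ix)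
    (h : FFPMin.cj b (S.fac hf d) = S.fac hf d) : FFPMin.cj b d.1 = d.1 :=
  congrArg Subtype.val (S.T_mem_fac hf (d := d)
    (e := ⟨FFPMin.cj b d.1, d.2.1.cj b, (cj_mono d.2.2).trans (cj_eq_of_mem hbT).le⟩)
    ((cj_mono (S.le_fac hf d)).trans h.le))

theorem fix_mem_split (d : S.Ix) :
    fixP N d.1 = moveP N d.1 ⊔ fixP N (S.fac hf d) := by
  ext n
  constructor
  · intro h
    rw [← S.cj_tt hf d, mem_fixP_cj, ← S.moveA_sup hf, AddSubgroup.mem_sup] at h
    obtain ⟨m, hm, c, hc, e⟩ := h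
    rw [← smul_inv_smul (S.tt hf d) n, ← e, smul_add]
    exact add_mem (AddSubgroup.mem_sup_left ((S.move_mem_d hf d).2 (by rwa [inv_smul_smul])))
      (AddSubgroup.mem_sup_right (smul_mem_fixP_cj hc))
  · exact fun h => (sup_le (moveP_le.2 fun a ha m => (d.2.1.isMin.quad D.expN) a ha m)
      (fixP_anti (S.le_fac hf d))) h

theorem card_move_mem (d : S.Ix) : Nat.card (moveP N d.1) = Nat.card S.A := by
  rw [← S.card_moveA hf, ← S.cj_tt hf d, moveP_cj]
  exact Nat.card_congr ((moveP N S.A).equivMapOfInjective _ (MulAction.injective _)).toEquiv.symm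

theorem fac_sup (d : S.Ix) : moveP N (S.fac hf d) ⊔ fixP N (S.fac hf d) = ⊤ := by
  refine eq_top_iff.2 fun n _ => ?_
  obtain ⟨m, hm, c, hc, e⟩ := AddSubgroup.mem_sup.1 ((S.moveL_sup hf).ge (AddSubgroup.mem_top ((S.tt hf d)⁻¹ • n)))
  rw [← smul_inv_smul (S.tt hf d) n, ← e, smul_add]
  exact add_mem (AddSubgroup.mem_sup_left ((S.move_fac hf d).2 (by rwa [inv_smul_smul])))
    (AddSubgroup.mem_sup_right (smul_mem_fixP_cj hc))

theorem fix_sup_fix {d e : S.Ix} (hne : d ≠ e) : fixP N d.1 ⊔ fixP N e.1 = ⊤ := by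
  refine top_le_iff.1 ((S.fac_sup hf e).ge.trans (sup_le ?_ ?_))
  · exact le_sup_of_le_left ((S.sep hf hne.symm).trans (fixP_anti (S.le_fac hf d)))
  · exact le_sup_of_le_right (fixP_anti (S.le_fac hf e))

/-- A minimal offender in the Sylow subgroup fixes every factor. -/
theorem min_fixes {B : Subgroup P} (hB : IsMin N p B) (hBT : B ≤ (D.T : Subgroup P)) (d : S.Ix) {b : P}
    (hb : b ∈ B) : FFPMin.cj b (S.fac hf d) = S.fac hf d := by
  set L := S.fac hf d with hL
  by_contra hbL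
  have hmv : ∀ x ∈ B, FFPMin.cj x L ≠ L → ∀ n ∈ moveP N L, x • n ∈ fixP N L := by
    intro x hx hxL n hn
    obtain ⟨e, he⟩ := S.perm hf x d
    have hne : e ≠ d := fun h => hxL (by rw [hL, he, h])
    exact S.sep hf hne (he ▸ smul_mem_moveP_cj hn)
  have hprod : ∀ x ∈ B, ∀ y ∈ B, FFPMin.cj x L ≠ L → FFPMin.cj y L ≠ L → FFPMin.cj (x * y) L = L := by
    intro x hx y hy hxL hyL
    by_contra hxy
    obtain ⟨n, hn, hn0⟩ : ∃ n ∈ moveP N L, n ≠ 0 := by
      by_contra h
      push Not at h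
      exact S.moveP_fac_ne_bot hf d ((AddSubgroup.eq_bot_iff_forall _).2 h)
    have e : x • (y • n - n) = y • n - n := (hB.quad D.expN) y hy n x hx
    rw [smul_sub, ← mul_smul, sub_eq_iff_eq_add] at e
    have h3 := sub_mem (add_mem (hmv y hy hyL n hn) (hmv x hx hxL n hn)) (hmv _ (mul_mem hx hy) hxy n hn)
    rw [e] at h3
    have hnC : n ∈ fixP N L := by
      convert h3 using 1
      abel
    exact hn0 ((AddSubgroup.eq_bot_iff_forall _).1 (S.fac_inf hf d) n ⟨hn, hnC⟩)
  have hp2 : p = 2 := by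
    by_contra hne
    obtain ⟨j, hj⟩ := hp.out.odd_of_ne_two hne
    refine hbL ?_
    have e : (b * b) ^ (j + 1) = b := by
      rw [← pow_two, ← pow_mul, show 2 * (j + 1) = p + 1 by omega, pow_succ, hB.exp b hb, one_mul]
    have h2 : b * b ∈ Subgroup.normalizer (L : Set P) := mem_normalizer_iff_cj.2 (hprod b hb b hb hbL hbL)
    rw [← e]
    exact mem_normalizer_iff_cj.1 (pow_mem h2 _)
  obtain ⟨c, hc, hc1, hcL⟩ : ∃ c ∈ B, c ≠ 1 ∧ FFPMin.cj c L = L := by
    obtain ⟨c, hc, hc1, hcb⟩ : ∃ c ∈ B, c ≠ 1 ∧ c ≠ b := by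
      by_contra h
      push Not at h
      have : Nat.card B ≤ 2 := by
        refine (Set.ncard_le_ncard (show (B : Set P) ⊆ {1, b} from fun c hc => ?_) (Set.toFinite _)).trans
          ((Set.ncard_insert_le _ _).trans (by rw [Set.ncard_singleton]))
        rcases eq_or_ne c 1 with rfl | h1
        · exact Or.inl rfl
        · exact Or.inr (h c hc h1)
      have := F.noTwo B hB
      omega
    by_cases hcL : FFPMin.cj c L = L
    · exact ⟨c, hc, hc1, hcL⟩
    refine ⟨c * b, mul_mem hc hb, fun e => hcb ?_, hprod c hc b hb hcL hbL⟩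
    have hbb : b * b = 1 := by
      have := hB.exp b hb
      rwa [hp2, pow_two] at this
    rw [eq_inv_of_mul_eq_one_left e]
    exact inv_eq_of_mul_eq_one_right hbb
  obtain ⟨s, hs, hs0, hsc⟩ := exists_fixed_nonzero (isPGroup_zpowers (hB.exp c hc)) D.expN
    (S.moveP_fac_ne_bot hf d) fun g hg n hn => by
      have := smul_mem_moveP_cj (g := g) hn
      rwa [mem_normalizer_iff_cj.1 ((Subgroup.zpowers_le.2 (mem_normalizer_iff_cj.2 hcL)) hg)] at this
  have h1 := semireg_min D F hB hc hc1 (hsc c (Subgroup.mem_zpowers c)) b hb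
  exact hs0 ((AddSubgroup.eq_bot_iff_forall _).1 (S.fac_inf hf d) s ⟨hs, h1 ▸ hmv b hb hbL s hs⟩)

theorem move_of_semireg (d : S.Ix) {a : P} (ha : a ∈ d.1) (ha1 : a ≠ 1) {n : N} (h : a • n = n) :
    n ∈ fixP N d.1 :=
  Setup.semireg S d.2.1 ha ha1 h

/-- A minimal offender lies in the group generated by the members. -/
theorem min_le_J {B : Subgroup P} (hB : IsMin N p B) (hBT : B ≤ (D.T : Subgroup P)) :
    B ≤ ⨆ d : S.Ix, d.1 := by
  by_cases h4 : 4 ≤ Nat.card B
  · exact le_trans (le_inf hBT ((min_le_residual D F hB h4).trans (S.residual_le_fac hf))) (S.T_inf_le hf)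
  have h3 : Nat.card B = 3 := by have := F.noTwo B hB; omega
  intro b hb
  refine S.mem_J hf fun d => ?_
  have hbL := S.min_fixes hf hB hBT d hb
  have hbd := S.member_normalised hf (hBT hb) d hbL
  refine S.exists_elem_fac hf d (hB.exp b hb) hbd hbL ?_
  suffices hℓ : ∀ m ∈ moveP N d.1, b • m = m by
    intro u hu
    rw [S.fix_mem_split hf d] at hu
    obtain ⟨m, hm, c, hc, rfl⟩ := AddSubgroup.mem_sup.1 hu
    rw [smul_add, hℓ m hm, add_sub_add_left_eq_sub]
    exact sub_mem (smul_mem_fixP_of_normalizes hbL hc) hc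
  by_contra hno
  push Not at hno
  obtain ⟨m, hm, hne⟩ := hno
  set c := b • m - m with hc
  have hc0 : c ≠ 0 := sub_ne_zero.2 hne
  have hcℓ : c ∈ moveP N d.1 := sub_mem (by
    have := smul_mem_moveP_cj (g := b) hm
    rwa [hbd] at this) hm
  have hidx : (fixP N B).index ≤ 3 := by
    have := hB.ineq
    rw [h3, ← (fixP N B).card_mul_index, mul_comm 3] at this
    exact Nat.le_of_mul_le_mul_left this Nat.card_pos
  let φ : N →+ N := DistribSMul.toAddMonoidHom N b - AddMonoidHom.id N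
  have hrange : Nat.card φ.range ≤ 3 := by
    have h1 : fixP N B ≤ φ.ker := fun n hn => by
      show b • n - n = 0
      rw [hn b hb, sub_self]
    rw [← AddSubgroup.index_ker]
    exact le_trans (Nat.le_of_dvd (Nat.pos_of_ne_zero AddSubgroup.index_ne_zero_of_finite)
      (AddSubgroup.index_dvd_of_le h1)) hidx
  have hp3 : p = 3 := by
    have h := hB.toIsOff.isPGroup
    obtain ⟨k, hk⟩ := IsPGroup.iff_card.1 h
    rw [h3] at hk
    exact ((Nat.prime_dvd_prime_iff_eq hp.out Nat.prime_three).1 (hk ▸ dvd_pow_self p (fun e => by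
      rw [e, pow_zero] at hk; omega)))
  have hZ : φ.range = AddSubgroup.zmultiples c := by
    refine (AddSubgroup.eq_of_le_of_card_ge ((AddSubgroup.zmultiples_le).2 (show c ∈ φ.range from ⟨m, rfl⟩)) ?_).symm
    rw [Nat.card_zmultiples, addOrderOf_eq_prime (D.expN c) hc0, hp3]
    exact hrange
  have hmove : ∀ n : N, b • n - n ∈ AddSubgroup.zmultiples c := fun n => hZ ▸ ⟨n, rfl⟩
  have hcd : AddSubgroup.zmultiples c ≤ moveP N d.1 := AddSubgroup.zmultiples_le.2 hcℓ
  have hbinv : ∀ n : N, b⁻¹ • n - n ∈ AddSubgroup.zmultiples c := fun n =>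
    (inv_mem (show b ∈ movesInto P (AddSubgroup.zmultiples c) from hmove) : _) n
  by_cases hcase : ∀ a ∈ d.1, b * a = a * b
  · refine hne ?_
    have hle : moveP N d.1 ≤ fixP N (Subgroup.zpowers b) := by
      refine moveP_le.2 fun a ha n g hg => ?_
      refine (Subgroup.zpowers_le.2 (show b ∈ MulAction.stabilizer P (a • n - n) from ?_)) hg
      show b • (a • n - n) = a • n - n
      have h1 : a • (b • n - n) = b • n - n :=
        (d.2.1.isMin.quad D.expN |> fun h => (moveP_le.2 fun a ha n => h a ha n) (hcd (hmove n))) a ha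
      rw [smul_sub, ← mul_smul, hcase a ha, mul_smul]
      rw [smul_sub, sub_eq_iff_eq_add] at h1
      rw [h1]
      abel
    exact hle hm b (Subgroup.mem_zpowers b)
  push Not at hcase
  obtain ⟨a, ha, hab⟩ := hcase
  set a' := a⁻¹ * (b * a * b⁻¹) with ha'def
  have ha' : a' ∈ d.1 := mul_mem (inv_mem ha) (by
    have := conj_mem_cj (g := b) ha
    rwa [hbd] at this)
  have ha'1 : a' ≠ 1 := fun e => hab (mul_inv_eq_iff_eq_mul.1 (inv_mul_eq_one.1 e).symm)
  have hfixc : ∀ z ∈ AddSubgroup.zmultiples c, ∀ x ∈ d.1, x • z = z := fun z hz =>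
    (moveP_le.2 fun a ha n => (d.2.1.isMin.quad D.expN) a ha n) (hcd hz)
  let ψ : N →+ N := DistribSMul.toAddMonoidHom N a' - AddMonoidHom.id N
  have hψ : ψ.range ≤ AddSubgroup.zmultiples c := by
    rintro _ ⟨n, rfl⟩
    show a' • n - n ∈ _
    set n1 := b⁻¹ • n
    have h1 := hmove (a • n1)
    have h2 : a⁻¹ • (b • a • n1 - a • n1) = b • a • n1 - a • n1 := hfixc _ h1 _ (inv_mem ha)
    rw [smul_sub, inv_smul_smul] at h2
    have h3 : a' • n - n1 = b • a • n1 - a • n1 := by
      rw [← h2, ha'def, mul_smul, mul_smul, mul_smul]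
    have := add_mem (h3 ▸ h1) (hbinv n)
    rwa [sub_add_sub_cancel] at this
  have hker : ψ.ker ≤ fixP N d.1 := fun n hn =>
    S.move_of_semireg hf d ha' ha'1 (sub_eq_zero.1 hn)
  have h5 := Nat.le_of_dvd (Nat.pos_of_ne_zero AddSubgroup.index_ne_zero_of_finite)
    (AddSubgroup.index_dvd_of_le hker)
  rw [S.index_fix_mem hf d.2.1, AddSubgroup.index_ker] at h5
  have h6 := h5.trans (AddSubgroup.card_le_of_le hψ)
  rw [← S.card_move_mem hf d] at h6
  have heq := AddSubgroup.eq_of_le_of_card_ge hcd h6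
  -- the line is then spanned by a fixed vector
  refine hne ?_
  rw [← heq, AddSubgroup.mem_zmultiples_iff] at hm
  obtain ⟨j, hj⟩ := hm
  have hbc : b • c = c := by
    obtain ⟨s, hs, hs0, hsb⟩ := exists_fixed_nonzero (isPGroup_zpowers (hB.exp b hb)) D.expN
      (U := moveP N d.1) (moveP_ne_bot D.faith d.2.1.ne_bot) fun g hg n hn => by
        have := smul_mem_moveP_cj (g := g) hn
        rwa [mem_normalizer_iff_cj.1 ((Subgroup.zpowers_le.2 (mem_normalizer_iff_cj.2 hbd)) hg)] at this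
    have hcs : c ∈ AddSubgroup.zmultiples s := by
      have e : AddSubgroup.zmultiples s = moveP N d.1 := by
        refine AddSubgroup.eq_of_le_of_card_ge (AddSubgroup.zmultiples_le.2 hs) ?_
        rw [← heq, Nat.card_zmultiples, Nat.card_zmultiples, addOrderOf_eq_prime (D.expN c) hc0,
          addOrderOf_eq_prime (D.expN s) hs0]
      rw [e]; exact hcℓ
    obtain ⟨i, hi⟩ := AddSubgroup.mem_zmultiples_iff.1 hcs
    rw [← hi, smul_comm b i s, hsb b (Subgroup.mem_zpowers b)]
  rw [← hj, smul_comm b j c, hbc]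

/-- A minimal offender in the Sylow subgroup is one of the members. -/
theorem min_eq {B : Subgroup P} (hB : IsMin N p B) (hBT : B ≤ (D.T : Subgroup P)) :
    ∃ d : S.Ix, B = d.1 := by
  have hJ := S.min_le_J hf hB hBT
  have hJE : ∀ b ∈ B, b ∈ ⨆ d, S.fac hf d := fun b hb => iSup_mono (S.le_fac hf) (hJ hb)
  obtain ⟨v, hv, hv0⟩ := D.exists_fixed
  have hloc : ∀ b ∈ B, ∀ d : S.Ix, ∃ a ∈ d.1, ∀ n : N, b • n - a • n ∈ fixP N (S.fac hf d) := by
    intro b hb d
    obtain ⟨l, hl, h⟩ := S.local_elem hf (hJE b hb) d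
    refine ⟨l, S.stab_fac hf d hl (fixP_anti d.2.2 hv) (S.v_notC hf hv hv0 d) ?_, h⟩
    have := neg_mem (h v)
    rwa [hv b (hBT hb), neg_sub] at this
  choose α hα hαb using hloc
  -- the active members
  have hact : ∀ d : S.Ix, ∀ b, ∀ hb : b ∈ B, α b hb d ≠ 1 → fixP N B ≤ fixP N d.1 := by
    intro d b hb h1 n hn
    refine S.move_of_semireg hf d (hα b hb d) h1 (sub_eq_zero.1 ?_)
    refine (AddSubgroup.eq_bot_iff_forall _).1 (S.fac_inf hf d) _
      ⟨moveP_mono (S.le_fac hf d) (move_mem (hα b hb d) n), ?_⟩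
    have := neg_mem (hαb b hb d n)
    rwa [hn b hb, neg_sub] at this
  obtain ⟨b0, hb0, hb01⟩ := (Subgroup.bot_or_exists_ne_one B).resolve_left hB.ne_bot
  obtain ⟨d, hd⟩ : ∃ d : S.Ix, α b0 hb0 d ≠ 1 := by
    by_contra h
    push Not at h
    refine hb01 (D.faith b0 fun n => sub_eq_zero.1 (S.eq_zero_of_fixed hf fun d => ?_))
    have := hαb b0 hb0 d n
    rwa [h d, one_smul] at this
  have hfixd := hact d b0 hb0 hd
  have hinj : Nat.card B ≤ Nat.card S.A := by
    rw [← show Nat.card d.1 = Nat.card S.A by rw [d.2.1.card, S.memA.card]]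
    refine Nat.card_le_card_of_injective (fun b : B => (⟨α b b.2 d, hα b b.2 d⟩ : d.1)) fun b c e => ?_
    have e' : α b b.2 d = α c c.2 d := congrArg Subtype.val e
    by_contra hne
    have hne' : (b : P)⁻¹ * c ≠ 1 := fun h => hne (Subtype.ext (inv_mul_eq_one.1 h))
    have hmem : (b : P)⁻¹ * c ∈ B := mul_mem (inv_mem b.2) c.2
    obtain ⟨n, hn, hnC⟩ := SetLike.not_le_iff_exists.1 (show ¬ moveP N (S.fac hf d) ≤ fixP N d.1 from fun h =>
      moveP_ne_bot D.faith d.2.1.ne_bot (le_bot_iff.1 (moveP_le.2 fun a ha m => by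
        obtain ⟨x, hx, c', hc', rfl⟩ := AddSubgroup.mem_sup.1 ((S.fac_sup hf d).ge (AddSubgroup.mem_top m))
        rw [smul_add, h hx a ha, hc' a (S.le_fac hf d ha), sub_self]
        exact zero_mem _)))
    refine hnC (hfixd (semireg_min D F hB hmem hne' ?_))
    have h1 := sub_mem (hαb c c.2 d n) (e' ▸ hαb b b.2 d n)
    rw [sub_sub_sub_cancel_right] at h1
    have hinv : ∀ x ∈ B, ∀ m ∈ moveP N (S.fac hf d), x • m ∈ moveP N (S.fac hf d) := fun x hx m hm => by
      have := smul_mem_moveP_cj (g := x) hm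
      rwa [S.min_fixes hf hB hBT d hx] at this
    have h2 : (c : P) • n - (b : P) • n = 0 :=
      (AddSubgroup.eq_bot_iff_forall _).1 (S.fac_inf hf d) _
        (AddSubgroup.mem_inf.2 ⟨sub_mem (hinv c c.2 n hn) (hinv b b.2 n hn), h1⟩)
    rw [mul_smul, inv_smul_eq_iff]
    exact sub_eq_zero.1 h2
  have honly : ∀ e : S.Ix, e ≠ d → ∀ b, ∀ hb : b ∈ B, α b hb e = 1 := by
    intro e hne b hb
    by_contra h1
    have hle : fixP N B ≤ fixP N d.1 ⊓ fixP N e.1 := le_inf hfixd (hact e b hb h1)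
    have h2 := OffenderSL2.Hyp.card_sup_mul (X := fixP N d.1) (Y := fixP N e.1)
    rw [S.fix_sup_fix hf hne.symm, AddSubgroup.card_top, card_fix_mem d.2.1, card_fix_mem e.2.1] at h2
    have h3 := hB.ineq
    have h4 := AddSubgroup.card_le_of_le hle
    have hid : Nat.card N = Nat.card S.A * Nat.card (fixP N F.A₀) := by
      rw [← S.index_fix_A hf, ← card_fix_mem S.memA, mul_comm, AddSubgroup.card_mul_index]
    set c0 := Nat.card (fixP N F.A₀)
    set q := Nat.card S.A
    set k := Nat.card ↥(fixP N d.1 ⊓ fixP N e.1 : AddSubgroup N)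
    have h5 : q * k = c0 := Nat.eq_of_mul_eq_mul_right (Nat.card_pos : 0 < c0)
      (by rw [← h2, hid]; ring)
    have h6 : q * c0 ≤ q * k :=
      hid ▸ h3.trans (Nat.mul_le_mul hinj h4)
    rw [h5] at h6
    have hq : 3 ≤ q := S.memA.three
    have hc0 : 0 < c0 := Nat.card_pos
    nlinarith
  have hle : B ≤ d.1 := by
    intro b hb
    suffices b = α b hb d by rw [this]; exact hα b hb d
    refine inv_mul_eq_one.1 (D.faith _ fun n => ?_)
    rw [mul_smul, inv_smul_eq_iff, ← sub_eq_zero]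
    refine S.eq_zero_of_fixed hf fun e => ?_
    rcases eq_or_ne e d with rfl | hne
    · have := neg_mem (hαb b hb e n)
      rwa [neg_sub] at this
    · have h1 := hαb b hb e n
      rw [honly e hne b hb, one_smul] at h1
      have := sub_mem (S.sep hf hne.symm (move_mem (S.le_fac hf d (hα b hb d)) n)) h1
      rwa [sub_sub_sub_cancel_right] at this
  refine ⟨d, ?_⟩
  by_contra hne
  have h1 := d.2.1.isMin.strict B hle hB.ne_bot hne
  have h2 := hB.ineq
  have h3 : Nat.card N = Nat.card d.1 * Nat.card (fixP N d.1) := by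
    rw [show Nat.card d.1 = Nat.card S.A by rw [d.2.1.card, S.memA.card], ← S.index_fix_mem hf d.2.1, mul_comm,
      AddSubgroup.card_mul_index]
  omega

theorem sub_mem_fac {d : S.Ix} {x : P} (hx : FFPMin.cj x (S.fac hf d) = S.fac hf d) {m : N}
    (hm : m ∈ moveP N (S.fac hf d)) : x • m - m ∈ moveP N (S.fac hf d) := by
  have := smul_mem_moveP_cj (g := x) hm
  rw [hx] at this
  exact sub_mem this hm

/-- Every offender in the Sylow subgroup. -/
theorem off_le : ∀ (k : ℕ) (B : Subgroup P), Nat.card B ≤ k → IsOff N p B → B ≤ (D.T : Subgroup P) →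
    B ≤ (⨆ d : S.Ix, d.1) ∧ Nat.card N = Nat.card B * Nat.card (fixP N B) ∧ ∃ d : S.Ix, d.1 ≤ B ∧
      moveP N d.1 ≤ fixP N B := by
  intro k
  induction k with
  | zero => intro B hB; exact absurd hB (by have := Nat.card_pos (α := B); omega)
  | succ k ih =>
    intro B hBk hB hBT
    obtain ⟨B1, hB1B, hB1⟩ := hB.exists_min
    obtain ⟨d, rfl⟩ := S.min_eq hf hB1 (hB1B.trans hBT)
    have hcomm : ∀ b ∈ B, FFPMin.cj b d.1 = d.1 := fun b hb =>
      cj_eq_of_commute fun a ha => hB.comm b hb a (hB1B ha)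
    have hLn : ∀ b ∈ B, FFPMin.cj b (S.fac hf d) = S.fac hf d := fun b hb =>
      S.cj_fac hf (hBT hb) d d (hcomm b hb)
    obtain ⟨n0, hn0, hn0B⟩ := exists_fixed_mod (D.T.isPGroup'.to_le hBT) D.expN
      (U := fixP N d.1) (fun e => d.2.1.ne_bot ((Subgroup.eq_bot_iff_forall _).2 fun a ha =>
        D.faith a fun n => (e.ge (AddSubgroup.mem_top n)) a ha))
      fun b hb n hn => smul_mem_fixP_of_normalizes (hcomm b hb) hn
    have hℓ : ∀ b ∈ B, ∀ m ∈ moveP N d.1, b • m = m := by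
      intro b hb m hm
      let φ : d.1 → moveP N d.1 := fun a => ⟨(a : P) • n0 - n0, move_mem a.2 n0⟩
      have hφ : Function.Injective φ := by
        intro a a' e
        have e' : (a : P) • n0 = (a' : P) • n0 := sub_left_inj.1 (congrArg Subtype.val e)
        by_contra hne
        refine hn0 (S.move_of_semireg hf d (mul_mem (inv_mem a.2) a'.2)
          (fun h => hne (Subtype.ext (inv_mul_eq_one.1 h))) ?_)
        rw [mul_smul, inv_smul_eq_iff, e']
      obtain ⟨a, ha⟩ := (hφ.bijective_of_nat_card_le (by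
        rw [S.card_move_mem hf d, d.2.1.card, S.memA.card])).2 ⟨m, hm⟩
      have e : (a : P) • n0 - n0 = m := congrArg Subtype.val ha
      have h1 : (a : P) • (b • n0 - n0) = b • n0 - n0 := hn0B b hb a a.2
      rw [smul_sub, ← mul_smul, sub_eq_iff_eq_add] at h1
      rw [← e, smul_sub, ← mul_smul, hB.comm b hb a (hB1B a.2), h1]
      abel
    have hex : ∀ b ∈ B, ∃ a ∈ d.1, ∀ n : N, b • n - a • n ∈ fixP N (S.fac hf d) := by
      intro b hb
      refine S.exists_elem_fac hf d (hB.exp b hb) (hcomm b hb) (hLn b hb) fun u hu => ?_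
      rw [S.fix_mem_split hf d] at hu
      obtain ⟨m, hm, c, hc, rfl⟩ := AddSubgroup.mem_sup.1 hu
      rw [smul_add, hℓ b hb m hm, add_sub_add_left_eq_sub]
      exact sub_mem (smul_mem_fixP_of_normalizes (hLn b hb) hc) hc
    choose α hα hαb using hex
    set B' := B ⊓ movesInto P (fixP N (S.fac hf d)) with hB'def
    have hmem' : ∀ b, ∀ hb : b ∈ B, (α b hb)⁻¹ * b ∈ B' := fun b hb =>
      Subgroup.mem_inf.2 ⟨mul_mem (inv_mem (hB1B (hα b hb))) hb, fun n => by
        have := hαb b hb n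
        rw [← this _ (inv_mem (S.le_fac hf d (hα b hb))), smul_sub, inv_smul_smul, ← mul_smul] at this
        exact this⟩
    have hdisj : B' ⊓ d.1 = ⊥ := by
      refine (Subgroup.eq_bot_iff_forall _).2 fun a ha => D.faith a fun n => sub_eq_zero.1 ?_
      refine (AddSubgroup.eq_bot_iff_forall _).1 (S.fac_inf hf d) _
        ⟨moveP_mono (S.le_fac hf d) (move_mem ha.2 n), ha.1.2 n⟩
    have hcard : Nat.card B = Nat.card d.1 * Nat.card B' := by
      rw [← Nat.card_prod]
      refine (Nat.card_congr (Equiv.ofBijective (fun x : d.1 × B' =>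
        (⟨(x.1 : P) * x.2, mul_mem (hB1B x.1.2) x.2.2.1⟩ : B)) ⟨?_, ?_⟩)).symm
      · rintro ⟨a, c⟩ ⟨a', c'⟩ e
        have e' : (a : P) * c = a' * c' := congrArg Subtype.val e
        have h1 : (a' : P)⁻¹ * a = c' * (c : P)⁻¹ := by
          rw [eq_mul_inv_iff_mul_eq, mul_assoc, e', inv_mul_cancel_left]
        have h2 : (a' : P)⁻¹ * a ∈ B' ⊓ d.1 :=
          Subgroup.mem_inf.2 ⟨h1 ▸ mul_mem c'.2 (inv_mem c.2), mul_mem (inv_mem a'.2) a.2⟩
        rw [hdisj, Subgroup.mem_bot, inv_mul_eq_one] at h2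
        refine Prod.ext (Subtype.ext h2.symm) (Subtype.ext ?_)
        rw [h2] at e'
        exact mul_left_cancel e'
      · intro b
        exact ⟨(⟨α b b.2, hα b b.2⟩, ⟨_, hmem' b b.2⟩), Subtype.ext (mul_inv_cancel_left _ _)⟩
    have hB'fac : moveP N (S.fac hf d) ≤ fixP N B' := fun m hm x hx => sub_eq_zero.1
      ((AddSubgroup.eq_bot_iff_forall _).1 (S.fac_inf hf d) _ ⟨S.sub_mem_fac hf (hLn x hx.1) hm, hx.2 m⟩)
    have hsup : fixP N B' ⊔ fixP N d.1 = ⊤ :=
      top_le_iff.1 ((S.fac_sup hf d).ge.trans (sup_le_sup hB'fac (fixP_anti (S.le_fac hf d))))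
    have hinf : fixP N B' ⊓ fixP N d.1 = fixP N B := by
      refine le_antisymm (fun n hn b hb => ?_) (le_inf (fixP_anti inf_le_left) (fixP_anti hB1B))
      have h1 := hn.1 _ (hmem' b hb)
      rw [mul_smul, inv_smul_eq_iff, hn.2 _ (hα b hb)] at h1
      exact h1
    have h2 := OffenderSL2.Hyp.card_sup_mul (X := fixP N B') (Y := fixP N d.1)
    rw [hsup, AddSubgroup.card_top, hinf] at h2
    have hNd : Nat.card N = Nat.card d.1 * Nat.card (fixP N d.1) := by
      rw [show Nat.card d.1 = Nat.card S.A by rw [d.2.1.card, S.memA.card], ← S.index_fix_mem hf d.2.1,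
        mul_comm, AddSubgroup.card_mul_index]
    have hfixB' : Nat.card (fixP N B') = Nat.card d.1 * Nat.card (fixP N B) := by
      refine Nat.eq_of_mul_eq_mul_right (Nat.card_pos (α := fixP N d.1)) ?_
      rw [← h2, hNd]
      ring
    have hprod : Nat.card B' * Nat.card (fixP N B') = Nat.card B * Nat.card (fixP N B) := by
      rw [hfixB', hcard]; ring
    refine and_assoc.1 ⟨?_, d, hB1B, fun m hm b hb => hℓ b hb m hm⟩
    rcases eq_or_ne B' ⊥ with hbot | hbot
    · have hBd : B = d.1 := le_antisymm (fun b hb => by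
        have := hmem' b hb
        rw [hbot, Subgroup.mem_bot, inv_mul_eq_one] at this
        exact this ▸ hα b hb) hB1B
      rw [hBd]
      exact ⟨le_iSup (fun e : S.Ix => e.1) d, hNd⟩
    · have hoff : IsOff N p B' := ⟨hbot, fun a ha b hb => hB.comm a ha.1 b hb.1, fun a ha => hB.exp a ha.1,
        hprod ▸ hB.ineq⟩
      have hlt : Nat.card B' ≤ k := by
        have := d.2.1.three
        have := Nat.card_pos (α := B')
        nlinarith
      obtain ⟨h1, h3, -⟩ := ih B' hlt hoff (inf_le_left.trans hBT)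
      refine ⟨fun b hb => ?_, h3.trans hprod⟩
      rw [← mul_inv_cancel_left (α b hb) b]
      exact mul_mem (le_iSup (fun e : S.Ix => e.1) d (hα b hb)) (h1 (hmem' b hb))

theorem fix_other {B : Subgroup P} (hB : B ≤ ⨆ d : S.Ix, d.1) (e : S.Ix) : moveP N e.1 ≤ fixP N B := by
  refine le_trans ?_ (fixP_anti hB)
  rw [fixP_iSup]
  refine le_iInf fun d => ?_
  rcases eq_or_ne e d with rfl | hne
  · exact moveP_le.2 fun a ha m => (e.2.1.isMin.quad D.expN) a ha m
  · exact (moveP_mono (S.le_fac hf e)).trans ((S.sep hf hne).trans (fixP_anti (S.le_fac hf d)))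

/-- The offender field of the decomposition. -/
theorem offender_field {B : Subgroup P} (hBT : B ≤ (D.T : Subgroup P)) (hB : IsOff N p B) :
    B ≤ (⨆ d, S.fac hf d) ∧ Nat.card N = Nat.card B * Nat.card (fixP N B) ∧
      ∃ A ∈ {A | F.Mem A}, A ≤ B ∧
        fixP N A ≤ AddSubgroup.closure {m | ∃ g, FFPMin.cj g A = A ∧ ∃ n ∈ fixP N B, g • n = m} := by
  obtain ⟨hJ, hN, d, hdB, hd⟩ := S.off_le hf _ B le_rfl hB hBT
  refine ⟨hJ.trans (iSup_mono (S.le_fac hf)), hN, d.1, d.2.1, hdB, ?_⟩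
  set Z := AddSubgroup.closure {m | ∃ g, FFPMin.cj g d.1 = d.1 ∧ ∃ n ∈ fixP N B, g • n = m}
  have hmd : moveP N d.1 ≤ Z := fun m hm =>
    AddSubgroup.subset_closure ⟨1, cj_one _, m, hd hm, one_smul P m⟩
  have hother : ∀ e : S.Ix, e ≠ d → moveP N (S.fac hf e) ≤ Z := by
    intro e hne
    have hg : ∀ g ∈ S.fac hf e, moveP N (FFPMin.cj g e.1) ≤ Z := by
      intro g hg
      rw [moveP_cj]
      rintro _ ⟨m, hm, rfl⟩
      exact AddSubgroup.subset_closure ⟨g, cj_eq_of_commute fun x hx =>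
        S.sep_commute hf hne hg (S.le_fac hf d hx), m, S.fix_other hf hJ e hm, rfl⟩
    obtain ⟨x, hx, -, hxf⟩ := S.exists_conj_f hf
    set t := S.tt hf e
    rw [fac, cj_sup, moveP_sup]
    refine sup_le ?_ ?_
    · have := hg 1 (one_mem _)
      rwa [cj_one, ← S.cj_tt hf e] at this
    · have := hg (t * x * t⁻¹) (conj_mem_cj hx)
      rwa [← S.cj_tt hf e, cj_cj, inv_mul_cancel_right, ← cj_cj, hxf] at this
  rw [S.fix_mem_split hf d]
  refine sup_le hmd fun c hc => ?_
  have hsp : moveP N (S.fac hf d) ⊔ Z = ⊤ := by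
    refine top_le_iff.1 ((S.span hf).ge.trans (iSup_le fun e => ?_))
    rcases eq_or_ne e d with rfl | hne
    · exact le_sup_left
    · exact le_sup_of_le_right (hother e hne)
  have hsp2 : c ∈ moveP N (S.fac hf d) ⊔ (⨆ e : {e : S.Ix // e ≠ d}, moveP N (S.fac hf e.1)) := by
    refine ((S.span hf).ge.trans (iSup_le fun e => ?_)) (AddSubgroup.mem_top c)
    rcases eq_or_ne e d with rfl | hne
    · exact le_sup_left
    · exact le_sup_of_le_right (le_iSup (fun e : {e : S.Ix // e ≠ d} => moveP N (S.fac hf e.1)) ⟨e, hne⟩)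
  obtain ⟨m, hm, z, hz, rfl⟩ := AddSubgroup.mem_sup.1 hsp2
  have hzC : z ∈ fixP N (S.fac hf d) := (iSup_le (fun e : {e : S.Ix // e ≠ d} => S.sep hf e.2)) hz
  have hm0 : m = 0 := (AddSubgroup.eq_bot_iff_forall _).1 (S.fac_inf hf d) m
    ⟨hm, by simpa using sub_mem hc hzC⟩
  rw [hm0, zero_add]
  exact (iSup_le (fun e : {e : S.Ix // e ≠ d} => hother e.1 e.2)) hz

end Setup

end CfsgLib.LocalEven.FFPMin
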