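import Cfsg.Agent.Lib.LocalEven.FFPMin.Setup

/-!
A member in the maximal subgroup and a member outside, generating a minimal pair, give `SL₂(q)` on its
natural module modulo the fixed points.
-/

set_option autoImplicit false
set_option linter.unusedSectionVars false

namespace CfsgLib.LocalEven.FFPMin

open CfsgLib.LocalEven.OffenderSL2 (fixP)
open scoped _root_.Classical

/-- The stabiliser of a nonzero vector in `SL₂` has at most as many elements as the field. -/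
theorem card_vecStab_le {F : Type*} [Field F] [Finite F] {v : Fin 2 → F} (hv : v ≠ 0) :
    Nat.card {g : Matrix.SpecialLinearGroup (Fin 2) F // g.1.mulVec v = v} ≤ Nat.card F := by
  have eqs : ∀ g : {g : Matrix.SpecialLinearGroup (Fin 2) F // g.1.mulVec v = v},
      g.1.1 0 0 * v 0 + g.1.1 0 1 * v 1 = v 0 ∧ g.1.1 1 0 * v 0 + g.1.1 1 1 * v 1 = v 1 ∧
        g.1.1 0 0 * g.1.1 1 1 - g.1.1 0 1 * g.1.1 1 0 = 1 := fun g => by
    refine ⟨?_, ?_, by rw [← Matrix.det_fin_two]; exact g.1.2⟩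
    · have := congrFun g.2 0; simpa [Matrix.mulVec, dotProduct, Fin.sum_univ_two] using this
    · have := congrFun g.2 1; simpa [Matrix.mulVec, dotProduct, Fin.sum_univ_two] using this
  by_cases h0 : v 0 = 0
  · have h1 : v 1 ≠ 0 := fun h => hv (funext fun i => by fin_cases i <;> assumption)
    refine Nat.card_le_card_of_injective (fun g => g.1.1 1 0) fun g h (e : g.1.1 1 0 = h.1.1 1 0) => ?_
    obtain ⟨a1, a2, a3⟩ := eqs g
    obtain ⟨b1, b2, b3⟩ := eqs h
    rw [h0] at a1 a2 b1 b2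
    simp only [mul_zero, zero_add] at a1 a2 b1 b2
    have g01 : g.1.1 0 1 = 0 := (mul_eq_zero.1 a1).resolve_right h1
    have h01 : h.1.1 0 1 = 0 := (mul_eq_zero.1 b1).resolve_right h1
    have g11 : g.1.1 1 1 = 1 := mul_right_cancel₀ h1 (a2.trans (one_mul _).symm)
    have h11 : h.1.1 1 1 = 1 := mul_right_cancel₀ h1 (b2.trans (one_mul _).symm)
    rw [g01, g11, zero_mul, sub_zero, mul_one] at a3
    rw [h01, h11, zero_mul, sub_zero, mul_one] at b3
    refine Subtype.ext (Subtype.ext (Matrix.ext fun i j => ?_))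
    fin_cases i <;> fin_cases j
    · exact a3.trans b3.symm
    · exact g01.trans h01.symm
    · exact e
    · exact g11.trans h11.symm
  · refine Nat.card_le_card_of_injective (fun g => g.1.1 0 1) fun g h (e : g.1.1 0 1 = h.1.1 0 1) => ?_
    obtain ⟨a1, a2, a3⟩ := eqs g
    obtain ⟨b1, b2, b3⟩ := eqs h
    have g11 : g.1.1 1 1 * v 0 = v 0 + g.1.1 0 1 * v 1 := by
      linear_combination (v 0) * a3 + g.1.1 0 1 * a2 - g.1.1 1 1 * a1
    have h11 : h.1.1 1 1 * v 0 = v 0 + h.1.1 0 1 * v 1 := by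
      linear_combination (v 0) * b3 + h.1.1 0 1 * b2 - h.1.1 1 1 * b1
    have e11 : g.1.1 1 1 = h.1.1 1 1 := mul_right_cancel₀ h0 (by rw [g11, h11, e])
    have e00 : g.1.1 0 0 = h.1.1 0 0 := mul_right_cancel₀ h0 (by linear_combination a1 - b1 - v 1 * e)
    have e10 : g.1.1 1 0 = h.1.1 1 0 := mul_right_cancel₀ h0 (by linear_combination a2 - b2 - v 1 * e11)
    refine Subtype.ext (Subtype.ext (Matrix.ext fun i j => ?_))
    fin_cases i <;> fin_cases j
    · exact e00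
    · exact e
    · exact e10
    · exact e11

variable {p : ℕ} [hp : Fact p.Prime] {P : Type*} [Group P] [Finite P] {N : Type*} [AddCommGroup N]
  [DistribMulAction P N] [Finite N]
variable {D : Model p P N} {F : Fam p P N} (S : Setup D F)

namespace Setup

/-- The normaliser of the common part. -/
abbrev G0 : Subgroup P := Subgroup.normalizer (S.K : Set P)

/-- A member normalising the common part, outside it, in the maximal subgroup. -/
structure In (d : Subgroup P) : Prop where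
  mem : F.Mem d
  le0 : d ≤ S.G0
  notK : ¬ d ≤ S.K
  leM : d ≤ D.M

/-- A member normalising the common part outside the maximal subgroup. -/
structure Out (d : Subgroup P) : Prop where
  mem : F.Mem d
  le0 : d ≤ S.G0
  notM : ¬ d ≤ D.M

theorem K_le_M : S.K ≤ D.M := S.KT.trans D.le

theorem inA : S.In S.A := ⟨S.memA, S.AN, S.AK, S.AT.trans D.le⟩

variable {S}

theorem Out.notK {d : Subgroup P} (h : S.Out d) : ¬ d ≤ S.K := fun e => h.notM (e.trans S.K_le_M)

theorem cj_K {g : P} (hg : g ∈ S.G0) : cj g S.K = S.K := mem_normalizer_iff_cj.1 hg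

theorem cj_notK {g : P} (hg : g ∈ S.G0) {d : Subgroup P} (h : ¬ d ≤ S.K) : ¬ cj g d ≤ S.K := fun e =>
  h (by rw [← cj_inv_cj g d]; exact (cj_mono e).trans (cj_K (inv_mem hg)).le)

theorem cj_le_G0 {g : P} (hg : g ∈ S.G0) {d : Subgroup P} (h : d ≤ S.G0) : cj g d ≤ S.G0 :=
  (cj_mono h).trans (cj_eq_of_mem hg).le

theorem In.cj_cases {d : Subgroup P} (h : S.In d) {g : P} (hg : g ∈ S.G0) :
    S.In (cj g d) ∨ S.Out (cj g d) := by
  by_cases hM : FFPMin.cj g d ≤ D.M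
  · exact Or.inl ⟨h.mem.cj g, cj_le_G0 hg h.le0, cj_notK hg h.notK, hM⟩
  · exact Or.inr ⟨h.mem.cj g, cj_le_G0 hg h.le0, hM⟩

theorem In.cj {d : Subgroup P} (h : S.In d) {g : P} (hg : g ∈ S.G0) (hgM : g ∈ D.M) :
    S.In (FFPMin.cj g d) :=
  ⟨h.mem.cj g, cj_le_G0 hg h.le0, cj_notK hg h.notK, (cj_mono h.leM).trans (cj_eq_of_mem hgM).le⟩

theorem In.isPGroup_sup {d : Subgroup P} (h : S.In d) : IsPGroup p (S.K ⊔ d : Subgroup P) :=
  (D.T.isPGroup'.to_le S.KT).to_sup_of_normal_left' h.mem.isPGroup h.le0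

/-- A `p`-group containing the common part and a further member lies in the maximal subgroup. -/
theorem In.pgroup_le_M {d : Subgroup P} (h : S.In d) {Q : Subgroup P} (hQ : IsPGroup p Q) (hK : S.K ≤ Q)
    (hd : d ≤ Q) : Q ≤ D.M := by
  obtain ⟨R, hR⟩ := hQ.exists_le_sylow
  obtain ⟨g, hg⟩ := MulAction.exists_smul_eq P D.T R
  have hQg : Q ≤ FFPMin.cj g (D.T : Subgroup P) := by
    refine hR.trans (le_of_eq ?_)
    rw [← hg, Sylow.coe_subgroup_smul]
    rfl
  obtain ⟨m, hm, hle⟩ := D.exists_conj_T h.isPGroup_sup (sup_le S.K_le_M h.leM)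
  suffices g ∈ D.M from hQg.trans ((cj_mono D.le).trans (cj_eq_of_mem this).le)
  by_contra hg'
  have hmg : m⁻¹ * g ∉ D.M := fun e => hg' (by simpa using mul_mem hm e)
  have hsub : insert d {c | F.Mem c ∧ c ≤ S.K} ⊆ xSet D F m ∩ xSet D F g := by
    rintro c (rfl | hc)
    · exact ⟨⟨h.mem, le_sup_right.trans hle⟩, h.mem, hd.trans hQg⟩
    · exact ⟨⟨hc.1, hc.2.trans (le_sup_left.trans hle)⟩, hc.1, hc.2.trans (hK.trans hQg)⟩
  have h1 := (Set.ncard_le_ncard hsub (Set.toFinite _)).trans (S.max m g hmg)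
  rw [Set.ncard_insert_of_notMem (fun e => h.notK e.2) (Set.toFinite _), S.kK] at h1
  omega

theorem In.cl {d : Subgroup P} (h : S.In d) {g : P} (hg : g ∈ S.G0) (hle : FFPMin.cj g d ≤ D.M) :
    g ∈ D.M := by
  have e : FFPMin.cj g (S.K ⊔ d) = S.K ⊔ FFPMin.cj g d := by rw [cj_sup, cj_K hg]
  obtain ⟨m, hm, hle1⟩ := D.exists_conj_T (S := FFPMin.cj g (S.K ⊔ d)) (isPGroup_cj h.isPGroup_sup g)
    (e ▸ sup_le S.K_le_M hle)
  have h1 : S.K ⊔ d ≤ FFPMin.cj (g⁻¹ * m) (D.T : Subgroup P) := by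
    rw [← cj_cj]; exact cj_le_iff.1 hle1
  have h2 := D.mem_M_of_cj_T_le (h.pgroup_le_M (isPGroup_cj D.T.isPGroup' _) (le_sup_left.trans h1)
    (le_sup_right.trans h1))
  have := inv_mem (mul_mem h2 (inv_mem hm))
  simpa using this

/-- A minimal pair. -/
structure IsPair (A f : Subgroup P) : Prop where
  inA : S.In A
  outF : S.Out f
  min : ∀ f', S.Out f' → f' ≤ A ⊔ f → A ⊔ f' = A ⊔ f

theorem exists_pair {A e : Subgroup P} (hA : S.In A) (he : S.Out e) :
    ∃ f, S.IsPair A f ∧ f ≤ A ⊔ e := by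
  obtain ⟨f, ⟨hf, hfe⟩, hmin⟩ := Set.Finite.exists_minimalFor (fun f => Nat.card ↥(A ⊔ f : Subgroup P))
    {f | S.Out f ∧ f ≤ A ⊔ e} (Set.toFinite _) ⟨e, he, le_sup_right⟩
  refine ⟨f, ⟨hA, hf, fun f' hf' hle => ?_⟩, hfe⟩
  have h1 : A ⊔ f' ≤ A ⊔ f := sup_le le_sup_left hle
  exact Subgroup.eq_of_le_of_card_ge h1
    (hmin ⟨hf', hle.trans (sup_le le_sup_left hfe)⟩ (Subgroup.card_le_of_le h1))

variable (F) in
/-- The structural facts of a minimal pair. -/
structure Facts (A f : Subgroup P) : Prop where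
  sup : fixP N A ⊔ fixP N f = ⊤
  card : Nat.card A * Nat.card (fixP N (A ⊔ f : Subgroup P)) = Nat.card (fixP N A)
  inj : ∀ a ∈ A, ∀ y ∈ fixP N f, a • y - y ∈ fixP N (A ⊔ f : Subgroup P) → a ≠ 1 →
    y ∈ fixP N (A ⊔ f : Subgroup P)
  surjA : ∀ v ∈ fixP N f, v ∉ fixP N (A ⊔ f : Subgroup P) → ∀ y ∈ fixP N A,
    ∃ a ∈ A, a • v - v - y ∈ fixP N (A ⊔ f : Subgroup P)
  surjF : ∀ v ∈ fixP N A, v ∉ fixP N (A ⊔ f : Subgroup P) → ∀ y ∈ fixP N f,
    ∃ b ∈ f, b • v - v - y ∈ fixP N (A ⊔ f : Subgroup P)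
  stabA : ∀ l ∈ A ⊔ f, ∀ v ∈ fixP N A, v ∉ fixP N (A ⊔ f : Subgroup P) →
    l • v - v ∈ fixP N (A ⊔ f : Subgroup P) → l ∈ A
  mem : ∀ d, F.Mem d → d ≤ A ⊔ f → ∃ l ∈ A ⊔ f, cj l A = d
  cover : ∀ n : N, ∃ l ∈ A ⊔ f, n ∈ fixP N (cj l A)
  natural : ∃ (E : Type) (_ : Field E) (_ : Fintype E), Fintype.card E = Nat.card A ∧
    ∃ (ρ : ↥(A ⊔ f : Subgroup P) →* Matrix.SpecialLinearGroup (Fin 2) E) (ψ : N →+ (Fin 2 → E)),
      Function.Bijective ρ ∧ Function.Surjective ψ ∧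
        (∀ n, ψ n = 0 ↔ n ∈ fixP N (A ⊔ f : Subgroup P)) ∧
        ∀ (g : ↥(A ⊔ f : Subgroup P)) (n : N), ψ ((g : P) • n) = (ρ g).1.mulVec (ψ n)

theorem IsPair.le0 {A f : Subgroup P} (h : S.IsPair A f) : A ⊔ f ≤ S.G0 := sup_le h.inA.le0 h.outF.le0

theorem IsPair.le_M_of_lt {A f : Subgroup P} (h : S.IsPair A f) {H : Subgroup P} (hAH : A ≤ H)
    (hH : H ≤ A ⊔ f) (hne : H ≠ A ⊔ f) : H ≤ D.M := by
  intro x hx
  refine h.inA.cl (h.le0 (hH hx)) ?_
  by_contra hM
  have ho : S.Out (FFPMin.cj x A) := ((h.inA.cj_cases (h.le0 (hH hx))).resolve_left fun e => hM e.leM)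
  have hxH : FFPMin.cj x A ≤ H := (cj_mono hAH).trans (cj_eq_of_mem hx).le
  exact hne (le_antisymm hH ((h.min _ ho (hxH.trans hH)).ge.trans (sup_le hAH hxH)))

/-- A translate of a fixed vector of the Sylow subgroup is not fixed by a group outside `M`. -/
theorem not_fix_out {v : N} (hv : v ∈ fixP N (D.T : Subgroup P)) (hv0 : v ≠ 0) {m : P} (hm : m ∈ D.M)
    {H : Subgroup P} (hH : ¬ H ≤ D.M) : m • v ∉ fixP N H := fun h => hH fun g hg => by
  have := mul_mem (mul_mem hm (D.stab_le_of_translate hv hv0 (h g hg))) (inv_mem hm)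
  rwa [show m * (m⁻¹ * g * m) * m⁻¹ = g by group] at this

theorem IsPair.facts {A f : Subgroup P} (h : S.IsPair A f) : Facts F A f := by
  set L := A ⊔ f with hL
  have hAL : A ≤ L := le_sup_left
  have hfL : f ≤ L := le_sup_right
  have hAp : IsPGroup p (A.subgroupOf L) := h.inA.mem.isPGroup.comap_of_injective _ Subtype.val_injective
  obtain ⟨TL, hTL⟩ := hAp.exists_le_sylow
  have hTLp : IsPGroup p ((TL : Subgroup L).map L.subtype) := TL.isPGroup'.map _
  have hTLA : A ≤ (TL : Subgroup L).map L.subtype := fun a ha => ⟨⟨a, hAL ha⟩, hTL ha, rfl⟩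
  have hTLM : (TL : Subgroup L).map L.subtype ≤ D.M := by
    refine le_trans le_sup_right (h.inA.pgroup_le_M ((D.T.isPGroup'.to_le S.KT).to_sup_of_normal_left' hTLp ?_)
      le_sup_left (hTLA.trans le_sup_right))
    exact (Subgroup.map_subtype_le _).trans h.le0
  have hfM : ¬ L ≤ D.M := fun e => h.outF.notM (hfL.trans e)
  have heA : (A.subgroupOf L).map L.subtype = A := Subgroup.map_subgroupOf_eq_of_le hAL
  have hlt : ∀ H : Subgroup L, A.subgroupOf L ≤ H → H ≠ ⊤ → H ≤ D.M.subgroupOf L := by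
    intro H hAH hne g hg
    refine h.le_M_of_lt (H := H.map L.subtype) ?_ (Subgroup.map_subtype_le _) (fun e => hne ?_) ⟨g, hg, rfl⟩
    · rw [← heA]; exact Subgroup.map_mono hAH
    · refine eq_top_iff.2 fun k _ => ?_
      obtain ⟨k', hk', ek⟩ := (e.ge k.2)
      rwa [← Subtype.ext ek]
  have hfix : ∀ A₀ : Subgroup L, fixP N A₀ = fixP N (A₀.map L.subtype) := fun A₀ => by
    ext n
    exact ⟨by rintro h _ ⟨a, ha, rfl⟩; exact h a ha, fun h a ha => h _ ⟨a, ha, rfl⟩⟩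
  have hmin := h.inA.mem.isMin
  have hcA : Nat.card (A.subgroupOf L) = Nat.card A :=
    Nat.card_congr (Subgroup.subgroupOfEquivOfLe hAL).toEquiv
  let H : OffenderSL2.Hyp p L N :=
    { T := TL
      M := D.M.subgroupOf L
      coatom := by
        refine ⟨fun e => hfM (Subgroup.subgroupOf_eq_top.1 e), fun Q hQ => ?_⟩
        by_contra hne
        exact hQ.not_ge (hlt Q (le_trans (fun a ha => h.inA.leM ha) hQ.le) hne)
      le := fun t ht => hTLM ⟨t, ht, rfl⟩
      uniq := fun M' hM' hT => by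
        by_contra hne
        exact hfM (Subgroup.subgroupOf_eq_top.1
          (hM'.2 _ (lt_of_le_of_ne (hlt M' (hTL.trans hT) hM'.1) hne)))
      A := A.subgroupOf L
      AT := hTL
      nbot := fun e => h.inA.mem.ne_bot (by rw [← heA, e, Subgroup.map_bot])
      faith := fun g hg => Subtype.ext (D.faith g hg)
      expN := D.expN
      ineq := by
        rw [hcA]
        refine hmin.ineq.trans (le_of_eq ?_)
        show _ = _ * Nat.card (fixP N (A.subgroupOf L))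
        rw [hfix, heA]
      strict := fun A₀ h0 h1 h2 => by
        show _ * Nat.card (fixP N A₀) < _ * Nat.card (fixP N (A.subgroupOf L))
        rw [hfix, hfix, heA, hcA, ← Subgroup.card_map_of_injective (K := A₀) L.subtype_injective]
        refine hmin.strict _ (by rintro _ ⟨a, ha, rfl⟩; exact h0 ha) (fun e => h1 ?_) (fun e => h2 ?_)
        · exact (Subgroup.map_eq_bot_iff_of_injective _ L.subtype_injective).1 e
        · exact Subgroup.map_injective L.subtype_injective (e.trans heA.symm)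
      quad := fun a ha b hb n => (hmin.quad D.expN) a ha n b hb
      gen := fun y hy => by
        by_contra hne
        have hy0 : (y : P) ∈ S.G0 := h.le0 y.2
        have hcj : ¬ FFPMin.cj (y : P) A ≤ D.M := fun e => hy (h.inA.cl hy0 e)
        refine hcj fun z hz => ?_
        have hzL : z ∈ L := ((cj_mono hAL).trans (cj_eq_of_mem y.2).le) hz
        refine hlt _ le_sup_left hne (x := ⟨z, hzL⟩) (Subgroup.mem_sup_right ?_)
        obtain ⟨a, ha, rfl⟩ := hz
        exact ⟨⟨a, hAL ha⟩, ha, Subtype.ext rfl⟩ }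
  have hC : ∀ n, n ∈ H.C ↔ n ∈ fixP N L := fun n =>
    ⟨fun h' g hg => H.mem_C.1 h' ⟨g, hg⟩, fun h' => H.mem_C.2 fun g => h' g g.2⟩
  have hcU : ∀ (g : L) n, n ∈ H.cU g ↔ n ∈ fixP N (FFPMin.cj (g : P) A) := fun g n => by
    rw [mem_fixP_cj]
    exact ⟨fun h' a ha => h' ⟨a, hAL ha⟩ ha, fun h' a ha => h' a ha⟩
  have hcU1 : ∀ n, n ∈ H.cU 1 ↔ n ∈ fixP N A := fun n => by rw [hcU, Subgroup.coe_one, cj_one]
  -- a fixed vector
  obtain ⟨v0, hv0, hv00⟩ := D.exists_fixed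
  obtain ⟨m, hm, hmT⟩ := D.exists_conj_T hTLp hTLM
  have hzfix : m • v0 ∈ fixP N ((TL : Subgroup L).map L.subtype) :=
    fixP_anti hmT (smul_mem_fixP_cj hv0)
  have hzL : m • v0 ∉ fixP N L := not_fix_out hv0 hv00 hm hfM
  have hnfix : ∃ v : N, (∀ t ∈ (H.T : Subgroup L), t • v = v) ∧ ¬ ∀ g : L, g • v = v :=
    ⟨m • v0, fun t ht => hzfix _ ⟨t, ht, rfl⟩, fun e => hzL ((hC _).1 (H.mem_C.2 e))⟩
  -- stabilisers
  obtain ⟨E, hE, hE', hcardE, ρ, ψ, hρ, hψs, hψ0, hψ, -⟩ := H.natural hnfix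
  have hstab : ∀ l ∈ L, ∀ v ∈ fixP N A, v ∉ fixP N L → l • v - v ∈ fixP N L → l ∈ A := by
    intro l hl v hv hvC hlv
    have hw : ψ v ≠ 0 := fun e => hvC ((hC _).1 ((hψ0 v).1 e))
    let V := {g : Matrix.SpecialLinearGroup (Fin 2) E // g.1.mulVec (ψ v) = ψ v}
    have hmemV : ∀ g : L, (g : P) • v - v ∈ fixP N L → (ρ g).1.mulVec (ψ v) = ψ v := fun g hg => by
      rw [← hψ, ← sub_eq_zero, ← map_sub]
      exact (hψ0 _).2 ((hC _).2 hg)
    let φ : A → V := fun a => ⟨ρ ⟨a, hAL a.2⟩, hmemV _ (by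
      show (a : P) • v - v ∈ fixP N L
      rw [hv a a.2, sub_self]; exact zero_mem _)⟩
    have hφ : Function.Injective φ := fun a b e =>
      Subtype.ext (congrArg Subtype.val (hρ.1 (congrArg Subtype.val e)) :)
    have hle : Nat.card V ≤ Nat.card A := by
      refine (card_vecStab_le hw).trans (le_of_eq ?_)
      rw [Nat.card_eq_fintype_card, hcardE]
      exact hcA
    obtain ⟨a, ha⟩ := (hφ.bijective_of_nat_card_le hle).2 ⟨ρ ⟨l, hl⟩, hmemV _ hlv⟩
    have := congrArg Subtype.val (hρ.1 (congrArg Subtype.val ha))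
    exact (show (a : P) = l from this) ▸ a.2
  -- the Sylow subgroup is the member
  have hTA : (TL : Subgroup L) = A.subgroupOf L := by
    refine le_antisymm (fun t ht => ?_) hTL
    refine hstab t t.2 (m • v0) (fixP_anti hTLA hzfix) hzL ?_
    have e : (t : P) • m • v0 = m • v0 := hzfix _ ⟨t, ht, rfl⟩
    rw [e, sub_self]; exact zero_mem _
  -- an element carrying the member to the other one
  have hmem : ∀ d, F.Mem d → d ≤ L → ∃ l ∈ L, FFPMin.cj l A = d := by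
    intro d hd hdL
    obtain ⟨Q, hQ⟩ := (hd.isPGroup.comap_of_injective L.subtype Subtype.val_injective).exists_le_sylow
    obtain ⟨l, hl⟩ := MulAction.exists_smul_eq L TL Q
    refine ⟨l, l.2, (Subgroup.eq_of_le_of_card_ge (fun z hz => ?_) ?_).symm⟩
    · have h1 : (⟨z, hdL hz⟩ : L) ∈ (Q : Subgroup L) := hQ (Subgroup.mem_subgroupOf.2 hz)
      rw [← hl, Sylow.coe_subgroup_smul, Subgroup.mem_smul_pointwise_iff_exists] at h1
      obtain ⟨t, ht, e⟩ := h1
      rw [hTA] at ht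
      exact ⟨t, ht, congrArg Subtype.val e⟩
    · rw [card_cj, hd.card, h.inA.mem.card]
  obtain ⟨x, hxL, hxf⟩ := hmem f h.outF.mem hfL
  have hxM : x ∉ D.M := fun e =>
    h.outF.notM (hxf ▸ (cj_mono h.inA.leM).trans (cj_eq_of_mem e).le)
  obtain ⟨hspan, hcard, -, -, -, hcov⟩ := H.facts hnfix (x := ⟨x, hxL⟩) hxM
  have hcUx : ∀ n, n ∈ H.cU ⟨x, hxL⟩ ↔ n ∈ fixP N f := fun n => by rw [hcU]; exact iff_of_eq (by rw [hxf])
  have hcC : Nat.card A * Nat.card (fixP N L) = Nat.card (fixP N A) := by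
    have h1 := AddSubgroup.card_eq_card_quotient_mul_card_addSubgroup (H.C.addSubgroupOf (H.cU 1))
    rw [hcard, Nat.card_congr (AddSubgroup.addSubgroupOfEquivOfLe (H.C_le 1)).toEquiv] at h1
    have e1 : fixP N L = H.C := AddSubgroup.ext fun n => (hC n).symm
    have e2 : fixP N A = H.cU 1 := AddSubgroup.ext fun n => (hcU1 n).symm
    rw [e1, e2, ← hcA]
    exact h1.symm
  -- injectivity and surjectivity for every element outside the maximal subgroup
  have hinjX : ∀ y, y ∈ L → y ∉ D.M → ∀ a ∈ A, ∀ v ∈ fixP N (FFPMin.cj y A), v ∉ fixP N L →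
      a • v - v ∈ fixP N L → a = 1 := by
    intro y hy hyM a ha v hv hvC hav
    obtain ⟨-, -, hinj, -⟩ := H.facts hnfix (x := ⟨y, hy⟩) hyM
    have h2 := hinj ⟨a, hAL ha⟩ ha (y⁻¹ • v) ((hcU1 _).2 (mem_fixP_cj.1 hv)) (fun e => hvC ?_) ?_
    · exact congrArg Subtype.val h2
    · have h3 := H.smul_mem_C e ⟨y, hy⟩
      change y • y⁻¹ • v ∈ H.C at h3
      rw [smul_inv_smul] at h3
      exact (hC v).1 h3
    · show a • y • y⁻¹ • v - y • y⁻¹ • v ∈ H.C
      rw [smul_inv_smul]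
      exact (hC _).2 hav
  have hsurjX : ∀ y, y ∈ L → y ∉ D.M → ∀ v ∈ fixP N (FFPMin.cj y A), v ∉ fixP N L → ∀ u ∈ fixP N A,
      ∃ a ∈ A, a • v - v - u ∈ fixP N L := by
    intro y hy hyM v hv hvC u hu
    let φ : A → fixP N A ⧸ (fixP N L).addSubgroupOf (fixP N A) := fun a =>
      QuotientAddGroup.mk ⟨(a : P) • v - v, (hmin.quad D.expN) a a.2 v⟩
    have hφ : Function.Injective φ := fun a b e => by
      have e' : -((a : P) • v - v) + ((b : P) • v - v) ∈ fixP N L :=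
        (QuotientAddGroup.eq (s := (fixP N L).addSubgroupOf (fixP N A))).1 e
      rw [show -((a : P) • v - v) + ((b : P) • v - v) = (b : P) • v - (a : P) • v by abel] at e'
      have e'' : (a : P)⁻¹ • ((b : P) • v - (a : P) • v) ∈ fixP N L := by
        rw [e' _ (inv_mem (hAL a.2))]; exact e'
      rw [smul_sub, inv_smul_smul, ← mul_smul] at e''
      exact Subtype.ext (inv_mul_eq_one.1 (hinjX y hy hyM _ (mul_mem (inv_mem a.2) b.2) v hv hvC e''))
    have hc : Nat.card (fixP N A ⧸ (fixP N L).addSubgroupOf (fixP N A)) ≤ Nat.card A := by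
      have h1 := AddSubgroup.card_eq_card_quotient_mul_card_addSubgroup
        ((fixP N L).addSubgroupOf (fixP N A))
      rw [Nat.card_congr (AddSubgroup.addSubgroupOfEquivOfLe (fixP_anti hAL)).toEquiv, ← hcC] at h1
      exact (Nat.eq_of_mul_eq_mul_right Nat.card_pos h1).ge
    obtain ⟨a, ha⟩ := (hφ.bijective_of_nat_card_le hc).2 (QuotientAddGroup.mk ⟨u, hu⟩)
    refine ⟨a, a.2, ?_⟩
    have e' : -((a : P) • v - v) + u ∈ fixP N L :=
      (QuotientAddGroup.eq (s := (fixP N L).addSubgroupOf (fixP N A))).1 ha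
    have := neg_mem e'
    convert this using 1
    abel
  refine ⟨eq_top_iff.2 fun n _ => ?_, hcC, fun a ha y hy hay hne => ?_, fun v hv hvC y hy => ?_,
    fun v hv hvC y hy => ?_, hstab, hmem, fun n => ?_, E, hE, hE', hcardE.trans hcA,
    ρ, ψ, hρ, hψs, fun n => (hψ0 n).trans (hC n), hψ⟩
  · obtain ⟨u, hu, w, hw, rfl⟩ := hspan n
    refine add_mem (AddSubgroup.mem_sup_left ((hcU1 u).1 hu)) (AddSubgroup.mem_sup_right ?_)
    have := H.smul_mem_cU hw ⟨x, hxL⟩
    rw [mul_one] at this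
    exact (hcUx _).1 this
  · by_contra hyC
    exact hne (hinjX x hxL hxM a ha y (hxf.symm ▸ hy) hyC hay)
  · exact hsurjX x hxL hxM v (hxf.symm ▸ hv) hvC y hy
  · subst hxf
    have hCx : ∀ z ∈ fixP N L, x⁻¹ • z ∈ fixP N L ∧ x • z ∈ fixP N L := fun z hz =>
      ⟨(hz _ (inv_mem hxL)).symm ▸ hz, (hz _ hxL).symm ▸ hz⟩
    obtain ⟨a, ha, hav⟩ := hsurjX x⁻¹ (inv_mem hxL) (fun e => hxM (by simpa using inv_mem e)) (x⁻¹ • v)
      (smul_mem_fixP_cj hv) (fun e => hvC (by simpa using (hCx _ e).2)) (x⁻¹ • y) (mem_fixP_cj.1 hy)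
    refine ⟨x * a * x⁻¹, conj_mem_cj ha, ?_⟩
    have := (hCx _ hav).2
    rwa [smul_sub, smul_sub, smul_inv_smul, smul_inv_smul, ← mul_smul x a, ← mul_smul] at this
  · by_cases hn : n ∈ H.cU ⟨x, hxL⟩
    · exact ⟨x, hxL, (hcU _ n).1 hn⟩
    · obtain ⟨b, -, hb⟩ := hcov n hn
      exact ⟨b, b.2, (hcU b n).1 hb⟩


end Setup

end CfsgLib.LocalEven.FFPMin
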