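import Cfsg.Agent.Lib.LocalEven.FFPMin.Basic

/-!
The conjugates of a minimal offender, and a largest common family of two Sylow subgroups lying in
different conjugates of the maximal subgroup.
-/

set_option autoImplicit false
set_option linter.unusedSectionVars false

namespace CfsgLib.LocalEven.FFPMin

open CfsgLib.LocalEven.OffenderSL2 (fixP)
open scoped _root_.Classical

variable {p : ℕ} [hp : Fact p.Prime] {P : Type*} [Group P] [Finite P] {N : Type*} [AddCommGroup N]
  [DistribMulAction P N] [Finite N]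

section

variable (p P N)

/-- A minimal offender, when no offender has order two. -/
structure Fam where
  /-- The offender. -/
  A₀ : Subgroup P
  min : IsMin N p A₀
  noTwo : ∀ A : Subgroup P, IsMin N p A → 3 ≤ Nat.card A

end

/-- The conjugates. -/
def Fam.Mem (F : Fam p P N) (d : Subgroup P) : Prop := ∃ g, cj g F.A₀ = d

namespace Fam

variable {F : Fam p P N} {d : Subgroup P}

theorem Mem.cj (h : F.Mem d) (g : P) : F.Mem (cj g d) := by
  obtain ⟨k, rfl⟩ := h
  exact ⟨g * k, (cj_cj g k _).symm⟩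

theorem Mem.isMin (h : F.Mem d) : IsMin N p d := by
  obtain ⟨k, rfl⟩ := h
  exact F.min.cj k

theorem Mem.card (h : F.Mem d) : Nat.card d = Nat.card F.A₀ := by
  obtain ⟨k, rfl⟩ := h
  exact card_cj k _

theorem Mem.ne_bot (h : F.Mem d) : d ≠ ⊥ := h.isMin.ne_bot

theorem Mem.isPGroup (h : F.Mem d) : IsPGroup p d := h.isMin.toIsOff.isPGroup

theorem Mem.three (h : F.Mem d) : 3 ≤ Nat.card d := F.noTwo d h.isMin

theorem Mem.pow_eq (h : F.Mem d) {a : P} (ha : a ∈ d) : a ^ p = 1 := h.isMin.exp a ha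

theorem Mem.cj_iff {g : P} : F.Mem (FFPMin.cj g d) ↔ F.Mem d :=
  ⟨fun h => cj_inv_cj g d ▸ h.cj g⁻¹, fun h => h.cj g⟩

end Fam

variable (D : Model p P N) (F : Fam p P N)

/-- The members inside the translate by `g` of the Sylow subgroup. -/
def xSet (g : P) : Set (Subgroup P) := {d | F.Mem d ∧ d ≤ cj g (D.T : Subgroup P)}

theorem xSet_cj {g k : P} {d : Subgroup P} (h : d ∈ xSet D F g) : cj k d ∈ xSet D F (k * g) :=
  ⟨h.1.cj k, by rw [← cj_cj]; exact cj_mono h.2⟩

theorem ncard_xSet (g : P) : (xSet D F g).ncard = (xSet D F 1).ncard := by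
  have e : xSet D F g = cj g '' xSet D F 1 := by
    ext d
    constructor
    · intro h
      refine ⟨cj g⁻¹ d, ?_, cj_cj_inv g d⟩
      have := xSet_cj D F (k := g⁻¹) h
      rwa [inv_mul_cancel] at this
    · rintro ⟨c, hc, rfl⟩
      have := xSet_cj D F (k := g) hc
      rwa [mul_one] at this
  rw [e, Set.ncard_image_of_injective _ (cj_injective g)]

/-- The configuration. -/
structure Setup where
  /-- The number of common members. -/
  k : ℕ
  max : ∀ g h : P, g⁻¹ * h ∉ D.M → (xSet D F g ∩ xSet D F h).ncard ≤ k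
  /-- The group generated by the common members. -/
  K : Subgroup P
  kK : {d | F.Mem d ∧ d ≤ K}.ncard = k
  gen : sSup {d | F.Mem d ∧ d ≤ K} = K
  KT : K ≤ (D.T : Subgroup P)
  /-- A member normalising it. -/
  A : Subgroup P
  memA : F.Mem A
  AT : A ≤ (D.T : Subgroup P)
  AN : A ≤ Subgroup.normalizer (K : Set P)
  AK : ¬ A ≤ K
  sylow : ∀ S : Subgroup P, IsPGroup p S → S ≤ D.M ⊓ Subgroup.normalizer (K : Set P) →
    (D.T : Subgroup P) ⊓ Subgroup.normalizer (K : Set P) ≤ S →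
      S = (D.T : Subgroup P) ⊓ Subgroup.normalizer (K : Set P)
  out : ∃ e, F.Mem e ∧ e ≤ Subgroup.normalizer (K : Set P) ∧ ¬ e ≤ D.M

/-- A configuration exists, after changing the Sylow subgroup inside the maximal subgroup. -/
theorem exists_setup : ∃ (T' : Sylow p P) (hT' : (T' : Subgroup P) ≤ D.M),
    Nonempty (Setup (D.withT T' hT') F) := by
  obtain ⟨x0, hx0⟩ := D.exists_notM
  let Z : Set ℕ := {c | ∃ g h, g⁻¹ * h ∉ D.M ∧ c = (xSet D F g ∩ xSet D F h).ncard}
  have hZfin : Z.Finite := by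
    refine Set.Finite.subset (Set.finite_range fun gh : P × P =>
      (xSet D F gh.1 ∩ xSet D F gh.2).ncard) ?_
    rintro c ⟨g, h, -, rfl⟩
    exact ⟨(g, h), rfl⟩
  obtain ⟨k, ⟨g, h, hgh, hk⟩, hmax⟩ := Set.Finite.exists_maximalFor id Z hZfin
    ⟨_, 1, x0, by simpa using hx0, rfl⟩
  have hmax' : ∀ g h : P, g⁻¹ * h ∉ D.M → (xSet D F g ∩ xSet D F h).ncard ≤ k := by
    intro g h hgh
    by_contra hlt
    exact hlt (hmax ⟨g, h, hgh, rfl⟩ (not_le.1 hlt).le)
  set y := g⁻¹ * h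
  let R := xSet D F 1 ∩ xSet D F y
  have hR : R.ncard = k := by
    have e : xSet D F g ∩ xSet D F h = cj g '' R := by
      ext d
      constructor
      · rintro ⟨h1, h2⟩
        refine ⟨cj g⁻¹ d, ⟨?_, ?_⟩, cj_cj_inv g d⟩
        · have := xSet_cj D F (k := g⁻¹) h1
          rwa [inv_mul_cancel] at this
        · exact xSet_cj D F (k := g⁻¹) h2
      · rintro ⟨c, ⟨h1, h2⟩, rfl⟩
        refine ⟨?_, ?_⟩
        · have := xSet_cj D F (k := g) h1
          rwa [mul_one] at this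
        · have := xSet_cj D F (k := g) h2
          rwa [show g * y = h by simp [y]] at this
    rw [hk, e, Set.ncard_image_of_injective _ (cj_injective g)]
  set K := sSup R with hKdef
  have hK1 : K ≤ (D.T : Subgroup P) := sSup_le fun d hd => by simpa [cj_one] using hd.1.2
  have hKy : K ≤ cj y (D.T : Subgroup P) := sSup_le fun d hd => hd.2.2
  have hRK : {d | F.Mem d ∧ d ≤ K} = R := by
    refine Set.Subset.antisymm (fun d hd => ?_) fun d hd => ⟨hd.1.1, le_sSup hd⟩
    exact ⟨⟨hd.1, by rw [cj_one]; exact hd.2.trans hK1⟩, hd.1, hd.2.trans hKy⟩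
  have hx1 : ¬ xSet D F 1 ⊆ xSet D F y := by
    intro hsub
    have heq : xSet D F 1 = xSet D F y :=
      Set.eq_of_subset_of_ncard_le hsub (ncard_xSet D F y).le (Set.toFinite _)
    set J := sSup (xSet D F 1) with hJ
    have hnorm : ∀ t g : P, t ∈ cj g (D.T : Subgroup P) → sSup (xSet D F g) = J →
        t ∈ Subgroup.normalizer (J : Set P) := by
      intro t g ht e
      refine mem_normalizer_iff_cj.2 (Subgroup.eq_of_le_of_card_ge (cj_le_iff.2 ?_) (card_cj t J).ge)
      rw [← e]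
      refine sSup_le fun d hd => cj_le_iff.1 (le_sSup ⟨hd.1.cj t, ?_⟩)
      exact (cj_mono hd.2).trans (cj_eq_of_mem ht).le
    have hne : J ≠ ⊥ := by
      obtain ⟨S, hS⟩ := F.min.toIsOff.isPGroup.exists_le_sylow
      obtain ⟨c, hc⟩ := MulAction.exists_smul_eq P S D.T
      intro e
      have hmem : cj c F.A₀ ∈ xSet D F 1 := ⟨⟨c, rfl⟩, by
        rw [cj_one, ← hc, Sylow.coe_subgroup_smul]
        exact cj_mono hS⟩
      exact cj_ne_bot F.min.ne_bot (le_bot_iff.1 ((le_sSup hmem).trans e.le))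
    have htop : Subgroup.normalizer (J : Set P) ≠ ⊤ := fun e => hne (by
      have := CfsgLib.LocalEven.le_pCore (Subgroup.normalizer_eq_top_iff.1 e)
        (D.T.isPGroup'.to_le (sSup_le fun d hd => by simpa [cj_one] using hd.2))
      rwa [D.core, le_bot_iff] at this)
    refine hgh (D.mem_M_of_cj_T_le fun t ht => D.le_M htop (fun s hs => hnorm s 1 (by rwa [cj_one]) hJ.symm)
      (hnorm t y ht (by rw [← heq])))
  obtain ⟨d1, hd1, hd1y⟩ := Set.not_subset.1 hx1
  have hgetmem : ∀ g₀ : P, K ≤ cj g₀ (D.T : Subgroup P) → (∃ d ∈ xSet D F g₀, ¬ d ≤ K) →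
      R ⊆ xSet D F g₀ → ∃ d ∈ xSet D F g₀, ¬ d ≤ K ∧ d ≤ Subgroup.normalizer (K : Set P) :=
    fun g₀ hK hne hsub => exists_normalizing (isPGroup_cj D.T.isPGroup' g₀) hK (xSet D F g₀)
      ⟨R, hsub, rfl⟩ (fun t ht d hd => ⟨hd.1.cj t, (cj_mono hd.2).trans (cj_eq_of_mem ht).le⟩)
      (fun d hd => hd.2) hne
  obtain ⟨A, hA, hAK, hAN⟩ := hgetmem 1 (by rwa [cj_one])
    ⟨d1, hd1, fun h => hd1y (Set.mem_of_mem_inter_right (hRK.le ⟨hd1.1, h⟩))⟩ Set.inter_subset_left
  obtain ⟨e, he, heK, heN⟩ := hgetmem y hKy (by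
    by_contra hno
    push Not at hno
    have h2 : xSet D F y ⊆ xSet D F 1 := fun d hd => Set.mem_of_mem_inter_left (hRK.le ⟨hd.1, hno d hd⟩)
    exact hx1 (Set.eq_of_subset_of_ncard_le h2 (ncard_xSet D F y).ge (Set.toFinite _)).ge)
    Set.inter_subset_right
  rw [show xSet D F 1 = {d | F.Mem d ∧ d ≤ (D.T : Subgroup P)} by rw [xSet, cj_one]] at hA
  have hpKe : IsPGroup p (K ⊔ e : Subgroup P) :=
    (D.T.isPGroup'.to_le hK1).to_sup_of_normal_left' he.1.isPGroup heN
  have heM : ¬ e ≤ D.M := by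
    intro heM
    obtain ⟨m, hm, hle⟩ := D.exists_conj_T hpKe (sup_le (hK1.trans D.le) heM)
    have hmy : m⁻¹ * y ∉ D.M := fun h => hgh (by simpa using mul_mem hm h)
    have hsub : insert e R ⊆ xSet D F m ∩ xSet D F y := by
      rintro d (rfl | hd)
      · exact ⟨⟨he.1, le_sup_right.trans hle⟩, he⟩
      · exact ⟨⟨hd.1.1, (le_sSup hd).trans (le_sup_left.trans hle)⟩, hd.2⟩
    have h1 := (Set.ncard_le_ncard hsub (Set.toFinite _)).trans (hmax' m y hmy)
    rw [Set.ncard_insert_of_notMem (fun h => heK (le_sSup h)) (Set.toFinite _), hR] at h1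
    omega
  -- enlarge the Sylow subgroup
  obtain ⟨S, hS, hSmax⟩ := Set.Finite.exists_maximalFor id
    {S : Subgroup P | IsPGroup p S ∧ S ≤ D.M ⊓ Subgroup.normalizer (K : Set P) ∧
      (D.T : Subgroup P) ⊓ Subgroup.normalizer (K : Set P) ≤ S} (Set.toFinite _)
    ⟨_, D.T.isPGroup'.to_le inf_le_left, le_inf (inf_le_left.trans D.le) inf_le_right, le_rfl⟩
  obtain ⟨hSp, hSle, hTS⟩ := hS
  obtain ⟨m, hm, hSm⟩ := D.exists_conj_T hSp (hSle.trans inf_le_left)
  have hT' : (D.cT m : Subgroup P) ≤ D.M := by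
    rw [D.coe_cT]; exact (cj_mono D.le).trans (cj_eq_of_mem hm).le
  have hKS : K ≤ S := le_trans (le_inf hK1 Subgroup.le_normalizer) hTS
  have hAS : A ≤ S := le_trans (le_inf hA.2 hAN) hTS
  have hx : ∀ g, xSet (D.withT (D.cT m) hT') F g = xSet D F (g * m) := fun g => by
    show {d | F.Mem d ∧ d ≤ cj g (D.cT m : Subgroup P)} = _
    rw [D.coe_cT, cj_cj]
    rfl
  refine ⟨D.cT m, hT', ⟨{
    k := k
    max := fun g h hgh => by
      rw [hx, hx]
      refine hmax' _ _ fun h' => hgh ?_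
      have := mul_mem (mul_mem hm h') (inv_mem hm)
      rwa [show m * ((g * m)⁻¹ * (h * m)) * m⁻¹ = g⁻¹ * h by group] at this
    K := K
    kK := by rw [hRK, hR]
    gen := by rw [hRK]
    KT := by
      show K ≤ (D.cT m : Subgroup P)
      rw [D.coe_cT]; exact hKS.trans hSm
    A := A
    memA := hA.1
    AT := by
      show A ≤ (D.cT m : Subgroup P)
      rw [D.coe_cT]; exact hAS.trans hSm
    AN := hAN
    AK := hAK
    sylow := ?_
    out := ⟨e, he.1, heN, heM⟩ }⟩⟩
  intro Q hQp hQle hTQ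
  change (D.cT m : Subgroup P) ⊓ _ ≤ Q at hTQ
  change Q = (D.cT m : Subgroup P) ⊓ _
  rw [D.coe_cT] at hTQ ⊢
  have hSQ : S ≤ Q := le_trans (le_inf hSm (hSle.trans inf_le_right)) hTQ
  have hQS : Q ≤ S := hSmax ⟨hQp, hQle, hTS.trans hSQ⟩ hSQ
  exact le_antisymm (le_inf (hQS.trans hSm) (hQle.trans inf_le_right)) hTQ

end CfsgLib.LocalEven.FFPMin
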