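import Cfsg.Agent.Lib.LocalEven.FFPMin.Pair

/-!
Translates of fixed vectors of the Sylow subgroup; a `p`-group normalised by a pair is centralised.
-/

set_option autoImplicit false
set_option linter.unusedSectionVars false

namespace CfsgLib.LocalEven.FFPMin

open CfsgLib.LocalEven.OffenderSL2 (fixP)
open scoped _root_.Classical

variable {p : ℕ} [hp : Fact p.Prime] {P : Type*} [Group P] [Finite P] {N : Type*} [AddCommGroup N]
  [DistribMulAction P N] [Finite N]

/-- A translate by the maximal subgroup of a fixed vector of the Sylow subgroup. -/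
def IsTr (D : Model p P N) (z : N) : Prop :=
  ∃ v ∈ fixP N (D.T : Subgroup P), v ≠ 0 ∧ ∃ m ∈ D.M, m • v = z

variable {D : Model p P N}

theorem IsTr.smul {z : N} (h : IsTr D z) {g : P} (hg : g ∈ D.M) : IsTr D (g • z) := by
  obtain ⟨v, hv, hv0, m, hm, rfl⟩ := h
  exact ⟨v, hv, hv0, g * m, mul_mem hg hm, mul_smul g m v⟩

theorem IsTr.stab {z : N} (h : IsTr D z) {g : P} (hg : g • z = z) : g ∈ D.M := by
  obtain ⟨v, hv, hv0, m, hm, rfl⟩ := h
  have := mul_mem (mul_mem hm (D.stab_le_of_translate hv hv0 hg)) (inv_mem hm)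
  rwa [show m * (m⁻¹ * g * m) * m⁻¹ = g by group] at this

theorem IsTr.le_M {z : N} (h : IsTr D z) {H : Subgroup P} (hH : z ∈ fixP N H) : H ≤ D.M :=
  fun g hg => h.stab (hH g hg)

theorem IsTr.le_M_smul {z : N} (h : IsTr D z) {g : P} {H : Subgroup P} (hH : g • z ∈ fixP N H) :
    cj g⁻¹ H ≤ D.M := h.le_M (by
  rw [mem_fixP_cj, inv_inv]
  exact hH)

theorem exists_isTr : ∃ z, IsTr D z := by
  obtain ⟨v, hv, hv0⟩ := D.exists_fixed
  exact ⟨v, v, hv, hv0, 1, one_mem _, one_smul _ _⟩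

theorem exists_isTr_fix {Q : Subgroup P} (hQ : IsPGroup p Q) (hQM : Q ≤ D.M) :
    ∃ z, IsTr D z ∧ z ∈ fixP N Q := by
  obtain ⟨v, hv, hv0⟩ := D.exists_fixed
  obtain ⟨m, hm, hle⟩ := D.exists_conj_T hQ hQM
  exact ⟨m • v, ⟨v, hv, hv0, m, hm, rfl⟩, fixP_anti hle (smul_mem_fixP_cj hv)⟩

/-- A `p`-group preserving a proper subgroup fixes a vector outside it modulo it. -/
theorem exists_fixed_mod {Q : Subgroup P} (hQ : IsPGroup p Q) (expN : ∀ n : N, p • n = 0) {U : AddSubgroup N}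
    (hU : U ≠ ⊤) (hinv : ∀ g ∈ Q, ∀ n ∈ U, g • n ∈ U) : ∃ n, n ∉ U ∧ ∀ g ∈ Q, g • n - n ∈ U := by
  let act : ↥Q → N ⧸ U → N ⧸ U := fun t =>
    QuotientAddGroup.map U U (DistribSMul.toAddMonoidHom N (t : P)) (fun m hm => hinv t t.2 m hm)
  let : MulAction ↥Q (N ⧸ U) :=
    { smul := act
      one_smul := fun q => QuotientAddGroup.induction_on q fun m =>
        congrArg QuotientAddGroup.mk (one_smul P m)
      mul_smul := fun s t q => QuotientAddGroup.induction_on q fun m =>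
        congrArg QuotientAddGroup.mk (mul_smul (s : P) (t : P) m) }
  obtain ⟨m0, hm0⟩ : ∃ m0, m0 ∉ U := by
    by_contra h
    push Not at h
    exact hU (eq_top_iff.2 fun m _ => h m)
  have hdvd : p ∣ Nat.card (N ⧸ U) := by
    have : addOrderOf (m0 : N ⧸ U) = p := addOrderOf_eq_prime
      (by rw [← QuotientAddGroup.mk_nsmul, expN]; rfl) (fun e => hm0 ((QuotientAddGroup.eq_zero_iff m0).1 e))
    exact this ▸ addOrderOf_dvd_natCard _
  obtain ⟨q, hq, hq0⟩ := hQ.exists_fixed_point_of_prime_dvd_card_of_fixed_point (N ⧸ U) hdvd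
    (a := (0 : N ⧸ U)) (fun t => show act t 0 = 0 from map_zero _)
  obtain ⟨m, rfl⟩ := QuotientAddGroup.mk'_surjective U q
  exact ⟨m, fun e => hq0 ((QuotientAddGroup.eq_zero_iff m).2 e).symm,
    fun g hg => QuotientAddGroup.eq_iff_sub_mem.1 (hq ⟨g, hg⟩)⟩

namespace Setup

variable {F : Fam p P N} {S : Setup D F}

theorem card_fix_mem {d : Subgroup P} (hd : F.Mem d) : Nat.card (fixP N d) = Nat.card (fixP N F.A₀) := by
  obtain ⟨g, rfl⟩ := hd
  exact card_fixP_cj g _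

theorem fix_eq_of_le {d e : Subgroup P} (hd : F.Mem d) (he : F.Mem e) (h : fixP N d ≤ fixP N e) :
    fixP N d = fixP N e :=
  AddSubgroup.eq_of_le_of_card_ge h (by rw [card_fix_mem hd, card_fix_mem he])

theorem Facts.lt_card {A f : Subgroup P} (h : Facts F A f) (hA : F.Mem A) :
    Nat.card (fixP N (A ⊔ f : Subgroup P)) < Nat.card (fixP N A) := by
  rw [← h.card]
  exact lt_mul_of_one_lt_left Nat.card_pos (by have := hA.three; omega)

theorem Facts.exists_notC {A f : Subgroup P} (h : Facts F A f) (hA : F.Mem A) (hf : F.Mem f) :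
    ∃ s ∈ fixP N f, s ∉ fixP N (A ⊔ f : Subgroup P) := by
  by_contra hne
  push Not at hne
  have := AddSubgroup.card_le_of_le (show fixP N f ≤ fixP N (A ⊔ f : Subgroup P) from hne)
  rw [card_fix_mem hf, ← card_fix_mem hA] at this
  exact absurd (h.lt_card hA) (not_lt.2 this)

theorem fix_sup_eq {A f : Subgroup P} {n : N} :
    n ∈ fixP N (A ⊔ f : Subgroup P) ↔ n ∈ fixP N A ∧ n ∈ fixP N f := by
  rw [fixP_sup]
  rfl

/-- A nontrivial element of a member fixes nothing outside its axis. -/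
theorem semireg (S : Setup D F) {d : Subgroup P} (hd : F.Mem d) {b : P} (hb : b ∈ d) (hb1 : b ≠ 1) {n : N}
    (hn : b • n = n) : n ∈ fixP N d := by
  suffices ∀ a ∈ S.A, a ≠ 1 → ∀ n : N, a • n = n → n ∈ fixP N S.A by
    obtain ⟨g, hg⟩ := S.memA
    obtain ⟨k, rfl⟩ := hd
    have e : cj k F.A₀ = cj (k * g⁻¹) S.A := by rw [← hg, cj_cj, inv_mul_cancel_right]
    rw [e] at hb ⊢
    rw [mem_fixP_cj]
    refine this _ (mem_cj.1 hb) (fun h => hb1 ?_) _ ?_
    · set c := k * g⁻¹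
      have := congrArg (fun x => c * x * c⁻¹) h
      simpa [mul_assoc] using this
    · rw [mul_smul, mul_smul, smul_inv_smul, hn]
  intro a ha ha1 n hn
  obtain ⟨e, he⟩ := S.out
  obtain ⟨f, hf, -⟩ := exists_pair S.inA (⟨he.1, he.2.1, he.2.2⟩ : S.Out e)
  have hF := hf.facts
  obtain ⟨u, hu, y, hy, rfl⟩ := AddSubgroup.mem_sup.1 (hF.sup.ge (AddSubgroup.mem_top n))
  rw [smul_add, hu a ha, add_right_inj] at hn
  have := hF.inj a ha y hy (by rw [hn, sub_self]; exact zero_mem _) ha1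
  exact add_mem hu (fix_sup_eq.1 this).1

/-- Every translate lies in the axis of every member in the maximal subgroup. -/
theorem In.fix_tr {d : Subgroup P} (hd : S.In d) {z : N} (hz : IsTr D z) : z ∈ fixP N d := by
  obtain ⟨e, he⟩ := S.out
  obtain ⟨f, hf, -⟩ := exists_pair hd (⟨he.1, he.2.1, he.2.2⟩ : S.Out e)
  have hF := hf.facts
  obtain ⟨u, hu, y, hy, rfl⟩ := AddSubgroup.mem_sup.1 (hF.sup.ge (AddSubgroup.mem_top z))
  by_cases hyC : y ∈ fixP N (d ⊔ f : Subgroup P)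
  · exact add_mem hu (fix_sup_eq.1 hyC).1
  obtain ⟨a, ha, hay⟩ := hF.surjA y hy hyC (-u) (neg_mem hu)
  refine absurd ((hz.smul (hd.leM ha)).le_M ?_) hf.outF.notM
  have e : a • (u + y) = y + (a • y - y - -u) := by rw [smul_add, hu a ha]; abel
  rw [e]
  exact add_mem hy (fix_sup_eq.1 hay).2

theorem IsPair.tr_notC {A f : Subgroup P} (h : S.IsPair A f) {z : N} (hz : IsTr D z) :
    z ∉ fixP N (A ⊔ f : Subgroup P) := fun e => h.outF.notM (le_sup_right.trans (hz.le_M e))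

theorem IsPair.mem_M_of_fix {A f : Subgroup P} (h : S.IsPair A f) {l : P} (hl : l ∈ A ⊔ f) {n : N}
    (hn : n ∈ fixP N A) (hn' : n ∈ fixP N (FFPMin.cj l A)) (hnC : n ∉ fixP N (A ⊔ f : Subgroup P)) :
    l ∈ D.M := by
  rcases h.inA.cj_cases (h.le0 hl) with hi | ho
  · exact h.inA.cl (h.le0 hl) hi.leM
  · refine absurd ?_ hnC
    rw [← h.min _ ho ((cj_mono le_sup_left).trans (cj_eq_of_mem hl).le)]
    exact fix_sup_eq.2 ⟨hn, hn'⟩

/-- The pair carries a translate to every point of the axis, modulo the common part. -/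
theorem IsPair.transitive {A f : Subgroup P} (h : S.IsPair A f) {z : N} (hz : IsTr D z) {y : N}
    (hy : y ∈ fixP N A) (hyC : y ∉ fixP N (A ⊔ f : Subgroup P)) :
    ∃ l ∈ A ⊔ f, l ∈ D.M ∧ l • z - y ∈ fixP N (A ⊔ f : Subgroup P) := by
  have hF := h.facts
  set C := fixP N (A ⊔ f : Subgroup P)
  have hzA := h.inA.fix_tr hz
  obtain ⟨s, hs, hsC⟩ := hF.exists_notC h.inA.mem h.outF.mem
  obtain ⟨b, hb, hbz⟩ := hF.surjF z hzA (h.tr_notC hz) s hs
  obtain ⟨a, ha, has⟩ := hF.surjA s hs hsC (y - z) (sub_mem hy hzA)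
  obtain ⟨b', hb', hby⟩ := hF.surjF y hy hyC s hs
  have hbL : b ∈ A ⊔ f := Subgroup.mem_sup_right hb
  have haL : a ∈ A ⊔ f := Subgroup.mem_sup_left ha
  have hb'L : b' ∈ A ⊔ f := Subgroup.mem_sup_right hb'
  set l := b'⁻¹ * a * b
  have hl : l ∈ A ⊔ f := mul_mem (mul_mem (inv_mem hb'L) haL) hbL
  have hlz : l • z - y ∈ C := by
    have key : (a * b) • z - b' • y ∈ C := by
      have e1 : (a * b) • z = a • (b • z - z - s) + a • z + a • s := by
        rw [mul_smul, ← smul_add, ← smul_add]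
        congr 1
        abel
      have e2 : b' • y = (b' • y - y - s) + y + s := by abel
      rw [e1, e2, hbz a haL, hzA a ha]
      have := add_mem (sub_mem hbz hby) has
      convert this using 1
      abel
    have := key _ (inv_mem hb'L) ▸ key
    rw [smul_sub, inv_smul_smul, ← mul_smul] at this
    rwa [show l = b'⁻¹ * (a * b) by simp [l, mul_assoc]]
  refine ⟨l, hl, h.mem_M_of_fix hl (n := l • z) ?_ (smul_mem_fixP_cj hzA) fun e => hyC ?_, hlz⟩
  · have := add_mem (fixP_anti le_sup_left hlz) hy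
    rwa [sub_add_cancel] at this
  · have := sub_mem e hlz
    rwa [sub_sub_cancel] at this

/-- An element of the axis is a combination of translates modulo the common part. -/
theorem IsPair.axis_le {A f : Subgroup P} (h : S.IsPair A f) :
    fixP N A ≤ AddSubgroup.closure {z | IsTr D z} ⊔ fixP N (A ⊔ f : Subgroup P) := by
  intro y hy
  by_cases hyC : y ∈ fixP N (A ⊔ f : Subgroup P)
  · exact AddSubgroup.mem_sup_right hyC
  obtain ⟨z, hz⟩ := exists_isTr (D := D)
  obtain ⟨l, -, hlM, hlz⟩ := h.transitive hz hy hyC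
  rw [← sub_sub_cancel (l • z) y]
  exact sub_mem (AddSubgroup.mem_sup_left (AddSubgroup.subset_closure (hz.smul hlM)))
    (AddSubgroup.mem_sup_right hlz)

/-- A subgroup invariant under the pair and not inside the common part covers everything modulo it. -/
theorem IsPair.irreducible {A f : Subgroup P} (h : S.IsPair A f) {X : AddSubgroup N}
    (hinv : ∀ l ∈ A ⊔ f, ∀ n ∈ X, l • n ∈ X) (hX : ¬ X ≤ fixP N (A ⊔ f : Subgroup P)) :
    X ⊔ fixP N (A ⊔ f : Subgroup P) = ⊤ := by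
  have hF := h.facts
  set C := fixP N (A ⊔ f : Subgroup P)
  set Y := X ⊔ C with hY
  have hYinv : ∀ l ∈ A ⊔ f, ∀ n ∈ Y, l • n ∈ Y := by
    intro l hl n hn
    obtain ⟨a, ha, c, hc, rfl⟩ := AddSubgroup.mem_sup.1 hn
    rw [smul_add, hc l hl]
    exact add_mem (AddSubgroup.mem_sup_left (hinv l hl a ha)) (AddSubgroup.mem_sup_right hc)
  obtain ⟨v, hvY, hv, hvC⟩ : ∃ v ∈ Y, v ∈ fixP N A ∧ v ∉ C := by
    obtain ⟨s, hs, hsC⟩ := SetLike.not_le_iff_exists.1 hX
    have hsY : s ∈ Y := AddSubgroup.mem_sup_left hs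
    by_cases hsA : s ∈ fixP N A
    · exact ⟨s, hsY, hsA, hsC⟩
    obtain ⟨a, ha, ha1⟩ := (Subgroup.bot_or_exists_ne_one A).resolve_left h.inA.mem.ne_bot
    refine ⟨a • s - s, sub_mem (hYinv a (Subgroup.mem_sup_left ha) s hsY) hsY,
      (h.inA.mem.isMin.quad D.expN) a ha s, fun e => hsA ?_⟩
    obtain ⟨u, hu, y, hy, rfl⟩ := AddSubgroup.mem_sup.1 (hF.sup.ge (AddSubgroup.mem_top s))
    rw [smul_add, hu a ha, add_sub_add_left_eq_sub] at e
    exact add_mem hu (fix_sup_eq.1 (hF.inj a ha y hy e ha1)).1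
  have hUf : fixP N f ≤ Y := by
    intro y hy
    obtain ⟨b, hb, e⟩ := hF.surjF v hv hvC y hy
    have := sub_mem (sub_mem (hYinv b (Subgroup.mem_sup_right hb) v hvY) hvY)
      (AddSubgroup.mem_sup_right (S := X) e)
    rwa [sub_sub_cancel] at this
  have hUA : fixP N A ≤ Y := by
    intro u hu
    obtain ⟨s, hs, hsC⟩ := hF.exists_notC h.inA.mem h.outF.mem
    obtain ⟨a, ha, e⟩ := hF.surjA s hs hsC u hu
    have := sub_mem (sub_mem (hYinv a (Subgroup.mem_sup_left ha) s (hUf hs)) (hUf hs))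
      (AddSubgroup.mem_sup_right (S := X) e)
    rwa [sub_sub_cancel] at this
  exact top_le_iff.1 (hF.sup.ge.trans (sup_le hUA hUf))

/-- A `p`-subgroup of the maximal subgroup normalised by a pair is centralised by it. -/
theorem IsPair.centralised {A f : Subgroup P} (h : S.IsPair A f) {Q : Subgroup P} (hQ : IsPGroup p Q)
    (hQM : Q ≤ D.M) (hn : A ⊔ f ≤ Subgroup.normalizer (Q : Set P)) :
    moveP N Q ≤ fixP N (A ⊔ f : Subgroup P) ∧ moveP N (A ⊔ f : Subgroup P) ≤ fixP N Q ∧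
      ∀ l ∈ A ⊔ f, ∀ z ∈ Q, l * z = z * l := by
  set L := A ⊔ f
  set C := fixP N L
  have hcj : ∀ l ∈ L, FFPMin.cj l Q = Q := fun l hl => mem_normalizer_iff_cj.1 (hn hl)
  have hQA : IsPGroup p (Q ⊔ A : Subgroup P) :=
    hQ.to_sup_of_normal_left' h.inA.mem.isPGroup (le_sup_left.trans hn)
  obtain ⟨z, hz, hzfix⟩ := exists_isTr_fix hQA (sup_le hQM h.inA.leM)
  have hzQ : z ∈ fixP N Q := fixP_anti le_sup_left hzfix
  have htop : fixP N Q ⊔ C = ⊤ := h.irreducible
    (fun l hl n hn => smul_mem_fixP_of_normalizes (hcj l hl) hn) (fun e => h.tr_notC hz (e hzQ))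
  obtain ⟨H0, -, hH0, hH0stab⟩ := D.exists_hyperplane
  obtain ⟨m, hm, hQT⟩ := D.exists_conj_T hQA (sup_le hQM h.inA.leM)
  have hMove : moveP N Q ≤ C := by
    by_contra hne
    have hinv : ∀ l ∈ L, ∀ n ∈ moveP N Q, l • n ∈ moveP N Q := fun l hl n hn => by
      have := smul_mem_moveP_cj (g := l) hn
      rwa [hcj l hl] at this
    have htop2 := h.irreducible hinv hne
    refine h.outF.notM (le_sup_right.trans (fun l hl => ?_ : L ≤ D.M))
    have hmH : ∀ x ∈ moveP N Q, m⁻¹ • x ∈ H0 := fun x hx => by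
      have h1 := smul_mem_moveP_cj (g := m⁻¹) (moveP_mono (le_sup_left.trans hQT) hx)
      rw [cj_inv_cj] at h1
      exact hH0 h1
    have hl' : m⁻¹ * l * m ∈ D.M := hH0stab _ fun n hn => by
      rw [mul_smul, mul_smul]
      obtain ⟨s, hs, c, hc, e⟩ := AddSubgroup.mem_sup.1 (htop2.ge (AddSubgroup.mem_top (m • n)))
      have h1 : l • m • n - m • n ∈ moveP N Q := by
        rw [← e, smul_add, hc l hl, add_sub_add_right_eq_sub]
        exact sub_mem (hinv l hl s hs) hs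
      have := add_mem (hmH _ h1) hn
      rwa [smul_sub, inv_smul_smul, sub_add_cancel] at this
    have := mul_mem (mul_mem hm hl') (inv_mem hm)
    rwa [show m * (m⁻¹ * l * m) * m⁻¹ = l by group] at this
  have hL : moveP N L ≤ fixP N Q := moveP_le.2 fun l hl n => by
    obtain ⟨s, hs, c, hc, rfl⟩ := AddSubgroup.mem_sup.1 (htop.ge (AddSubgroup.mem_top n))
    rw [smul_add, hc l hl, add_sub_add_right_eq_sub]
    exact sub_mem (smul_mem_fixP_of_normalizes (hcj l hl) hs) hs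
  refine ⟨hMove, hL, fun l hl q hq => inv_mul_eq_one.1 (D.faith _ fun n => ?_)⟩
  rw [mul_smul, inv_smul_eq_iff, mul_smul, mul_smul]
  have e1 : l • (q • n - n) = q • n - n := hMove (move_mem hq n) l hl
  have e2 : q • (l • n - n) = l • n - n := hL (move_mem hl n) q hq
  rw [smul_sub, sub_eq_iff_eq_add] at e1 e2
  rw [e1, e2]
  abel

theorem In.centralises_K {d : Subgroup P} (hd : S.In d) :
    moveP N d ≤ fixP N S.K ∧ ∀ a ∈ d, ∀ k ∈ S.K, a * k = k * a := by
  obtain ⟨e, he⟩ := S.out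
  obtain ⟨f, hf, -⟩ := exists_pair hd (⟨he.1, he.2.1, he.2.2⟩ : S.Out e)
  obtain ⟨-, h2, h3⟩ := hf.centralised (D.T.isPGroup'.to_le S.KT) S.K_le_M hf.le0
  exact ⟨(moveP_mono le_sup_left).trans h2, fun a ha => h3 a (Subgroup.mem_sup_left ha)⟩

theorem IsPair.centralises_K {A f : Subgroup P} (h : S.IsPair A f) :
    moveP N S.K ≤ fixP N (A ⊔ f : Subgroup P) ∧ moveP N (A ⊔ f : Subgroup P) ≤ fixP N S.K ∧
      ∀ l ∈ A ⊔ f, ∀ k ∈ S.K, l * k = k * l :=
  h.centralised (D.T.isPGroup'.to_le S.KT) S.K_le_M h.le0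

end Setup

end CfsgLib.LocalEven.FFPMin
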