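import Cfsg.Agent.Lib.LocalEven.FFPMin.Decomp
import Mathlib.Algebra.Module.ZMod

/-!
Transvections in a `2`-minimal group: their centres and axes, the transvections in a Sylow subgroup,
and the pairing with those outside the maximal subgroup.
-/

set_option autoImplicit false
set_option linter.unusedSectionVars false

namespace CfsgLib.LocalEven.FFPMin

open CfsgLib.LocalEven.OffenderSL2 (fixP)
open scoped _root_.Classical

section Tv

variable {P : Type*} [Group P] {N : Type*} [AddCommGroup N] [DistribMulAction P N] [Module (ZMod 2) N]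

theorem zmod_two_cases (z : ZMod 2) : z = 0 ∨ z = 1 := by revert z; decide

theorem smul_zmod (k : P) (z : ZMod 2) (n : N) : k • (z • n) = z • (k • n) := by
  rcases zmod_two_cases z with rfl | rfl <;> simp

theorem map_zmod {M' : Type*} [AddCommGroup M'] [Module (ZMod 2) M'] (g : N →+ M') (z : ZMod 2) (n : N) :
    g (z • n) = z • g n := by
  rcases zmod_two_cases z with rfl | rfl <;> simp

theorem add_self_two (n : N) : n + n = 0 := by
  rw [← two_smul (ZMod 2) n, show (2 : ZMod 2) = 0 by decide, zero_smul]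

/-- `x` is the transvection with centre `c` and functional `g`. -/
structure Ax (x : P) (c : N) (g : N →+ ZMod 2) : Prop where
  c_ne : c ≠ 0
  gc : g c = 0
  g_ne : g ≠ 0
  act : ∀ n : N, x • n = n + g n • c

variable (N) in
/-- Transvections. -/
def IsTv (x : P) : Prop := ∃ (c : N) (g : N →+ ZMod 2), Ax x c g

variable (N) in
/-- The centre. -/
noncomputable def cen (x : P) : N := if h : IsTv N x then h.choose else 0

variable (N) in
/-- The functional. -/
noncomputable def fn (x : P) : N →+ ZMod 2 := if h : IsTv N x then h.choose_spec.choose else 0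

theorem IsTv.ax {x : P} (h : IsTv N x) : Ax x (cen N x) (fn N x) := by
  rw [cen, fn, dif_pos h, dif_pos h]
  exact h.choose_spec.choose_spec

theorem Ax.isTv {x : P} {c : N} {g : N →+ ZMod 2} (h : Ax x c g) : IsTv N x := ⟨c, g, h⟩

theorem Ax.exists_one {x : P} {c : N} {g : N →+ ZMod 2} (h : Ax x c g) : ∃ n, g n = 1 := by
  by_contra hne
  push Not at hne
  exact h.g_ne (AddMonoidHom.ext fun n => (zmod_two_cases (g n)).resolve_right (hne n))

theorem Ax.eq {x : P} {c c' : N} {g g' : N →+ ZMod 2} (h : Ax x c g) (h' : Ax x c' g') :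
    c = c' ∧ g = g' := by
  have e : ∀ n, g n • c = g' n • c' := fun n => add_left_cancel ((h.act n).symm.trans (h'.act n))
  obtain ⟨n, hn⟩ := h.exists_one
  have hc : c = c' := by
    have := e n
    rw [hn, one_smul] at this
    rcases zmod_two_cases (g' n) with h0 | h0 <;> rw [h0] at this
    · rw [zero_smul] at this; exact absurd this h.c_ne
    · rwa [one_smul] at this
  refine ⟨hc, AddMonoidHom.ext fun m => ?_⟩
  have := e m
  rcases zmod_two_cases (g m) with h1 | h1 <;> rcases zmod_two_cases (g' m) with h2 | h2 <;>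
    rw [h1, h2] at this ⊢
  · rw [zero_smul, one_smul] at this; exact absurd this.symm h'.c_ne
  · rw [zero_smul, one_smul] at this; exact absurd this h.c_ne

theorem Ax.cen_eq {x : P} {c : N} {g : N →+ ZMod 2} (h : Ax x c g) : cen N x = c := (h.isTv.ax.eq h).1

theorem Ax.fn_eq {x : P} {c : N} {g : N →+ ZMod 2} (h : Ax x c g) : fn N x = g := (h.isTv.ax.eq h).2

theorem IsTv.act {x : P} (h : IsTv N x) (n : N) : x • n = n + fn N x n • cen N x := h.ax.act n

theorem IsTv.fix_iff {x : P} (h : IsTv N x) {n : N} : x • n = n ↔ fn N x n = 0 := by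
  rw [h.act, add_eq_left]
  refine ⟨fun e => (zmod_two_cases _).resolve_right fun e1 => h.ax.c_ne ?_, fun e => by rw [e, zero_smul]⟩
  rwa [e1, one_smul] at e

theorem IsTv.move_mem {x : P} (h : IsTv N x) {S : AddSubgroup N} (hc : cen N x ∈ S) (n : N) :
    x • n - n ∈ S := by
  rw [h.act, add_sub_cancel_left]
  rcases zmod_two_cases (fn N x n) with e | e <;> rw [e]
  · rw [zero_smul]; exact zero_mem _
  · rwa [one_smul]

theorem Ax.conj {x : P} {c : N} {g : N →+ ZMod 2} (h : Ax x c g) (k : P) :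
    Ax (k * x * k⁻¹) (k • c) (g.comp (DistribSMul.toAddMonoidHom N k⁻¹)) where
  c_ne := (smul_ne_zero_iff_ne k).2 h.c_ne
  gc := by
    show g (k⁻¹ • k • c) = 0
    rw [inv_smul_smul, h.gc]
  g_ne e := by
    obtain ⟨n, hn⟩ := h.exists_one
    have := DFunLike.congr_fun e (k • n)
    simp [hn] at this
  act n := by
    rw [mul_smul, mul_smul, h.act, smul_add, smul_inv_smul, smul_zmod]
    rfl

theorem IsTv.conj {x : P} (h : IsTv N x) (k : P) : IsTv N (k * x * k⁻¹) := (h.ax.conj k).isTv

theorem IsTv.cen_conj {x : P} (h : IsTv N x) (k : P) : cen N (k * x * k⁻¹) = k • cen N x :=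
  (h.ax.conj k).cen_eq

theorem IsTv.fn_conj {x : P} (h : IsTv N x) (k : P) (n : N) :
    fn N (k * x * k⁻¹) n = fn N x (k⁻¹ • n) := by
  rw [(h.ax.conj k).fn_eq]
  rfl

variable (N) in
/-- The pairing. -/
noncomputable def pair (x y : P) : ZMod 2 := fn N x (cen N y)

theorem pair_self {x : P} (h : IsTv N x) : pair N x x = 0 := h.ax.gc

variable [hfaith : Fact (∀ g : P, (∀ n : N, g • n = n) → g = 1)]

theorem IsTv.ne_one {x : P} (h : IsTv N x) : x ≠ 1 := by
  rintro rfl
  obtain ⟨n, hn⟩ := h.ax.exists_one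
  have := (h.fix_iff).1 (one_smul P n)
  rw [hn] at this
  exact one_ne_zero this

theorem IsTv.sq {x : P} (h : IsTv N x) : x * x = 1 := by
  refine hfaith.out _ fun n => ?_
  rw [mul_smul, h.act, h.act, map_add, map_zmod, h.ax.gc, smul_zero, add_zero, add_assoc, add_self_two, add_zero]

theorem IsTv.inv_eq {x : P} (h : IsTv N x) : x⁻¹ = x := inv_eq_of_mul_eq_one_right h.sq

theorem IsTv.conj' {x y : P} (hy : IsTv N y) (hx : IsTv N x) : IsTv N (x * y * x) := by
  have := hy.conj x
  rwa [hx.inv_eq] at this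

theorem cen_refl {x y : P} (hx : IsTv N x) (hy : IsTv N y) :
    cen N (x * y * x) = cen N y + pair N x y • cen N x := by
  have := hy.cen_conj x
  rw [hx.inv_eq] at this
  rw [this, hx.act]
  rfl

theorem fn_refl {x y : P} (hx : IsTv N x) (hy : IsTv N y) (n : N) :
    fn N (x * y * x) n = fn N y n + fn N x n * pair N y x := by
  have := hy.fn_conj x n
  rw [hx.inv_eq] at this
  rw [this, hx.act, map_add, map_zmod]
  rfl

theorem pair_refl {x y z : P} (hx : IsTv N x) (hy : IsTv N y) :
    pair N z (x * y * x) = pair N z y + pair N x y * pair N z x := by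
  rw [pair, cen_refl hx hy, map_add, map_zmod]
  rfl

theorem refl_eq_self {x y : P} (hx : IsTv N x) (e : x * y = y * x) : x * y * x = y := by
  rw [e, mul_assoc, hx.sq, mul_one]

theorem pair_eq_zero_of_commute {x y : P} (hx : IsTv N x) (hy : IsTv N y) (e : x * y = y * x) :
    pair N x y = 0 := by
  have h := cen_refl hx hy
  rw [refl_eq_self hx e, left_eq_add] at h
  refine (zmod_two_cases _).resolve_right fun e1 => hx.ax.c_ne ?_
  rwa [e1, one_smul] at h

end Tv

section Model

variable {P : Type*} [Group P] [Finite P] {N : Type*} [AddCommGroup N] [DistribMulAction P N] [Finite N]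
  [Module (ZMod 2) N] [hfaith : Fact (∀ g : P, (∀ n : N, g • n = n) → g = 1)]
variable (D : Model 2 P N) (hex : ∃ x : P, IsTv N x)

include D hex

theorem tv_exists_notM {x : P} (hx : IsTv N x) : ∃ k, k * x * k⁻¹ ∉ D.M := by
  have hp : IsPGroup 2 (Subgroup.zpowers x) := by
    intro a
    obtain ⟨j, hj⟩ := Subgroup.mem_zpowers_iff.1 a.2
    refine ⟨1, Subtype.ext ?_⟩
    show (a : P) ^ (2 ^ 1) = 1
    rw [← hj, pow_one, ← zpow_natCast, ← zpow_mul, mul_comm, zpow_mul, zpow_natCast, pow_two, hx.sq, one_zpow]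
  obtain ⟨g, hg⟩ := D.exists_cj_not_le hp (Subgroup.zpowers_ne_bot.2 hx.ne_one)
  exact ⟨g, fun h => hg (cj_le_iff.2 (Subgroup.zpowers_le.2 (mem_cj.2 (by simpa using h))))⟩

theorem exists_tv_notM : ∃ x, IsTv N x ∧ x ∉ D.M := by
  obtain ⟨x, hx⟩ := hex
  obtain ⟨k, hk⟩ := tv_exists_notM D ⟨x, hx⟩ hx
  exact ⟨_, hx.conj k, hk⟩

theorem eq_zero_of_fn {n : N} (h : ∀ e, IsTv N e → e ∉ D.M → fn N e n = 0) : n = 0 := by
  obtain ⟨e, he, heM⟩ := exists_tv_notM D hex
  refine D.eq_zero_of_fix_out (XS := {d | ∃ x, IsTv N x ∧ Subgroup.zpowers x = d}) ?_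
    ⟨_, ⟨e, he, rfl⟩, fun h => heM (h (Subgroup.mem_zpowers e))⟩ ?_
  · rintro g _ ⟨x, hx, rfl⟩
    exact ⟨_, hx.conj g, ((MulAut.conj g).toMonoidHom.map_zpowers x).symm⟩
  · rintro _ ⟨x, hx, rfl⟩ hM a ha
    have : Subgroup.zpowers x ≤ MulAction.stabilizer P n :=
      Subgroup.zpowers_le.2 (hx.fix_iff.2 (h x hx fun hxM => hM (Subgroup.zpowers_le.2 hxM)))
    exact this ha

theorem eq_top_of_cen {S : AddSubgroup N} (h : ∀ e, IsTv N e → e ∉ D.M → cen N e ∈ S) : S = ⊤ := by
  obtain ⟨e, he, heM⟩ := exists_tv_notM D hex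
  refine D.eq_top_of_move_out (XS := {d | ∃ x, IsTv N x ∧ Subgroup.zpowers x = d}) ?_
    ⟨_, ⟨e, he, rfl⟩, fun h => heM (h (Subgroup.mem_zpowers e))⟩ ?_
  · rintro g _ ⟨x, hx, rfl⟩
    exact ⟨_, hx.conj g, ((MulAut.conj g).toMonoidHom.map_zpowers x).symm⟩
  · rintro _ ⟨x, hx, rfl⟩ hM
    refine moveP_le.2 (Subgroup.zpowers_le.2 fun n => hx.move_mem (h x hx fun hxM => hM ?_) n)
    exact Subgroup.zpowers_le.2 hxM

theorem fn_eq_one {v : N} (hv : v ∈ fixP N (D.T : Subgroup P)) (hv0 : v ≠ 0) {e : P} (he : IsTv N e)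
    (heM : e ∉ D.M) : fn N e v = 1 :=
  (zmod_two_cases _).resolve_left fun h => heM (D.stab_le hv hv0 (he.fix_iff.2 h))

theorem mem_M_iff_fn {v : N} (hv : v ∈ fixP N (D.T : Subgroup P)) (hv0 : v ≠ 0) {x : P} (hx : IsTv N x) :
    x ∈ D.M ↔ fn N x v = 0 := by
  refine ⟨fun hxM => (zmod_two_cases _).resolve_right fun h1 => hx.ax.c_ne ?_,
    fun h => D.stab_le hv hv0 (hx.fix_iff.2 h)⟩
  refine eq_zero_of_fn D hex fun e he heM => ?_
  have heM' : x * e * x ∉ D.M := fun h => heM (by
    have := mul_mem (mul_mem hxM h) hxM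
    rwa [show x * (x * e * x) * x = x * x * e * (x * x) by group, hx.sq, one_mul, mul_one] at this)
  have := fn_eq_one D hex hv hv0 (he.conj' hx) heM'
  rw [fn_refl hx he, fn_eq_one D hex hv hv0 he heM, h1, one_mul, add_eq_left] at this
  exact this

theorem fn_smul_M {v : N} (hv : v ∈ fixP N (D.T : Subgroup P)) (hv0 : v ≠ 0) {m : P} (hm : m ∈ D.M) :
    m • v = v := by
  have hm' : (D.cT m : Subgroup P) ≤ D.M := by
    rw [D.coe_cT]
    exact (cj_mono D.le).trans (cj_eq_of_mem hm).le
  have hv' : m • v ∈ fixP N ((D.withT (D.cT m) hm').T : Subgroup P) := by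
    show m • v ∈ fixP N (D.cT m : Subgroup P)
    rw [D.coe_cT]
    exact smul_mem_fixP_cj hv
  refine sub_eq_zero.1 (eq_zero_of_fn D hex fun e he heM => ?_)
  rw [map_sub, fn_eq_one (D.withT _ hm') hex hv' ((smul_ne_zero_iff_ne m).2 hv0) he heM,
    fn_eq_one D hex hv hv0 he heM, sub_self]

theorem fixed_eq {v v' : N} (hv : v ∈ fixP N (D.T : Subgroup P)) (hv0 : v ≠ 0)
    (hv' : v' ∈ fixP N (D.T : Subgroup P)) (hv'0 : v' ≠ 0) : v = v' :=
  sub_eq_zero.1 (eq_zero_of_fn D hex fun e he heM => by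
    rw [map_sub, fn_eq_one D hex hv hv0 he heM, fn_eq_one D hex hv' hv'0 he heM, sub_self])

theorem exists_hyper_fn : ∃ φ : N →+ ZMod 2, ∀ x, IsTv N x → (x ∈ D.M ↔ φ (cen N x) = 0) := by
  obtain ⟨H, hH, -, hstab⟩ := D.exists_hyperplane
  let φ : N →+ ZMod 2 :=
    { toFun := fun n => if n ∈ H then 0 else 1
      map_zero' := if_pos (zero_mem H)
      map_add' := fun a b => by
        have := AddSubgroup.add_mem_iff_of_index_two hH (a := a) (b := b)
        by_cases ha : a ∈ H <;> by_cases hb : b ∈ H <;> simp [ha, hb, this] <;> decide }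
  have hφ : ∀ n, φ n = 0 ↔ n ∈ H := fun n => by
    by_cases h : n ∈ H <;> simp [φ, h]
  refine ⟨φ, fun x hx => ?_⟩
  have key : ∀ e, IsTv N e → φ (cen N e) = 0 → e ∈ D.M := fun e he h => hstab e fun n hn => by
    have := add_mem (he.move_mem ((hφ _).1 h) n) hn
    rwa [sub_add_cancel] at this
  refine ⟨fun hxM => (zmod_two_cases _).resolve_right fun h1 => hx.ax.g_ne ?_, key x hx⟩
  have : (fn N x).ker = ⊤ := eq_top_of_cen D hex fun e he heM => by
    have heM' : x * e * x ∉ D.M := fun h => heM (by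
      have := mul_mem (mul_mem hxM h) hxM
      rwa [show x * (x * e * x) * x = x * x * e * (x * x) by group, hx.sq, one_mul, mul_one] at this)
    have h2 := (zmod_two_cases _).resolve_left fun h => heM' (key _ (he.conj' hx) h)
    rw [cen_refl hx he, map_add, map_zmod, h1, (zmod_two_cases _).resolve_left fun h => heM (key e he h),
      smul_eq_mul, mul_one, add_eq_left] at h2
    exact h2
  exact AddMonoidHom.ker_eq_top_iff.1 this

theorem eq_of_cen_eq {x y : P} (hx : IsTv N x) (hy : IsTv N y) (e : cen N x = cen N y) : x = y := by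
  by_contra hne
  obtain ⟨φ, hφ⟩ := exists_hyper_fn D hex
  obtain ⟨v, hv, hv0⟩ := D.exists_fixed
  obtain ⟨k, hk⟩ := tv_exists_notM D hex hx
  set x' := k * x * k⁻¹
  set y' := k * y * k⁻¹
  have hx' : IsTv N x' := hx.conj k
  have hy' : IsTv N y' := hy.conj k
  have e' : cen N y' = cen N x' := by rw [hx.cen_conj, hy.cen_conj, e]
  have hyM : y' ∉ D.M := fun h => hk ((hφ _ hx').2 (e' ▸ (hφ _ hy').1 h))
  have hne' : fn N x' + fn N y' ≠ 0 := fun h0 => hne (by
    have hxy : ∀ n, fn N x' n = fn N y' n := fun n => by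
      have := DFunLike.congr_fun h0 n
      rw [AddMonoidHom.add_apply, AddMonoidHom.zero_apply] at this
      rcases zmod_two_cases (fn N x' n) with a | a <;> rcases zmod_two_cases (fn N y' n) with b | b <;>
        rw [a, b] at this ⊢ <;> revert this <;> decide
    have : x'⁻¹ * y' = 1 := hfaith.out _ fun n => by
      rw [mul_smul, inv_smul_eq_iff, hx'.act, hy'.act, e', hxy]
    have := inv_mul_eq_one.1 this
    exact mul_left_cancel (mul_right_cancel this))
  have hax : Ax (x' * y') (cen N x') (fn N x' + fn N y') :=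
    { c_ne := hx'.ax.c_ne
      gc := by
        rw [AddMonoidHom.add_apply, hx'.ax.gc]
        nth_rewrite 1 [← e']
        rw [hy'.ax.gc, add_zero]
      g_ne := hne'
      act := fun n => by
        rw [mul_smul, hy'.act, hx'.act, map_add, map_zmod, e', hx'.ax.gc, smul_zero, add_zero,
          AddMonoidHom.add_apply, add_smul]
        abel }
  have h1 : x' * y' ∈ D.M := by
    rw [mem_M_iff_fn D hex hv hv0 hax.isTv, hax.fn_eq, AddMonoidHom.add_apply,
      fn_eq_one D hex hv hv0 hx' hk, fn_eq_one D hex hv hv0 hy' hyM]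
    decide
  rw [hφ _ hax.isTv, hax.cen_eq, ← hφ _ hx'] at h1
  exact hk h1

theorem pair_zero_iff {x y : P} (hx : IsTv N x) (hy : IsTv N y) : pair N x y = 0 ↔ x * y = y * x := by
  refine ⟨fun h => ?_, pair_eq_zero_of_commute hx hy⟩
  have e : x * y * x = y := eq_of_cen_eq D hex (hy.conj' hx) hy (by rw [cen_refl hx hy, h, zero_smul, add_zero])
  calc x * y = x * y * x * x := by rw [mul_assoc (x * y), hx.sq, mul_one]
    _ = y * x := by rw [e]

theorem pair_comm {x y : P} (hx : IsTv N x) (hy : IsTv N y) : pair N x y = pair N y x := by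
  have h1 := pair_zero_iff D hex hx hy
  have h2 := pair_zero_iff D hex hy hx
  rcases zmod_two_cases (pair N x y) with a | a <;> rcases zmod_two_cases (pair N y x) with b | b <;>
    first
    | exact absurd ((h2.2 (h1.1 a).symm).symm.trans b) zero_ne_one
    | exact absurd (a.symm.trans (h1.2 (h2.1 b).symm)) one_ne_zero
    | rw [a, b]

/-- The transvections in the Sylow subgroup commute. -/
theorem pair_T {x y : P} (hx : IsTv N x) (hy : IsTv N y) (hxT : x ∈ (D.T : Subgroup P))
    (hyT : y ∈ (D.T : Subgroup P)) : pair N x y = 0 := by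
  refine (zmod_two_cases _).resolve_right fun h1 => ?_
  have h2 : pair N y x = 1 := (pair_comm D hex hx hy).symm.trans h1
  have e : x * y * x = y * x * y := eq_of_cen_eq D hex (hy.conj' hx) (hx.conj' hy) (by
    rw [cen_refl hx hy, cen_refl hy hx, h1, h2, one_smul, one_smul, add_comm])
  have h3 : (x * y) ^ 3 = 1 := by
    rw [pow_succ, pow_two,
      show x * y * (x * y) * (x * y) = (x * y * x) * (y * x * y) by group, ← e, (hy.conj' hx).sq]
  obtain ⟨k, hk⟩ := D.T.isPGroup' ⟨x * y, mul_mem hxT hyT⟩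
  have hk' : (x * y) ^ 2 ^ k = 1 := congrArg Subtype.val hk
  have hco : Nat.Coprime 3 (2 ^ k) := Nat.Coprime.pow_right k (by norm_num)
  have := pow_gcd_eq_one.2 ⟨h3, hk'⟩
  rw [hco, pow_one] at this
  rw [mul_eq_one_iff_eq_inv, hy.inv_eq] at this
  rw [this, pair_self hy] at h1
  exact zero_ne_one h1

/-- A transvection commuting with all those of the Sylow subgroup lies in it. -/
theorem mem_T_of_pair {x : P} (hx : IsTv N x)
    (h : ∀ y, IsTv N y → y ∈ (D.T : Subgroup P) → pair N x y = 0) : x ∈ (D.T : Subgroup P) := by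
  let X : Set P := {y | IsTv N y ∧ y ∈ (D.T : Subgroup P)}
  have hp : IsPGroup 2 (Subgroup.zpowers x) := by
    intro a
    obtain ⟨j, hj⟩ := Subgroup.mem_zpowers_iff.1 a.2
    refine ⟨1, Subtype.ext ?_⟩
    show (a : P) ^ (2 ^ 1) = 1
    rw [← hj, pow_one, ← zpow_natCast, ← zpow_mul, mul_comm, zpow_mul, zpow_natCast, pow_two, hx.sq, one_zpow]
  have hX : IsPGroup 2 (Subgroup.closure X) :=
    D.T.isPGroup'.to_le ((Subgroup.closure_le _).2 fun y hy => hy.2)
  have hn : Subgroup.zpowers x ≤ Subgroup.normalizer (Subgroup.closure X : Set P) := by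
    refine le_trans ?_ (Subgroup.centralizer_le_normalizer _)
    rw [Subgroup.centralizer_closure, Subgroup.zpowers_le, Subgroup.mem_centralizer_iff]
    exact fun y hy => ((pair_zero_iff D hex hx hy.1).1 (h y hy.1 hy.2)).symm
  obtain ⟨S, hS⟩ := (hX.to_sup_of_normal_left' hp hn).exists_le_sylow
  obtain ⟨g, hg⟩ := MulAction.exists_smul_eq P D.T S
  have hsub : insert x X ⊆ (fun y => g * y * g⁻¹) '' X := by
    rintro y hy
    have hyS : y ∈ (S : Subgroup P) := by
      refine hS ?_
      rcases hy with rfl | hy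
      · exact Subgroup.mem_sup_right (Subgroup.mem_zpowers y)
      · exact Subgroup.mem_sup_left (Subgroup.subset_closure hy)
    have hyt : IsTv N y := by
      rcases hy with rfl | hy
      · exact hx
      · exact hy.1
    rw [← hg, Sylow.coe_subgroup_smul, Subgroup.mem_smul_pointwise_iff_exists] at hyS
    obtain ⟨t, ht, e⟩ := hyS
    have e' : g * t * g⁻¹ = y := e
    refine ⟨t, ⟨?_, ht⟩, e'⟩
    have := hyt.conj g⁻¹
    rwa [← e', show g⁻¹ * (g * t * g⁻¹) * g⁻¹⁻¹ = t by group] at this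
  by_contra hxT
  have h1 := Set.ncard_le_ncard hsub (Set.toFinite _)
  rw [Set.ncard_insert_of_notMem (fun h => hxT h.2) (Set.toFinite _)] at h1
  have h2 := Set.ncard_image_le (f := fun y => g * y * g⁻¹) (Set.toFinite X)
  omega

theorem exists_tv_T : ∃ x, IsTv N x ∧ x ∈ (D.T : Subgroup P) := by
  by_contra hne
  push Not at hne
  obtain ⟨x, hx⟩ := hex
  exact hne x hx (mem_T_of_pair D ⟨x, hx⟩ hx fun y hy hyT => absurd hyT (hne y hy))

/-- Outside `M`, exactly one transvection of the Sylow subgroup fails to commute. -/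
theorem exists_nbr {e : P} (he : IsTv N e) (heM : e ∉ D.M) :
    ∃ a, (IsTv N a ∧ a ∈ (D.T : Subgroup P) ∧ pair N e a = 1) ∧
      ∀ b, IsTv N b → b ∈ (D.T : Subgroup P) → pair N e b = 1 → b = a := by
  obtain ⟨a, ha, haT, hea⟩ : ∃ a, IsTv N a ∧ a ∈ (D.T : Subgroup P) ∧ pair N e a = 1 := by
    by_contra hne
    push Not at hne
    exact heM (D.le (mem_T_of_pair D hex he fun y hy hyT =>
      (zmod_two_cases _).resolve_right (hne y hy hyT)))
  refine ⟨a, ⟨ha, haT, hea⟩, fun b hb hbT heb => ?_⟩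
  obtain ⟨v, hv, hv0⟩ := D.exists_fixed
  by_contra hne
  have hae : pair N a e = 1 := (pair_comm D hex ha he).trans hea
  have hbe : pair N b e = 1 := (pair_comm D hex hb he).trans heb
  have hab : pair N a b = 0 := pair_T D hex ha hb haT hbT
  have hba : pair N b a = 0 := pair_T D hex hb ha hbT haT
  set y1 := a * e * a with hy1
  have hy1t : IsTv N y1 := he.conj' ha
  set f := b * y1 * b with hf
  have hft : IsTv N f := hy1t.conj' hb
  have hc1 : cen N y1 = cen N e + cen N a := by rw [hy1, cen_refl ha he, hae, one_smul]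
  have hby : pair N b y1 = 1 := by rw [hy1, pair_refl ha he, hbe, hba, mul_zero, add_zero]
  have hcf : cen N f = cen N e + cen N a + cen N b := by
    rw [hf, cen_refl hb hy1t, hby, one_smul, hc1]
  have hgf : ∀ n, fn N f n = fn N e n + fn N a n + fn N b n := fun n => by
    rw [hf, fn_refl hb hy1t, pair_comm D hex hy1t hb, hby, mul_one, hy1, fn_refl ha he, hea, mul_one]
  have hef : pair N e f = 0 := by
    rw [hf, pair_refl hb hy1t, hby, one_mul, hy1, pair_refl ha he, hae, one_mul, pair_self he, hea, heb]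
    decide
  set q := e * f with hq
  have hqact : ∀ n, q • n = n + fn N f n • cen N f + fn N e n • cen N e := fun n => by
    rw [hq, mul_smul, he.act, hft.act, map_add, map_zmod, show fn N e (cen N f) = 0 from hef, smul_zero, add_zero]
  have hqX : ∀ x, IsTv N x → x ∈ (D.T : Subgroup P) → q * x * q⁻¹ ∈ (D.T : Subgroup P) := by
    intro x hx hxT
    refine mem_T_of_pair D hex (hx.conj q) fun y hy hyT => ?_
    have hxa : fn N a (cen N x) = 0 := pair_T D hex ha hx haT hxT
    have hxb : fn N b (cen N x) = 0 := pair_T D hex hb hx hbT hxT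
    have hyx : fn N y (cen N x) = 0 := pair_T D hex hy hx hyT hxT
    have hya : fn N y (cen N a) = 0 := pair_T D hex hy ha hyT haT
    have hyb : fn N y (cen N b) = 0 := pair_T D hex hy hb hyT hbT
    rw [pair_comm D hex (hx.conj q) hy, pair, hx.cen_conj, hqact, hgf, hxa, hxb, add_zero, add_zero, hcf,
      smul_add, smul_add, map_add, map_add, map_add, map_add, map_zmod, map_zmod, map_zmod, hyx, hya, hyb,
      smul_zero, add_zero, add_zero, zero_add, ← two_nsmul, two_nsmul]
    exact add_self_two _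
  let J := Subgroup.closure {x : P | IsTv N x ∧ x ∈ (D.T : Subgroup P)}
  have hJT : J ≤ (D.T : Subgroup P) := (Subgroup.closure_le _).2 fun x hx => hx.2
  have hnorm : ∀ k, (∀ x, IsTv N x → x ∈ (D.T : Subgroup P) → k * x * k⁻¹ ∈ (D.T : Subgroup P)) →
      k ∈ Subgroup.normalizer (J : Set P) := fun k hk => by
    refine mem_normalizer_iff_cj.2 (Subgroup.eq_of_le_of_card_ge ?_ (card_cj k J).ge)
    rw [cj, MonoidHom.map_closure, Subgroup.closure_le]
    rintro _ ⟨x, ⟨hx, hxT⟩, rfl⟩
    exact Subgroup.subset_closure ⟨hx.conj k, hk x hx hxT⟩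
  have hqM : q ∈ D.M := by
    refine D.le_M (X := Subgroup.normalizer (J : Set P)) (fun e => ?_)
      (fun t ht => hnorm t fun x _ hxT => mul_mem (mul_mem ht hxT) (inv_mem ht)) (hnorm q hqX)
    have hn : J.Normal := Subgroup.normalizer_eq_top_iff.1 e
    have := CfsgLib.LocalEven.le_pCore hn (D.T.isPGroup'.to_le hJT)
    rw [D.core] at this
    exact ha.ne_one (Subgroup.mem_bot.1 (this (Subgroup.subset_closure ⟨ha, haT⟩)))
  have h1 := fn_smul_M D hex hv hv0 hqM
  rw [hqact, hgf, fn_eq_one D hex hv hv0 he heM, (mem_M_iff_fn D hex hv hv0 ha).1 (D.le haT),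
    (mem_M_iff_fn D hex hv hv0 hb).1 (D.le hbT), add_zero, add_zero, one_smul, one_smul, hcf] at h1
  have h2 : cen N a + cen N b = 0 := by
    rw [add_assoc, add_eq_left] at h1
    rwa [show cen N e + cen N a + cen N b + cen N e = (cen N e + cen N e) + (cen N a + cen N b) by abel,
      add_self_two, zero_add] at h1
  refine hne (eq_of_cen_eq D hex hb ha ?_)
  rw [← sub_eq_zero, sub_eq_add_neg, neg_eq_of_add_eq_zero_left (add_self_two (cen N a)), add_comm, h2]

end Model

end CfsgLib.LocalEven.FFPMin
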