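import Cfsg.Agent.Lib.LocalEven.FFPMin.TransvectionPerm

/-!
An elementary abelian offender in the Sylow subgroup is generated by transvections.
-/

set_option autoImplicit false
set_option linter.unusedSectionVars false

namespace CfsgLib.LocalEven.FFPMin

open CfsgLib.LocalEven.OffenderSL2 (fixP)
open scoped _root_.Classical

theorem two_mul_le_two_pow {o : ℕ} (ho : 1 ≤ o) : 2 * o ≤ 2 ^ o ∧ (3 ≤ o → 2 * o < 2 ^ o) := by
  obtain ⟨m, rfl⟩ : ∃ m, o = m + 1 := ⟨o - 1, by omega⟩
  rw [pow_succ]
  have h1 := @Nat.lt_two_pow_self m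
  refine ⟨by omega, fun h3 => ?_⟩
  obtain ⟨k, rfl⟩ : ∃ k, m = k + 1 := ⟨m - 1, by omega⟩
  have h2 := @Nat.lt_two_pow_self k
  rw [pow_succ] at h1 ⊢
  omega

variable {P : Type*} [Group P] [Finite P] {N : Type*} [AddCommGroup N] [DistribMulAction P N] [Finite N]
  [Module (ZMod 2) N] [hfaith : Fact (∀ g : P, (∀ n : N, g • n = n) → g = 1)]
variable (D : Model 2 P N) (hex : ∃ x : P, IsTv N x)
include hex

theorem fn_inv_conj {b y : P} (hy : IsTv N y) (n : N) : fn N (b⁻¹ * y * b) n = fn N y (b • n) := by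
  have := hy.fn_conj b⁻¹ n
  rwa [inv_inv] at this

theorem eq_of_fn_outT {n m : N} (h : ∀ e ∈ outT D, fn N e n = fn N e m) : n = m :=
  sub_eq_zero.1 (eq_zero_of_fn_outT D hex fun e he => by rw [map_sub, h e he, sub_self])

/-- An element of the Sylow subgroup exchanging two outside transvections and fixing the others. -/
theorem isTv_of_swap {b e f : P} (he : e ∈ outT D) (hf : f ∈ outT D) (hne : e ≠ f)
    (h1 : b⁻¹ * e * b = f) (h2 : b⁻¹ * f * b = e)
    (h3 : ∀ z ∈ outT D, z ≠ e → z ≠ f → b⁻¹ * z * b = z) :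
    Ax b (dlt D e + dlt D f) (fn N e + fn N f) := by
  have hc : ∀ z ∈ outT D, fn N z (dlt D e + dlt D f) = (if z = e then 1 else 0) + if z = f then 1 else 0 :=
    fun z hz => by rw [map_add, fn_dlt D hex he hz, fn_dlt D hex hf hz]
  refine ⟨fun h => ?_, ?_, fun h => ?_, fun n => eq_of_fn_outT D hex fun z hz => ?_⟩
  · have := hc e he
    rw [h, map_zero, if_pos rfl, if_neg hne, add_zero] at this
    exact zero_ne_one this
  · rw [AddMonoidHom.add_apply, hc e he, hc f hf, if_pos rfl, if_pos rfl, if_neg hne, if_neg hne.symm]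
    decide
  · have := DFunLike.congr_fun h (dlt D e)
    rw [AddMonoidHom.add_apply, AddMonoidHom.zero_apply, fn_dlt D hex he he, fn_dlt D hex he hf, if_pos rfl,
      if_neg hne.symm, add_zero] at this
    exact one_ne_zero this
  · rw [← fn_inv_conj hex ((mem_outT D).1 hz).1, map_add, map_zmod, hc z hz, smul_eq_mul,
      AddMonoidHom.add_apply]
    rcases eq_or_ne z e with rfl | hze
    · rw [h1, if_pos rfl, if_neg hne, add_zero, mul_one, ← add_assoc, add_self_two, zero_add]
    rcases eq_or_ne z f with rfl | hzf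
    · rw [h2, if_pos rfl, if_neg hze, zero_add, mul_one, add_comm (fn N e n), ← add_assoc, add_self_two,
        zero_add]
    · rw [h3 z hz hze hzf, if_neg hze, if_neg hzf, add_zero, mul_zero, add_zero]

theorem offender_tv {B : Subgroup P} (hBT : B ≤ (D.T : Subgroup P)) (hB : IsOff N 2 B) :
    Nat.card N = Nat.card B * Nat.card (fixP N B) ∧ (∃ a, IsTv N a ∧ a ∈ B) ∧
      B ≤ Subgroup.closure {a | IsTv N a ∧ a ∈ B} := by
  have hmem : ∀ (b : ↥B) (y : ↥(outT D)), (b : P) * y * (b : P)⁻¹ ∈ outT D := fun b y =>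
    conj_mem_outT D hex (D.le (hBT b.2)) y.2
  let : MulAction ↥B ↥(outT D) :=
    { smul := fun b y => ⟨(b : P) * y * (b : P)⁻¹, hmem b y⟩
      one_smul := fun y => Subtype.ext (by
        show ((1 : ↥B) : P) * y * ((1 : ↥B) : P)⁻¹ = y
        simp)
      mul_smul := fun s t y => Subtype.ext (by
        show ((s * t : ↥B) : P) * y * ((s * t : ↥B) : P)⁻¹ = (s : P) * ((t : P) * y * (t : P)⁻¹) * (s : P)⁻¹
        rw [Subgroup.coe_mul]; group) }
  have hsm : ∀ (b : ↥B) (y : ↥(outT D)), ((b • y : ↥(outT D)) : P) = (b : P) * y * (b : P)⁻¹ := fun b y => rfl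
  let Ω := MulAction.orbitRel.Quotient ↥B ↥(outT D)
  let π : ↥(outT D) → Ω := Quotient.mk''
  have hπ : ∀ (b : ↥B) (y : ↥(outT D)), π (b • y) = π y := fun b y => Quotient.sound' ⟨b, rfl⟩
  have hrel : ∀ y : ↥(outT D), ∃ b : ↥B, b • (π y).out = y := fun y => by
    obtain ⟨b, hb⟩ := (Quotient.exact' ((Quotient.out_eq' (π y)).symm) : MulAction.orbitRel ↥B ↥(outT D) y (π y).out)
    exact ⟨b, hb⟩
  have : Fintype Ω := Fintype.ofFinite Ω
  let o : Ω → ℕ := fun ω => Nat.card {y : ↥(outT D) // π y = ω}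
  have ho1 : ∀ ω, 1 ≤ o ω := fun ω => by
    have : Nonempty {y : ↥(outT D) // π y = ω} := ⟨⟨ω.out, Quotient.out_eq' ω⟩⟩
    exact Nat.card_pos
  have hN : Nat.card N = 2 ^ ∑ ω, o ω := by
    have hsum : Nat.card ↥(outT D) = ∑ ω, o ω := by
      rw [Nat.card_congr (Equiv.sigmaFiberEquiv π).symm, Nat.card_sigma]
    have hbij : Function.Bijective fun (n : N) (y : ↥(outT D)) => fn N (y : P) n := by
      refine ⟨fun n m h => eq_of_fn_outT D hex fun e he => congrFun h ⟨e, he⟩, fun v =>
        ⟨∑ e : ↥(outT D), v e • dlt D (e : P), funext fun y => ?_⟩⟩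
      show fn N (y : P) _ = v y
      rw [map_sum, Finset.sum_eq_single y]
      · rw [map_zmod, fn_dlt D hex y.2 y.2, if_pos rfl, smul_eq_mul, mul_one]
      · intro b _ hne
        rw [map_zmod, fn_dlt D hex b.2 y.2, if_neg (fun h => hne (Subtype.ext h.symm)), smul_zero]
      · exact fun h => absurd (Finset.mem_univ y) h
    rw [Nat.card_congr (Equiv.ofBijective _ hbij), Nat.card_fun, Nat.card_zmod, hsum]
  have hconst : ∀ n ∈ fixP N B, ∀ (b : ↥B) (y : ↥(outT D)), fn N ((b • y : ↥(outT D)) : P) n = fn N (y : P) n := by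
    intro n hn b y
    rw [hsm, ((mem_outT D).1 y.2).1.fn_conj, hn _ (inv_mem b.2)]
  have hF : Nat.card (fixP N B) = 2 ^ Fintype.card Ω := by
    have hbij : Function.Bijective fun (n : fixP N B) (ω : Ω) => fn N ((ω.out : ↥(outT D)) : P) n := by
      refine ⟨fun n m h => Subtype.ext (eq_of_fn_outT D hex fun e he => ?_), fun v => ?_⟩
      · obtain ⟨b, hb⟩ := hrel ⟨e, he⟩
        have h1 := hconst n n.2 b (π ⟨e, he⟩).out
        have h2 := hconst m m.2 b (π ⟨e, he⟩).out
        rw [hb] at h1 h2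
        rw [h1, h2]
        exact congrFun h (π ⟨e, he⟩)
      · set n := ∑ e : ↥(outT D), v (π e) • dlt D (e : P) with hn
        have hfn : ∀ y : ↥(outT D), fn N (y : P) n = v (π y) := by
          intro y
          rw [hn, map_sum, Finset.sum_eq_single y]
          · rw [map_zmod, fn_dlt D hex y.2 y.2, if_pos rfl, smul_eq_mul, mul_one]
          · intro b _ hne
            rw [map_zmod, fn_dlt D hex b.2 y.2, if_neg (fun h => hne (Subtype.ext h.symm)), smul_zero]
          · exact fun h => absurd (Finset.mem_univ y) h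
        refine ⟨⟨n, fun b hb => eq_of_fn_outT D hex fun z hz => ?_⟩, funext fun ω => ?_⟩
        · rw [← fn_inv_conj hex ((mem_outT D).1 hz).1]
          have e1 : b⁻¹ * z * b = (((⟨b, hb⟩ : ↥B)⁻¹ • (⟨z, hz⟩ : ↥(outT D)) : ↥(outT D)) : P) := by
            rw [hsm]; simp
          rw [e1, hfn, hπ, ← hfn]
        · show fn N ((ω.out : ↥(outT D)) : P) n = v ω
          rw [hfn]
          exact congrArg v (Quotient.out_eq' ω)
    rw [Nat.card_congr (Equiv.ofBijective _ hbij), Nat.card_fun, Nat.card_zmod, Nat.card_eq_fintype_card]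
  -- the regular action on each orbit
  let f : ↥B → ((ω : Ω) → {y : ↥(outT D) // π y = ω}) := fun b ω =>
    ⟨b • ω.out, by rw [hπ]; exact Quotient.out_eq' ω⟩
  have hcomm : ∀ (b c : ↥B) (y : ↥(outT D)), b • c • y = c • b • y := fun b c y => by
    rw [← mul_smul, ← mul_smul]
    exact congrArg (· • y) (Subtype.ext (hB.comm _ b.2 _ c.2))
  have hact : ∀ (b c : ↥B), f b = f c → ∀ y : ↥(outT D), b • y = c • y := by
    intro b c h y
    obtain ⟨d, hd⟩ := hrel y
    have h1 : b • (π y).out = c • (π y).out := congrArg Subtype.val (congrFun h (π y))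
    rw [← hd, hcomm b d, hcomm c d, h1]
  have hfaith' : ∀ b c : ↥B, (∀ y : ↥(outT D), b • y = c • y) → b = c := by
    intro b c h
    refine inv_injective (Subtype.ext ?_)
    have key : ∀ n : N, (b : P)⁻¹ • n = (c : P)⁻¹ • n := fun n => eq_of_fn_outT D hex fun z hz => by
      rw [← ((mem_outT D).1 hz).1.fn_conj, ← ((mem_outT D).1 hz).1.fn_conj]
      have h1 : ((b • (⟨z, hz⟩ : ↥(outT D)) : ↥(outT D)) : P) = ((c • (⟨z, hz⟩ : ↥(outT D)) : ↥(outT D)) : P) :=
        congrArg Subtype.val (h ⟨z, hz⟩)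
      rw [hsm, hsm] at h1
      rw [h1]
    have : ((c : P)⁻¹)⁻¹ * (b : P)⁻¹ = 1 := hfaith.out _ fun n => by
      rw [mul_smul, key, inv_smul_smul]
    rw [Subgroup.coe_inv, Subgroup.coe_inv]
    exact (inv_mul_eq_one.1 this).symm
  have hinj : Function.Injective f := fun b c h => hfaith' b c (hact b c h)
  have hle : Nat.card B ≤ ∏ ω, o ω := by
    rw [← Nat.card_pi]
    exact Nat.card_le_card_of_injective f hinj
  have hineq : 2 ^ ∑ ω, o ω ≤ Nat.card B * 2 ^ Fintype.card Ω := by
    rw [← hN, ← hF]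
    exact hB.ineq
  have hprod : (∏ ω, o ω) * 2 ^ Fintype.card Ω = ∏ ω, 2 * o ω := by
    rw [Finset.prod_mul_distrib, Finset.prod_const, Finset.card_univ, mul_comm]
  have hle2 : ∏ ω, 2 ^ o ω ≤ ∏ ω, 2 * o ω := by
    rw [Finset.prod_pow_eq_pow_sum, ← hprod]
    exact hineq.trans (Nat.mul_le_mul_right _ hle)
  have ho2 : ∀ ω, o ω ≤ 2 := by
    intro ω
    by_contra h
    refine absurd hle2 (not_le.2 (Finset.prod_lt_prod (fun i _ => by have := ho1 i; omega)
      (fun i _ => (two_mul_le_two_pow (ho1 i)).1) ⟨ω, Finset.mem_univ _, ?_⟩))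
    exact (two_mul_le_two_pow (ho1 ω)).2 (by omega)
  have hoo : ∀ ω, 2 * o ω = 2 ^ o ω := fun ω => by
    have h1 := ho1 ω
    have h2 := ho2 ω
    interval_cases o ω <;> norm_num
  have hBc : Nat.card B = ∏ ω, o ω := by
    refine le_antisymm hle (Nat.le_of_mul_le_mul_right ?_ (Nat.two_pow_pos (Fintype.card Ω)))
    rw [hprod, Finset.prod_congr rfl (fun ω _ => hoo ω), Finset.prod_pow_eq_pow_sum]
    exact hineq
  have hbij : Function.Bijective f := hinj.bijective_of_nat_card_le (by rw [hBc, Nat.card_pi])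
  refine ⟨?_, ?_⟩
  · rw [hN, hBc, hF, hprod, Finset.prod_congr rfl (fun ω _ => hoo ω), Finset.prod_pow_eq_pow_sum]
  -- an element moving exactly one orbit
  have hswap : ∀ ω : Ω, ∀ y : ↥(outT D), π y = ω → y ≠ ω.out →
      ∃ s : ↥B, IsTv N (s : P) ∧ s • ω.out = y ∧ ∀ ω', ω' ≠ ω → s • ω'.out = ω'.out := by
    intro ω y hy hne
    obtain ⟨s, hs⟩ := hbij.2 (fun ω' => if h : ω' = ω then ⟨y, h ▸ hy⟩ else ⟨ω'.out, Quotient.out_eq' ω'⟩)
    have hs1 : s • ω.out = y := by
      have := congrArg Subtype.val (congrFun hs ω)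
      simpa [f] using this
    have hs2 : ∀ ω', ω' ≠ ω → s • ω'.out = ω'.out := fun ω' h => by
      have := congrArg Subtype.val (congrFun hs ω')
      simpa [f, h] using this
    have hall : ∀ z : ↥(outT D), z = ω.out ∨ z = y ∨ π z ≠ ω := by
      intro z
      by_contra h
      push Not at h
      obtain ⟨hz1, hz2, hz3⟩ := h
      have h3 : 3 ≤ o ω := by
        refine le_trans (le_of_eq ?_) (Nat.card_le_card_of_injective
          (fun i : Fin 3 => (![⟨ω.out, Quotient.out_eq' ω⟩, ⟨y, hy⟩, ⟨z, hz3⟩] :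
            Fin 3 → {y : ↥(outT D) // π y = ω}) i) ?_)
        · simp
        · intro i j hij
          fin_cases i <;> fin_cases j <;>
            first
            | rfl
            | (exfalso; simp [Subtype.mk.injEq] at hij; first
              | exact hne hij.symm | exact hne hij | exact hz1 hij | exact hz1 hij.symm
              | exact hz2 hij | exact hz2 hij.symm)
      have := ho2 ω
      omega
    have hfixother : ∀ z : ↥(outT D), π z ≠ ω → s • z = z := fun z hz => by
      obtain ⟨d, hd⟩ := hrel z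
      rw [← hd, hcomm s d, hs2 _ hz]
    have hs3 : s • y = ω.out := by
      rcases hall (s • y) with h | h | h
      · exact h
      · exact absurd (MulAction.injective s (hs1.trans h.symm)).symm hne
      · exact absurd (by rw [hπ, hy]) h
    have hinv : ∀ z w : ↥(outT D), s • w = z → (s : P)⁻¹ * (z : P) * s = w := fun z w h => by
      have h' : (s : P) * w * (s : P)⁻¹ = z := by rw [← hsm, h]
      rw [← h']; group
    refine ⟨s, (isTv_of_swap D hex (ω.out).2 y.2 (fun h => hne (Subtype.ext h).symm)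
      (hinv _ _ hs3) (hinv _ _ hs1) fun z hz hze hzf => ?_).isTv, hs1, hs2⟩
    rcases hall ⟨z, hz⟩ with h | h | h
    · exact absurd (congrArg Subtype.val h) hze
    · exact absurd (congrArg Subtype.val h) hzf
    · exact hinv ⟨z, hz⟩ ⟨z, hz⟩ (hfixother _ h)
  refine ⟨?_, ?_⟩
  · by_contra hne
    refine hB.ne_bot ((Subgroup.eq_bot_iff_forall _).2 fun b hb => ?_)
    have : (⟨b, hb⟩ : ↥B) = 1 := hinj (funext fun ω => Subtype.ext (by
      show (⟨b, hb⟩ : ↥B) • ω.out = (1 : ↥B) • ω.out
      rw [one_smul]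
      by_contra h
      obtain ⟨s, hs, -⟩ := hswap ω _ (by rw [hπ]; exact Quotient.out_eq' ω) h
      exact hne ⟨s, hs, s.2⟩))
    exact congrArg Subtype.val this
  · intro b hb
    suffices ∀ (k : ℕ) (b : ↥B), (Finset.univ.filter fun ω : Ω => b • ω.out ≠ ω.out).card ≤ k →
        (b : P) ∈ Subgroup.closure {a | IsTv N a ∧ a ∈ B} from this _ ⟨b, hb⟩ le_rfl
    intro k
    induction k with
    | zero =>
      intro b h
      have : b = 1 := hinj (funext fun ω => Subtype.ext (by
        show b • ω.out = (1 : ↥B) • ω.out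
        rw [one_smul]
        by_contra h'
        have h2 := Finset.card_eq_zero.1 (Nat.le_zero.1 h)
        exact Finset.notMem_empty ω (h2 ▸ Finset.mem_filter.2 ⟨Finset.mem_univ _, h'⟩)))
      rw [this]
      exact one_mem _
    | succ k ih =>
      intro b h
      by_cases h0 : ∃ ω : Ω, b • ω.out ≠ ω.out
      · obtain ⟨ω, hω⟩ := h0
        obtain ⟨s, hs, hs1, hs2⟩ := hswap ω _ (by rw [hπ]; exact Quotient.out_eq' ω) hω
        have hb' := ih (s⁻¹ * b) ?_
        · have := mul_mem (Subgroup.subset_closure (k := {a | IsTv N a ∧ a ∈ B}) ⟨hs, s.2⟩) hb'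
          rwa [Subgroup.coe_mul, Subgroup.coe_inv, mul_inv_cancel_left] at this
        · have hsub : (Finset.univ.filter fun ω' : Ω => (s⁻¹ * b) • ω'.out ≠ ω'.out) ⊆
              (Finset.univ.filter fun ω' : Ω => b • ω'.out ≠ ω'.out).erase ω := by
            intro ω' h'
            rw [Finset.mem_filter, mul_smul, ne_eq, inv_smul_eq_iff] at h'
            rw [Finset.mem_erase, Finset.mem_filter]
            refine ⟨fun e => h'.2 (by rw [e, hs1]), Finset.mem_univ _, fun e => h'.2 ?_⟩
            rw [e]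
            rcases eq_or_ne ω' ω with rfl | hne
            · exact absurd e hω
            · exact (hs2 _ hne).symm
          have := Finset.card_le_card hsub
          have hmem : ω ∈ Finset.univ.filter fun ω' : Ω => b • ω'.out ≠ ω'.out :=
            Finset.mem_filter.2 ⟨Finset.mem_univ _, hω⟩
          rw [Finset.card_erase_of_mem hmem] at this
          omega
      · refine ih b ?_
        rw [Finset.card_eq_zero.2 (Finset.filter_eq_empty_iff.2 fun ω _ => fun h' => h0 ⟨ω, h'⟩)]
        omega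

/-- The fixed points of a transvection are generated by translates of those of an offender. -/
theorem fix_span {B : Subgroup P} (hBX : B ≤ Subgroup.closure {a | IsTv N a ∧ a ∈ (D.T : Subgroup P)})
    {a : P} (ha : IsTv N a) (haT : a ∈ (D.T : Subgroup P)) :
    fixP N (Subgroup.zpowers a) ≤ AddSubgroup.closure
      {m | ∃ g, cj g (Subgroup.zpowers a) = Subgroup.zpowers a ∧ ∃ n ∈ fixP N B, g • n = m} := by
  set S := AddSubgroup.closure
    {m | ∃ g, cj g (Subgroup.zpowers a) = Subgroup.zpowers a ∧ ∃ n ∈ fixP N B, g • n = m}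
  have hcX : ∀ b, IsTv N b → b ∈ (D.T : Subgroup P) → cen N b ∈ fixP N B := by
    intro b hb hbT g hg
    have : Subgroup.closure {a | IsTv N a ∧ a ∈ (D.T : Subgroup P)} ≤ MulAction.stabilizer P (cen N b) :=
      (Subgroup.closure_le _).2 fun c hc => hc.1.fix_iff.2 (pair_T D hex hc.1 hb hc.2 hbT)
    exact this (hBX hg)
  have hsub : ∀ n ∈ fixP N B, n ∈ S := fun n hn =>
    AddSubgroup.subset_closure ⟨1, cj_one _, n, hn, one_smul _ _⟩
  have hout : ∀ y ∈ outT D, nbr D hex y ≠ a → cen N y ∈ S := by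
    intro y hy hya
    obtain ⟨hyt, -⟩ := (mem_outT D).1 hy
    obtain ⟨⟨hb, hbT, hyb⟩, -⟩ := nbr_spec D hex hy
    set b := nbr D hex y
    set h := y * b * y
    have hh : IsTv N h := hb.conj' hyt
    have hha : pair N h a = 0 := by
      rw [pair_comm D hex hh ha, pair_refl hyt hb, pair_T D hex ha hb haT hbT, pair_comm D hex ha hyt,
        pair_nbr D hex hy ha haT, if_neg (Ne.symm hya), mul_zero, add_zero]
    have hc : h * a * h⁻¹ = a := by
      rw [(pair_zero_iff D hex hh ha).1 hha, mul_inv_cancel_right]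
    have hcj : cj h (Subgroup.zpowers a) = Subgroup.zpowers a := by
      rw [cj, MonoidHom.map_zpowers]
      exact congrArg Subgroup.zpowers hc
    have e : h • cen N b = cen N y := by
      rw [hh.act, show fn N h (cen N b) = 1 from by
        show pair N h b = 1
        rw [pair_comm D hex hh hb, pair_refl hyt hb, pair_self hb, pair_comm D hex hb hyt, hyb]
        decide, one_smul, cen_refl hyt hb, hyb, one_smul, ← add_assoc, add_self_two, zero_add]
    exact e ▸ AddSubgroup.subset_closure ⟨h, hcj, cen N b, hcX b hb hbT, rfl⟩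
  obtain ⟨e, he, hea⟩ := exists_nbr_eq D hex ha haT
  set f := twin D hex e
  have hfo : f ∈ outT D := twin_mem D hex he
  have hnb : ∀ y ∈ outT D, nbr D hex y = a → y = e ∨ y = f := fun y hy h =>
    eq_or_twin D hex he hy (h.trans hea.symm)
  have hef : cen N e + cen N f ∈ S := by
    rw [cen_twin D hex he, hea, ← add_assoc, add_self_two, zero_add]
    exact hsub _ (hcX a ha haT)
  have hsum : ∀ y ∈ outT D, ∑ x ∈ cls D y, cen N x ∈ S := by
    intro y hy
    by_cases hey : e ∈ cls D y
    · have hfy : f ∈ (cls D y).erase e :=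
        Finset.mem_erase.2 ⟨twin_ne D hex he, twin_cls D hex hy hey⟩
      rw [← Finset.add_sum_erase _ _ hey, ← Finset.add_sum_erase _ _ hfy, ← add_assoc]
      refine add_mem hef (sum_mem fun x hx => hout x ?_ fun h => ?_)
      · exact ((mem_cls D hex).1 (Finset.mem_erase.1 (Finset.mem_erase.1 hx).2).2).1
      · obtain ⟨hxf, hx2⟩ := Finset.mem_erase.1 hx
        rcases hnb x ((mem_cls D hex).1 (Finset.mem_erase.1 hx2).2).1 h with rfl | rfl
        · exact (Finset.mem_erase.1 hx2).1 rfl
        · exact hxf rfl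
    · refine sum_mem fun x hx => hout x ((mem_cls D hex).1 hx).1 fun h => hey ?_
      rcases hnb x ((mem_cls D hex).1 hx).1 h with rfl | rfl
      · exact hx
      · have := twin_cls D hex hy hx
        rwa [twin_twin D hex he] at this
  intro n hn
  have hne : fn N e n = fn N f n := by
    have h1 : a • n = n := hn a (Subgroup.mem_zpowers a)
    have h2 : fn N a n = 0 := ha.fix_iff.1 h1
    obtain ⟨het, -⟩ := (mem_outT D).1 he
    show fn N e n = fn N (nbr D hex e * e * nbr D hex e) n
    rw [hea, fn_refl ha het, h2, zero_mul, add_zero]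
  have hfe : f ∈ (outT D).erase e := Finset.mem_erase.2 ⟨twin_ne D hex he, hfo⟩
  rw [← sum_dlt D hex n, ← Finset.add_sum_erase _ _ he, ← Finset.add_sum_erase _ _ hfe, ← add_assoc]
  refine add_mem ?_ (sum_mem fun y hy => ?_)
  · rw [← hne, ← smul_add]
    have h1 : dlt D e + dlt D f = cen N e + cen N f := by
      rw [dlt, dlt, cls_eq D hex he (twin_mem_cls D hex he), add_add_add_comm, add_self_two, add_zero]
    rcases zmod_two_cases (fn N e n) with z | z <;> rw [z]
    · rw [zero_smul]; exact zero_mem _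
    · rw [one_smul, h1]; exact hef
  · obtain ⟨hyf, hy2⟩ := Finset.mem_erase.1 hy
    obtain ⟨hye, hyo⟩ := Finset.mem_erase.1 hy2
    rcases zmod_two_cases (fn N y n) with z | z <;> rw [z]
    · rw [zero_smul]; exact zero_mem _
    · rw [one_smul, dlt]
      exact add_mem (hout y hyo fun h => (hnb y hyo h).elim hye hyf) (hsum y hyo)

end CfsgLib.LocalEven.FFPMin
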