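import Cfsg.Agent.Lib.LocalEven.FFPMin.Transvection

/-!
The transvections outside the maximal subgroup fall into classes, each generating a symmetric group
on the even weight permutation module.
-/

set_option autoImplicit false
set_option linter.unusedSectionVars false

namespace CfsgLib.LocalEven.FFPMin

open CfsgLib.LocalEven.OffenderSL2 (fixP)
open scoped _root_.Classical

variable {P : Type*} [Group P] [Finite P] {N : Type*} [AddCommGroup N] [DistribMulAction P N] [Finite N]
  [Module (ZMod 2) N] [hfaith : Fact (∀ g : P, (∀ n : N, g • n = n) → g = 1)]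

theorem pair_conj {x y : P} (hx : IsTv N x) (hy : IsTv N y) (k : P) :
    pair N (k * x * k⁻¹) (k * y * k⁻¹) = pair N x y := by
  rw [pair, pair, hy.cen_conj, hx.fn_conj, inv_smul_smul]

/-- The fixed points of a group generated by transvections. -/
theorem mem_fix_closure {S : Set P} (hS : ∀ x ∈ S, IsTv N x) {n : N} :
    n ∈ fixP N (Subgroup.closure S) ↔ ∀ x ∈ S, fn N x n = 0 := by
  refine ⟨fun h x hx => (hS x hx).fix_iff.1 (h x (Subgroup.subset_closure hx)), fun h g hg => ?_⟩
  have : Subgroup.closure S ≤ MulAction.stabilizer P n :=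
    (Subgroup.closure_le _).2 fun x hx => (hS x hx).fix_iff.2 (h x hx)
  exact this hg

theorem cj_closure (k : P) (S : Set P) :
    cj k (Subgroup.closure S) = Subgroup.closure ((fun x => k * x * k⁻¹) '' S) := by
  rw [cj, MonoidHom.map_closure]
  rfl

variable (D : Model 2 P N) (hex : ∃ x : P, IsTv N x)

/-- The transvections outside `M`. -/
noncomputable def outT : Finset P := (Set.toFinite {e : P | IsTv N e ∧ e ∉ D.M}).toFinset

theorem mem_outT {e : P} : e ∈ outT D ↔ IsTv N e ∧ e ∉ D.M := by simp [outT]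

/-- The class of an outside transvection. -/
noncomputable def cls (e : P) : Finset P := (outT D).filter fun f => f = e ∨ pair N e f = 1

include hex

/-- The partner in the Sylow subgroup. -/
noncomputable def nbr (e : P) : P :=
  if h : IsTv N e ∧ e ∉ D.M then (exists_nbr D hex h.1 h.2).choose else 1

theorem nbr_spec {e : P} (he : e ∈ outT D) :
    (IsTv N (nbr D hex e) ∧ nbr D hex e ∈ (D.T : Subgroup P) ∧ pair N e (nbr D hex e) = 1) ∧
      ∀ b, IsTv N b → b ∈ (D.T : Subgroup P) → pair N e b = 1 → b = nbr D hex e := by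
  rw [nbr, dif_pos ((mem_outT D).1 he)]
  exact (exists_nbr D hex ((mem_outT D).1 he).1 ((mem_outT D).1 he).2).choose_spec

theorem pair_nbr {e : P} (he : e ∈ outT D) {a : P} (ha : IsTv N a) (haT : a ∈ (D.T : Subgroup P)) :
    pair N e a = if a = nbr D hex e then 1 else 0 := by
  obtain ⟨⟨-, -, h1⟩, h2⟩ := nbr_spec D hex he
  split_ifs with h
  · rw [h, h1]
  · exact (zmod_two_cases _).resolve_right fun h' => h (h2 a ha haT h')

theorem nbr_ne {e : P} (he : e ∈ outT D) : nbr D hex e ≠ e := fun h =>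
  ((mem_outT D).1 he).2 (D.le (h ▸ (nbr_spec D hex he).1.2.1))

/-- The other transvection with the same partner. -/
noncomputable def twin (e : P) : P := nbr D hex e * e * nbr D hex e

theorem twin_tv {e : P} (he : e ∈ outT D) : IsTv N (twin D hex e) :=
  ((mem_outT D).1 he).1.conj' (nbr_spec D hex he).1.1

theorem twin_mem {e : P} (he : e ∈ outT D) : twin D hex e ∈ outT D := by
  obtain ⟨⟨ha, haT, -⟩, -⟩ := nbr_spec D hex he
  refine (mem_outT D).2 ⟨twin_tv D hex he, fun h => ((mem_outT D).1 he).2 ?_⟩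
  have := mul_mem (mul_mem (D.le haT) h) (D.le haT)
  rwa [twin, show nbr D hex e * (nbr D hex e * e * nbr D hex e) * nbr D hex e =
    nbr D hex e * nbr D hex e * e * (nbr D hex e * nbr D hex e) by group, ha.sq, one_mul, mul_one] at this

theorem pair_twin {e : P} (he : e ∈ outT D) : pair N e (twin D hex e) = 1 := by
  obtain ⟨⟨ha, -, hea⟩, -⟩ := nbr_spec D hex he
  have het := ((mem_outT D).1 he).1
  rw [twin, pair_refl ha het, pair_self het, pair_comm D hex ha het, hea]
  decide

theorem cen_twin {e : P} (he : e ∈ outT D) :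
    cen N (twin D hex e) = cen N e + cen N (nbr D hex e) := by
  obtain ⟨⟨ha, -, hea⟩, -⟩ := nbr_spec D hex he
  have het := ((mem_outT D).1 he).1
  rw [twin, cen_refl ha het, pair_comm D hex ha het, hea, one_smul]

theorem nbr_twin {e : P} (he : e ∈ outT D) : nbr D hex (twin D hex e) = nbr D hex e := by
  obtain ⟨⟨ha, haT, hea⟩, -⟩ := nbr_spec D hex he
  have het := ((mem_outT D).1 he).1
  refine ((nbr_spec D hex (twin_mem D hex he)).2 _ ha haT ?_).symm
  rw [pair_comm D hex (twin_tv D hex he) ha, pair, cen_twin D hex he, map_add, ha.ax.gc, add_zero]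
  exact (pair_comm D hex ha het).trans hea

theorem twin_twin {e : P} (he : e ∈ outT D) : twin D hex (twin D hex e) = e := by
  obtain ⟨⟨ha, -, -⟩, -⟩ := nbr_spec D hex he
  rw [twin, nbr_twin D hex he, twin, show nbr D hex e * (nbr D hex e * e * nbr D hex e) * nbr D hex e =
    nbr D hex e * nbr D hex e * e * (nbr D hex e * nbr D hex e) by group, ha.sq, one_mul, mul_one]

theorem twin_ne {e : P} (he : e ∈ outT D) : twin D hex e ≠ e := fun h => by
  have := pair_twin D hex he
  rw [h, pair_self ((mem_outT D).1 he).1] at this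
  exact zero_ne_one this

theorem eq_or_twin {e f : P} (he : e ∈ outT D) (hf : f ∈ outT D) (h : nbr D hex f = nbr D hex e) :
    f = e ∨ f = twin D hex e := by
  have key : ∀ f : P, f ∈ outT D → nbr D hex f = nbr D hex e → pair N e f = 1 → f = twin D hex e := by
    intro f hf h h1
    have het := ((mem_outT D).1 he).1
    have hft := ((mem_outT D).1 hf).1
    obtain ⟨⟨ha, haT, hea⟩, huniq⟩ := nbr_spec D hex he
    have hu := hft.conj' het
    have huT : e * f * e ∈ (D.T : Subgroup P) := mem_T_of_pair D hex hu fun y hy hyT => by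
      rw [pair_comm D hex hu hy, pair_refl het hft, h1, one_mul, pair_comm D hex hy hft,
        pair_comm D hex hy het, pair_nbr D hex hf hy hyT, pair_nbr D hex he hy hyT, h]
      exact add_self_two _
    have hu1 : pair N e (e * f * e) = 1 := by
      rw [pair_refl het hft, pair_self het, mul_zero, add_zero, h1]
    have := congrArg (cen N) (huniq _ hu huT hu1)
    rw [cen_refl het hft, h1, one_smul] at this
    refine eq_of_cen_eq D hex hft (twin_tv D hex he) ?_
    rw [cen_twin D hex he, ← this, ← add_assoc, add_comm (cen N e), add_assoc, add_self_two, add_zero]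
  rcases zmod_two_cases (pair N e f) with h0 | h1
  · left
    obtain ⟨⟨ha, haT, -⟩, -⟩ := nbr_spec D hex hf
    have h1 : pair N e (twin D hex f) = 1 := by
      have hft := ((mem_outT D).1 hf).1
      rw [twin, pair_refl ha hft, h0, pair_comm D hex ha hft, (nbr_spec D hex hf).1.2.2, one_mul, zero_add, h]
      exact (nbr_spec D hex he).1.2.2
    have := key _ (twin_mem D hex hf) ((nbr_twin D hex hf).trans h) h1
    rw [← twin_twin D hex hf, this, twin_twin D hex he]
  · exact Or.inr (key f hf h h1)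

theorem pair_one_of_nbr_eq {e f : P} (he : e ∈ outT D) (hf : f ∈ outT D) (hne : f ≠ e)
    (h : nbr D hex f = nbr D hex e) : pair N e f = 1 := by
  rw [(eq_or_twin D hex he hf h).resolve_left hne]
  exact pair_twin D hex he

/-- Non-commuting is transitive on the outside transvections. -/
theorem pair_trans {x y z : P} (hx : x ∈ outT D) (hy : y ∈ outT D) (hz : z ∈ outT D) (hxz : x ≠ z)
    (h1 : pair N x y = 1) (h2 : pair N y z = 1) : pair N x z = 1 := by
  refine (zmod_two_cases _).resolve_left fun h3 => ?_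
  obtain ⟨hxt, hxM⟩ := (mem_outT D).1 hx
  obtain ⟨hyt, hyM⟩ := (mem_outT D).1 hy
  obtain ⟨hzt, hzM⟩ := (mem_outT D).1 hz
  obtain ⟨⟨ha, haT, hxa⟩, -⟩ := nbr_spec D hex hx
  obtain ⟨⟨hb, hbT, hyb⟩, -⟩ := nbr_spec D hex hy
  obtain ⟨⟨hc, hcT, hzc⟩, -⟩ := nbr_spec D hex hz
  have hzy : pair N z y = 1 := (pair_comm D hex hzt hyt).trans h2
  have hzx : pair N z x = 0 := (pair_comm D hex hzt hxt).trans h3
  have hac : nbr D hex z ≠ nbr D hex x := fun h =>
    zero_ne_one (h3.symm.trans (pair_one_of_nbr_eq D hex hx hz (Ne.symm hxz) h))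
  have hab : nbr D hex y ≠ nbr D hex x := by
    intro h
    have hyx : y ≠ x := fun e => by rw [e, pair_self hxt] at h1; exact zero_ne_one h1
    have e := (eq_or_twin D hex hx hy h).resolve_left hyx
    rw [e, twin, pair_refl ha hxt, hzx, pair_nbr D hex hz ha haT, if_neg (Ne.symm hac)] at hzy
    simp at hzy
  have hcb : nbr D hex z ≠ nbr D hex y := by
    intro h
    have hzy' : z ≠ y := fun e => by rw [e, pair_self hyt] at h2; exact zero_ne_one h2
    have e := (eq_or_twin D hex hy hz h).resolve_left hzy'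
    rw [e, twin, pair_refl hb hyt, h1, pair_nbr D hex hx hb hbT, if_neg hab] at h3
    simp at h3
  set u := x * y * x with hu
  have hut : IsTv N u := hyt.conj' hxt
  set f := z * u * z with hf
  have hft : IsTv N f := hut.conj' hzt
  have hzu : pair N z u = 1 := by rw [hu, pair_refl hxt hyt, hzy, hzx, mul_zero, add_zero]
  have hcf : cen N f = cen N y + cen N x + cen N z := by
    rw [hf, cen_refl hzt hut, hzu, one_smul, hu, cen_refl hxt hyt, h1, one_smul]
  obtain ⟨φ, hφ⟩ := exists_hyper_fn D hex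
  have hφ1 : ∀ {e : P}, IsTv N e → e ∉ D.M → φ (cen N e) = 1 := fun he heM =>
    (zmod_two_cases _).resolve_left fun h => heM ((hφ _ he).2 h)
  have hfM : f ∉ D.M := fun h => by
    have := (hφ f hft).1 h
    rw [hcf, map_add, map_add, hφ1 hxt hxM, hφ1 hyt hyM, hφ1 hzt hzM] at this
    exact absurd this (by decide)
  have hp : ∀ a, IsTv N a → a ∈ (D.T : Subgroup P) →
      pair N f a = pair N y a + pair N x a + pair N z a := fun a ha' _ => by
    rw [pair_comm D hex hft ha', pair, hcf, map_add, map_add, pair_comm D hex hyt ha',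
      pair_comm D hex hxt ha', pair_comm D hex hzt ha']
    rfl
  have hfo : f ∈ outT D := (mem_outT D).2 ⟨hft, hfM⟩
  have e1 : nbr D hex x = nbr D hex f := (nbr_spec D hex hfo).2 _ ha haT (by
    rw [hp _ ha haT, hxa, pair_nbr D hex hy ha haT, if_neg (Ne.symm hab),
      pair_nbr D hex hz ha haT, if_neg (Ne.symm hac)]
    decide)
  have e2 : nbr D hex y = nbr D hex f := (nbr_spec D hex hfo).2 _ hb hbT (by
    rw [hp _ hb hbT, hyb, pair_nbr D hex hx hb hbT, if_neg hab,
      pair_nbr D hex hz hb hbT, if_neg (Ne.symm hcb)]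
    decide)
  exact hab (e2.trans e1.symm)

theorem mem_cls {e f : P} : f ∈ cls D e ↔ f ∈ outT D ∧ (f = e ∨ pair N e f = 1) := Finset.mem_filter

theorem self_mem_cls {e : P} (he : e ∈ outT D) : e ∈ cls D e := (mem_cls D hex).2 ⟨he, Or.inl rfl⟩

theorem twin_mem_cls {e : P} (he : e ∈ outT D) : twin D hex e ∈ cls D e :=
  (mem_cls D hex).2 ⟨twin_mem D hex he, Or.inr (pair_twin D hex he)⟩

theorem cls_eq {e f : P} (he : e ∈ outT D) (hf : f ∈ cls D e) : cls D f = cls D e := by
  obtain ⟨hfo, h⟩ := (mem_cls D hex).1 hf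
  rcases h with rfl | h
  · rfl
  have h' : pair N f e = 1 :=
    (pair_comm D hex ((mem_outT D).1 hfo).1 ((mem_outT D).1 he).1).trans h
  ext g
  rw [mem_cls D hex, mem_cls D hex]
  refine and_congr_right fun hg => ⟨fun hgf => ?_, fun hge => ?_⟩
  · rcases hgf with rfl | hgf
    · exact Or.inr h
    rcases eq_or_ne e g with rfl | hne
    · exact Or.inl rfl
    exact Or.inr (pair_trans D hex he hfo hg hne h hgf)
  · rcases hge with rfl | hge
    · exact Or.inr h'
    rcases eq_or_ne f g with rfl | hne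
    · exact Or.inl rfl
    exact Or.inr (pair_trans D hex hfo he hg hne h' hge)

theorem twin_cls {e x : P} (he : e ∈ outT D) (hx : x ∈ cls D e) : twin D hex x ∈ cls D e :=
  cls_eq D hex he hx ▸ twin_mem_cls D hex ((mem_cls D hex).1 hx).1

theorem pair_of_mem_cls {e f z : P} (he : e ∈ outT D) (hf : f ∈ cls D e) (hz : z ∈ outT D) :
    pair N z f = if z ∈ cls D e ∧ f ≠ z then 1 else 0 := by
  have hfo := ((mem_cls D hex).1 hf).1
  split_ifs with h
  · obtain ⟨hze, hne⟩ := h
    rw [← cls_eq D hex he hze, mem_cls D hex] at hf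
    exact hf.2.resolve_left hne
  · refine (zmod_two_cases _).resolve_right fun h1 => h ⟨?_, fun e' => ?_⟩
    · rw [← cls_eq D hex he hf, mem_cls D hex]
      exact ⟨hz, Or.inr ((pair_comm D hex ((mem_outT D).1 hfo).1 ((mem_outT D).1 hz).1).trans h1)⟩
    · rw [e', pair_self ((mem_outT D).1 hz).1] at h1
      exact zero_ne_one h1

theorem card_cls_zmod {e : P} (he : e ∈ outT D) : ((cls D e).card : ZMod 2) = 0 := by
  rw [Finset.card_eq_sum_ones, Nat.cast_sum, Nat.cast_one]
  exact Finset.sum_involution (fun x _ => twin D hex x) (fun _ _ => by decide)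
    (fun x hx _ => twin_ne D hex ((mem_cls D hex).1 hx).1) (fun x hx => twin_cls D hex he hx)
    (fun x hx => twin_twin D hex ((mem_cls D hex).1 hx).1)

/-- The dual vector of an outside transvection. -/
noncomputable def dlt (e : P) : N := cen N e + ∑ x ∈ cls D e, cen N x

theorem fn_sum_cls {e z : P} (he : e ∈ outT D) (hz : z ∈ outT D) :
    fn N z (∑ x ∈ cls D e, cen N x) = if z ∈ cls D e then 1 else 0 := by
  have e1 : ∀ x ∈ cls D e, fn N z (cen N x) = if z ∈ cls D e ∧ x ≠ z then (1 : ZMod 2) else 0 :=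
    fun x hx => pair_of_mem_cls D hex he hx hz
  rw [map_sum, Finset.sum_congr rfl e1]
  by_cases hze : z ∈ cls D e
  · rw [if_pos hze, ← Finset.sum_erase_add _ _ hze, if_neg (fun h => h.2 rfl), add_zero,
      Finset.sum_congr rfl (fun x hx => if_pos ⟨hze, (Finset.mem_erase.1 hx).1⟩), Finset.sum_const,
      Finset.card_erase_of_mem hze, nsmul_one, Nat.cast_sub (Finset.card_pos.2 ⟨z, hze⟩),
      card_cls_zmod D hex he]
    decide
  · rw [if_neg hze, Finset.sum_eq_zero]
    exact fun x _ => if_neg fun h => hze h.1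

theorem fn_dlt {e z : P} (he : e ∈ outT D) (hz : z ∈ outT D) :
    fn N z (dlt D e) = if z = e then 1 else 0 := by
  have h2 : fn N z (cen N e) = if z ∈ cls D e ∧ e ≠ z then (1 : ZMod 2) else 0 :=
    pair_of_mem_cls D hex he (self_mem_cls D hex he) hz
  rw [dlt, map_add, h2, fn_sum_cls D hex he hz]
  by_cases hze : z = e
  · subst hze
    simp [self_mem_cls D hex he]
  · by_cases hzc : z ∈ cls D e <;> simp [hze, hzc, Ne.symm hze] <;> decide

theorem eq_zero_of_fn_outT {n : N} (h : ∀ e ∈ outT D, fn N e n = 0) : n = 0 :=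
  eq_zero_of_fn D hex fun e he heM => h e ((mem_outT D).2 ⟨he, heM⟩)

theorem sum_dlt (n : N) : ∑ e ∈ outT D, fn N e n • dlt D e = n := by
  refine sub_eq_zero.1 (eq_zero_of_fn_outT D hex fun z hz => ?_)
  rw [map_sub, map_sum, sub_eq_zero, Finset.sum_eq_single z]
  · rw [map_zmod, fn_dlt D hex hz hz, if_pos rfl, smul_eq_mul, mul_one]
  · intro b hb hne
    rw [map_zmod, fn_dlt D hex hb hz, if_neg (Ne.symm hne), smul_zero]
  · exact fun h => absurd hz h

theorem conj_mem_outT {m e : P} (hm : m ∈ D.M) (he : e ∈ outT D) : m * e * m⁻¹ ∈ outT D := by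
  obtain ⟨het, heM⟩ := (mem_outT D).1 he
  refine (mem_outT D).2 ⟨het.conj m, fun h => heM ?_⟩
  have := mul_mem (mul_mem (inv_mem hm) h) hm
  rwa [show m⁻¹ * (m * e * m⁻¹) * m = e by group] at this

theorem nbr_conj {t e : P} (ht : t ∈ (D.T : Subgroup P)) (he : e ∈ outT D) :
    nbr D hex (t * e * t⁻¹) = t * nbr D hex e * t⁻¹ := by
  obtain ⟨⟨ha, haT, hea⟩, -⟩ := nbr_spec D hex he
  refine ((nbr_spec D hex (conj_mem_outT D hex (D.le ht) he)).2 _ (ha.conj t)
    (mul_mem (mul_mem ht haT) (inv_mem ht)) ?_).symm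
  rw [pair_conj ((mem_outT D).1 he).1 ha, hea]

theorem cls_conj_subset {m e : P} (hm : m ∈ D.M) (he : e ∈ outT D) :
    ∀ f ∈ cls D e, m * f * m⁻¹ ∈ cls D (m * e * m⁻¹) := by
  intro f hf
  obtain ⟨hfo, h⟩ := (mem_cls D hex).1 hf
  refine (mem_cls D hex).2 ⟨conj_mem_outT D hex hm hfo, ?_⟩
  rcases h with rfl | h
  · exact Or.inl rfl
  · exact Or.inr (by rw [pair_conj ((mem_outT D).1 he).1 ((mem_outT D).1 hfo).1, h])

theorem cls_conj {m e : P} (hm : m ∈ D.M) (he : e ∈ outT D) :
    cls D (m * e * m⁻¹) = (cls D e).image fun x => m * x * m⁻¹ := by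
  ext f
  rw [Finset.mem_image]
  refine ⟨fun hf => ⟨m⁻¹ * f * m, ?_, by group⟩, ?_⟩
  · have := cls_conj_subset D hex (inv_mem hm) (conj_mem_outT D hex hm he) f hf
    rwa [inv_inv, show m⁻¹ * (m * e * m⁻¹) * m = e by group] at this
  · rintro ⟨x, hx, rfl⟩
    exact cls_conj_subset D hex hm he x hx

theorem exists_nbr_eq {a : P} (ha : IsTv N a) (haT : a ∈ (D.T : Subgroup P)) :
    ∃ e ∈ outT D, nbr D hex e = a := by
  by_contra hne
  push Not at hne
  refine ha.ax.c_ne (eq_zero_of_fn_outT D hex fun e he => ?_)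
  show pair N e a = 0
  rw [pair_nbr D hex he ha haT, if_neg (Ne.symm (hne e he))]

/-- The Sylow subgroup is transitive on its transvections. -/
theorem tv_trans {a b : P} (ha : IsTv N a) (haT : a ∈ (D.T : Subgroup P)) (hb : IsTv N b)
    (hbT : b ∈ (D.T : Subgroup P)) : ∃ t ∈ (D.T : Subgroup P), t * a * t⁻¹ = b := by
  let O : Finset P := (Set.toFinite {c : P | ∃ t ∈ (D.T : Subgroup P), t * a * t⁻¹ = c}).toFinset
  have hO : ∀ c, c ∈ O ↔ ∃ t ∈ (D.T : Subgroup P), t * a * t⁻¹ = c := fun c => by simp [O]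
  have hOX : ∀ c ∈ O, IsTv N c ∧ c ∈ (D.T : Subgroup P) := fun c hc => by
    obtain ⟨t, ht, rfl⟩ := (hO c).1 hc
    exact ⟨ha.conj t, mul_mem (mul_mem ht haT) (inv_mem ht)⟩
  set v := ∑ c ∈ O, cen N c with hv
  have hvT : v ∈ fixP N (D.T : Subgroup P) := by
    intro t ht
    rw [hv, Finset.smul_sum]
    refine Finset.sum_bij' (fun c _ => t * c * t⁻¹) (fun c _ => t⁻¹ * c * t) ?_ ?_ ?_ ?_ ?_
    · intro c hc
      obtain ⟨s, hs, rfl⟩ := (hO c).1 hc
      exact (hO _).2 ⟨t * s, mul_mem ht hs, by group⟩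
    · intro c hc
      obtain ⟨s, hs, rfl⟩ := (hO c).1 hc
      exact (hO _).2 ⟨t⁻¹ * s, mul_mem (inv_mem ht) hs, by group⟩
    · intro c _; group
    · intro c _; group
    · intro c hc
      rw [(hOX c hc).1.cen_conj]
  have hfv : ∀ e ∈ outT D, fn N e v = if nbr D hex e ∈ O then 1 else 0 := by
    intro e he
    have h1 : ∀ c ∈ O, fn N e (cen N c) = if c = nbr D hex e then (1 : ZMod 2) else 0 :=
      fun c hc => pair_nbr D hex he (hOX c hc).1 (hOX c hc).2
    rw [hv, map_sum, Finset.sum_congr rfl h1, Finset.sum_ite_eq']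
  obtain ⟨e, he, hea⟩ := exists_nbr_eq D hex ha haT
  have haO : a ∈ O := (hO a).2 ⟨1, one_mem _, by group⟩
  have hv0 : v ≠ 0 := fun h => by
    have := hfv e he
    rw [hea, if_pos haO, h, map_zero] at this
    exact zero_ne_one this
  obtain ⟨e', he', heb⟩ := exists_nbr_eq D hex hb hbT
  have := hfv e' he'
  rw [fn_eq_one D hex hvT hv0 ((mem_outT D).1 he').1 ((mem_outT D).1 he').2] at this
  by_contra hno
  rw [heb, if_neg (fun h => hno ((hO b).1 h))] at this
  exact one_ne_zero this

theorem cls_card_pow {e : P} (he : e ∈ outT D) : ∃ n, 1 ≤ n ∧ (cls D e).card = 2 ^ n := by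
  obtain ⟨⟨ha, haT, -⟩, -⟩ := nbr_spec D hex he
  let X : Finset P := (outT D).image (nbr D hex)
  have hX : ∀ c, c ∈ X ↔ IsTv N c ∧ c ∈ (D.T : Subgroup P) := fun c => by
    rw [Finset.mem_image]
    refine ⟨?_, fun h => exists_nbr_eq D hex h.1 h.2⟩
    rintro ⟨f, hf, rfl⟩
    exact ⟨(nbr_spec D hex hf).1.1, (nbr_spec D hex hf).1.2.1⟩
  -- the number of transvections in the Sylow subgroup is a power of two
  let : MulAction ↥(D.T : Subgroup P) P :=
    { smul := fun t x => (t : P) * x * (t : P)⁻¹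
      one_smul := fun x => show ((1 : ↥(D.T : Subgroup P)) : P) * x * ((1 : ↥(D.T : Subgroup P)) : P)⁻¹ = x by simp
      mul_smul := fun s t x => show ((s * t : ↥(D.T : Subgroup P)) : P) * x * ((s * t : ↥(D.T : Subgroup P)) : P)⁻¹ =
        (s : P) * ((t : P) * x * (t : P)⁻¹) * (s : P)⁻¹ by
          rw [Subgroup.coe_mul]; group }
  obtain ⟨l, hl⟩ := D.T.isPGroup'.card_orbit (α := P) (nbr D hex e)
  have horb : MulAction.orbit ↥(D.T : Subgroup P) (nbr D hex e) = (X : Set P) := by
    ext c
    rw [MulAction.mem_orbit_iff, Finset.mem_coe, hX]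
    constructor
    · rintro ⟨t, rfl⟩
      exact ⟨ha.conj (t : P), mul_mem (mul_mem t.2 haT) (inv_mem t.2)⟩
    · rintro ⟨hc, hcT⟩
      obtain ⟨t, ht, h⟩ := tv_trans D hex ha haT hc hcT
      exact ⟨⟨t, ht⟩, h⟩
  have hXc : X.card = 2 ^ l := by
    rw [← hl, Nat.card_congr (Equiv.setCongr horb)]
    simp
  have hOut : (outT D).card = 2 * X.card := by
    rw [Finset.card_eq_sum_card_image (nbr D hex), Finset.sum_congr rfl (g := fun _ => 2), Finset.sum_const,
      smul_eq_mul, mul_comm]
    intro c hc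
    obtain ⟨f, hf, rfl⟩ := Finset.mem_image.1 hc
    rw [show (outT D).filter (fun x => nbr D hex x = nbr D hex f) = {f, twin D hex f} by
      ext x
      rw [Finset.mem_filter, Finset.mem_insert, Finset.mem_singleton]
      refine ⟨fun h => eq_or_twin D hex hf h.1 h.2, ?_⟩
      rintro (rfl | rfl)
      · exact ⟨hf, rfl⟩
      · exact ⟨twin_mem D hex hf, nbr_twin D hex hf⟩]
    exact Finset.card_pair (Ne.symm (twin_ne D hex hf))
  have hall : ∀ f ∈ outT D, (cls D f).card = (cls D e).card := by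
    intro f hf
    obtain ⟨⟨hb, hbT, -⟩, -⟩ := nbr_spec D hex hf
    obtain ⟨t, ht, h⟩ := tv_trans D hex ha haT hb hbT
    have hto := conj_mem_outT D hex (D.le ht) he
    have hmem : f ∈ cls D (t * e * t⁻¹) := by
      refine (mem_cls D hex).2 ⟨hf, ?_⟩
      refine (em (f = t * e * t⁻¹)).imp_right fun hne => ?_
      exact pair_one_of_nbr_eq D hex hto hf hne (by rw [nbr_conj D hex ht he, h])
    rw [cls_eq D hex hto hmem, cls_conj D hex (D.le ht) he,
      Finset.card_image_of_injective _ (fun x y h => mul_left_cancel (mul_right_cancel h))]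
  have hdvd : (cls D e).card ∣ (outT D).card := by
    rw [Finset.card_eq_sum_card_image (cls D) (outT D)]
    apply Finset.dvd_sum
    intro K hK
    obtain ⟨f, hf, rfl⟩ := Finset.mem_image.1 hK
    rw [show (outT D).filter (fun x => cls D x = cls D f) = cls D f by
      ext x
      rw [Finset.mem_filter]
      refine ⟨fun h => h.2 ▸ self_mem_cls D hex h.1, fun h => ⟨((mem_cls D hex).1 h).1, cls_eq D hex hf h⟩⟩,
      hall f hf]
  rw [hOut, hXc, ← pow_succ'] at hdvd
  obtain ⟨n, -, hn⟩ := (Nat.dvd_prime_pow Nat.prime_two).1 hdvd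
  refine ⟨n, Nat.one_le_iff_ne_zero.2 fun h => ?_, hn⟩
  rw [h, pow_zero, Finset.card_eq_one] at hn
  obtain ⟨z, hz⟩ := hn
  have h1 := self_mem_cls D hex he
  have h2 := twin_mem_cls D hex he
  rw [hz, Finset.mem_singleton] at h1 h2
  exact twin_ne D hex he (h2.trans h1.symm)

theorem cls_tv {e : P} : ∀ x ∈ (cls D e : Set P), IsTv N x := fun x hx =>
  ((mem_outT D).1 ((mem_cls D hex).1 (Finset.mem_coe.1 hx)).1).1

theorem sep_cls {e f : P} (he : e ∈ outT D) (hf : f ∈ outT D) (hne : cls D e ≠ cls D f) :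
    moveP N (Subgroup.closure (cls D e : Set P)) ≤ fixP N (Subgroup.closure (cls D f : Set P)) := by
  refine moveP_le.2 ((Subgroup.closure_le _).2 fun x hx n => ?_)
  refine (cls_tv D hex x hx).move_mem ((mem_fix_closure (cls_tv D hex)).2 fun y hy => ?_) n
  have hyo := ((mem_cls D hex).1 (Finset.mem_coe.1 hy)).1
  show pair N y x = 0
  rw [pair_of_mem_cls D hex he (Finset.mem_coe.1 hx) hyo, if_neg]
  exact fun h => hne ((cls_eq D hex he h.1).symm.trans (cls_eq D hex hf (Finset.mem_coe.1 hy)))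

theorem index_fix_cls {e : P} (he : e ∈ outT D) :
    (fixP N (Subgroup.closure (cls D e : Set P))).index = 2 ^ (cls D e).card := by
  let θ : N →+ (↥(cls D e) → ZMod 2) := AddMonoidHom.pi fun x => fn N (x : P)
  have hk : θ.ker = fixP N (Subgroup.closure (cls D e : Set P)) := by
    ext n
    rw [AddMonoidHom.mem_ker, mem_fix_closure (cls_tv D hex)]
    exact ⟨fun h x hx => congrFun h ⟨x, hx⟩, fun h => funext fun x => h x x.2⟩
  have hs : Function.Surjective θ := by
    intro v
    refine ⟨∑ x : ↥(cls D e), v x • dlt D (x : P), funext fun y => ?_⟩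
    show fn N (y : P) _ = v y
    rw [map_sum, Finset.sum_eq_single y]
    · rw [map_zmod, fn_dlt D hex ((mem_cls D hex).1 y.2).1 ((mem_cls D hex).1 y.2).1, if_pos rfl,
        smul_eq_mul, mul_one]
    · intro b _ hne
      rw [map_zmod, fn_dlt D hex ((mem_cls D hex).1 b.2).1 ((mem_cls D hex).1 y.2).1,
        if_neg (fun h => hne (Subtype.ext h.symm)), smul_zero]
    · exact fun h => absurd (Finset.mem_univ y) h
  rw [← hk, AddSubgroup.index_ker, AddMonoidHom.range_eq_top.2 hs, AddSubgroup.card_top, Nat.card_fun,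
    Nat.card_zmod, Nat.card_eq_fintype_card, Fintype.card_coe]

/-- The even weight module of a class. -/
noncomputable def evenMap (e : P) : N →+ (Option ↥(cls D e) → ZMod 2) :=
  AddMonoidHom.pi fun i => i.elim (∑ x : ↥(cls D e), fn N (x : P))
    fun y => fn N (y : P) + ∑ x : ↥(cls D e), fn N (x : P)

theorem evenMap_none (e : P) (n : N) :
    evenMap D e n none = ∑ x : ↥(cls D e), fn N (x : P) n := by
  show (∑ x : ↥(cls D e), fn N (x : P)) n = _
  rw [AddMonoidHom.finsetSum_apply]

theorem evenMap_some (e : P) (n : N) (y : ↥(cls D e)) :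
    evenMap D e n (some y) = fn N (y : P) n + ∑ x : ↥(cls D e), fn N (x : P) n := by
  show (fn N (y : P) + ∑ x : ↥(cls D e), fn N (x : P)) n = _
  rw [AddMonoidHom.add_apply, AddMonoidHom.finsetSum_apply]

theorem evenMap_sum {e : P} (he : e ∈ outT D) (n : N) : ∑ i, evenMap D e n i = 0 := by
  rw [Fintype.sum_option, evenMap_none D hex, Finset.sum_congr rfl (fun y _ => evenMap_some D hex e n y),
    Finset.sum_add_distrib, Finset.sum_const, Finset.card_univ, Fintype.card_coe,
    nsmul_eq_mul, card_cls_zmod D hex he, zero_mul, add_zero, add_self_two]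

theorem evenMap_surj {e : P} (he : e ∈ outT D) (v : Option ↥(cls D e) → ZMod 2) (hv : ∑ i, v i = 0) :
    ∃ n, evenMap D e n = v := by
  refine ⟨∑ x : ↥(cls D e), (v (some x) + v none) • dlt D (x : P), ?_⟩
  have hfn : ∀ y : ↥(cls D e), fn N (y : P)
      (∑ x : ↥(cls D e), (v (some x) + v none) • dlt D (x : P)) = v (some y) + v none := by
    intro y
    rw [map_sum, Finset.sum_eq_single y]
    · rw [map_zmod, fn_dlt D hex ((mem_cls D hex).1 y.2).1 ((mem_cls D hex).1 y.2).1, if_pos rfl,
        smul_eq_mul, mul_one]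
    · intro b _ hne
      rw [map_zmod, fn_dlt D hex ((mem_cls D hex).1 b.2).1 ((mem_cls D hex).1 y.2).1,
        if_neg (fun h => hne (Subtype.ext h.symm)), smul_zero]
    · exact fun h => absurd (Finset.mem_univ y) h
  have hs : ∑ y : ↥(cls D e), (v (some y) + v none) = v none := by
    rw [Fintype.sum_option] at hv
    rw [Finset.sum_add_distrib, Finset.sum_const, Finset.card_univ, Fintype.card_coe, nsmul_eq_mul,
      card_cls_zmod D hex he, zero_mul, add_zero]
    have := neg_eq_of_add_eq_zero_right hv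
    rwa [neg_eq_of_add_eq_zero_left (add_self_two (v none)), eq_comm] at this
  funext i
  rcases i with _ | y
  · rw [evenMap_none D hex, Finset.sum_congr rfl (fun y _ => hfn y), hs]
  · rw [evenMap_some D hex, hfn, Finset.sum_congr rfl (fun y _ => hfn y), hs, add_assoc, add_self_two, add_zero]

theorem evenMap_refl {e : P} (he : e ∈ outT D) (x : ↥(cls D e)) (n : N) (i : Option ↥(cls D e)) :
    evenMap D e ((x : P) • n) i = evenMap D e n (Equiv.swap none (some x) i) := by
  have hxt : IsTv N (x : P) := cls_tv D hex _ x.2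
  have hfn : ∀ y : ↥(cls D e), fn N (y : P) ((x : P) • n) =
      fn N (y : P) n + fn N (x : P) n * if y = x then 0 else 1 := by
    intro y
    rw [hxt.act, map_add, map_zmod, smul_eq_mul]
    congr 2
    show pair N (y : P) (x : P) = _
    rw [pair_of_mem_cls D hex he x.2 ((mem_cls D hex).1 y.2).1]
    by_cases h : y = x
    · simp [h]
    · simp [h, show (x : P) ≠ y from fun e => h (Subtype.ext e.symm)]
  have hs : ∑ y : ↥(cls D e), fn N (y : P) ((x : P) • n) =
      (∑ y : ↥(cls D e), fn N (y : P) n) + fn N (x : P) n := by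
    have e1 : ∀ y : ↥(cls D e), (if y = x then (0 : ZMod 2) else 1) = 1 + if y = x then 1 else 0 := by
      intro y
      split <;> decide
    rw [Finset.sum_congr rfl (fun y _ => hfn y), Finset.sum_add_distrib, ← Finset.mul_sum,
      Finset.sum_congr rfl (fun y _ => e1 y), Finset.sum_add_distrib, Finset.sum_const, Finset.card_univ,
      Fintype.card_coe, nsmul_one, card_cls_zmod D hex he, Finset.sum_ite_eq', if_pos (Finset.mem_univ x),
      zero_add, mul_one]
  rcases i with _ | y
  · rw [Equiv.swap_apply_left, evenMap_none D hex, evenMap_some D hex, hs, add_comm]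
  · by_cases h : y = x
    · subst h
      rw [Equiv.swap_apply_right, evenMap_some D hex, evenMap_none D hex, hs, hfn, if_pos rfl, mul_zero, add_zero,
        add_comm, add_assoc, add_self_two, add_zero]
    · rw [Equiv.swap_apply_of_ne_of_ne (Option.some_ne_none y) (fun e' => h (Option.some.inj e')),
        evenMap_some D hex, evenMap_some D hex, hs, hfn, if_neg h, mul_one]
      rw [show ∀ a b c : ZMod 2, a + c + (b + c) = a + b + (c + c) from fun a b c => by abel,
        add_self_two, add_zero]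

theorem perm_unique {e : P} (he : e ∈ outT D) {σ τ : Equiv.Perm (Option ↥(cls D e))}
    (h : ∀ n i, evenMap D e n (σ⁻¹ i) = evenMap D e n (τ⁻¹ i)) : σ = τ := by
  refine inv_injective (Equiv.ext fun i => ?_)
  by_contra hne
  obtain ⟨k, hk1, hk2⟩ : ∃ k, k ≠ σ⁻¹ i ∧ k ≠ τ⁻¹ i := by
    obtain ⟨n, hn, hc⟩ := cls_card_pow D hex he
    have : ({σ⁻¹ i, τ⁻¹ i} : Finset (Option ↥(cls D e))).card < Fintype.card (Option ↥(cls D e)) := by
      rw [Fintype.card_option, Fintype.card_coe, hc]
      refine lt_of_le_of_lt Finset.card_le_two ?_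
      have : 2 ≤ 2 ^ n := Nat.le_self_pow (by omega) 2
      omega
    obtain ⟨k, hk⟩ := (Finset.card_lt_iff_ne_univ _).1 this |> fun h => by
      simpa [Finset.eq_univ_iff_forall] using h
    exact ⟨k, hk.1, hk.2⟩
  let v : Option ↥(cls D e) → ZMod 2 := fun j => (if j = σ⁻¹ i then 1 else 0) + if j = k then 1 else 0
  obtain ⟨n, hn⟩ := evenMap_surj D hex he v (by
    rw [Finset.sum_add_distrib, Finset.sum_ite_eq', Finset.sum_ite_eq']
    simp
    decide)
  have := h n i
  rw [hn] at this
  simp only [v, if_true, if_neg (Ne.symm hne), if_neg (Ne.symm hk1), if_neg (Ne.symm hk2), add_zero] at this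
  exact one_ne_zero this

theorem isPermFactor_cls {e : P} (he : e ∈ outT D) {n : ℕ} (hn : (cls D e).card = 2 ^ n) :
    IsPermFactor N 2 n (Subgroup.closure (cls D e : Set P)) := by
  set E := Subgroup.closure (cls D e : Set P) with hE
  let ψ := evenMap D e
  have hex' : ∀ g : ↥E, ∃ σ : Equiv.Perm (Option ↥(cls D e)), ∀ m i, ψ ((g : P) • m) i = ψ m (σ⁻¹ i) := by
    let Γ : Subgroup P :=
      { carrier := {g | ∃ σ : Equiv.Perm (Option ↥(cls D e)), ∀ m i, ψ (g • m) i = ψ m (σ⁻¹ i)}
        one_mem' := ⟨1, fun m i => by rw [one_smul]; rfl⟩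
        mul_mem' := fun {a b} ⟨σ, hσ⟩ ⟨τ, hτ⟩ => ⟨σ * τ, fun m i => by
          rw [mul_smul, hσ, hτ, mul_inv_rev]; rfl⟩
        inv_mem' := fun {a} ⟨σ, hσ⟩ => ⟨σ⁻¹, fun m i => by
          have := hσ (a⁻¹ • m) (σ i)
          rw [smul_inv_smul] at this
          rw [inv_inv, this]
          simp⟩ }
    have hle : E ≤ Γ := (Subgroup.closure_le _).2 fun x hx => ⟨Equiv.swap none (some ⟨x, hx⟩), fun m i => by
      rw [Equiv.swap_inv]; exact evenMap_refl D hex he ⟨x, hx⟩ m i⟩
    exact fun g => hle g.2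
  choose σ hσ using hex'
  let ρ : ↥E →* Equiv.Perm (Option ↥(cls D e)) := MonoidHom.mk' σ fun a b =>
    perm_unique D hex he fun m i => by
      rw [← hσ, Subgroup.coe_mul, mul_smul, hσ, hσ, mul_inv_rev]
      rfl
  have hρ : ∀ (g : ↥E) (m : N) i, ψ ((g : P) • m) i = ψ m ((ρ g)⁻¹ i) := hσ
  have hψ0 : ∀ m, ψ m = 0 ↔ m ∈ fixP N E := by
    intro m
    rw [hE, mem_fix_closure (cls_tv D hex)]
    constructor
    · intro h x hx
      have h1 := congrFun h (some ⟨x, hx⟩)
      have h2 := congrFun h none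
      rw [evenMap_none D hex] at h2
      rwa [evenMap_some D hex, h2, Pi.zero_apply, add_zero] at h1
    · intro h
      funext i
      have h0 : ∑ x : ↥(cls D e), fn N (x : P) m = 0 := Finset.sum_eq_zero fun x _ => h x x.2
      rcases i with _ | y
      · rw [evenMap_none D hex, h0, Pi.zero_apply]
      · rw [evenMap_some D hex, h0, h y y.2, add_zero, Pi.zero_apply]
  have hinj : Function.Injective ρ := by
    rw [injective_iff_map_eq_one]
    intro g hg
    refine Subtype.ext (hfaith.out _ fun m => sub_eq_zero.1 (eq_zero_of_fn_outT D hex fun z hz => ?_))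
    by_cases hze : z ∈ cls D e
    · have h0 : ψ ((g : P) • m) = ψ m := funext fun i => by rw [hρ, hg]; rfl
      have hd : ψ ((g : P) • m - m) = 0 := by rw [map_sub, h0, sub_self]
      exact (mem_fix_closure (cls_tv D hex)).1 ((hψ0 _).1 hd) z hze
    · refine (mem_fix_closure (cls_tv D hex)).1
        (sep_cls D hex he hz (fun h => hze (h ▸ self_mem_cls D hex hz)) (move_mem g.2 m)) z
        (self_mem_cls D hex hz)
  have hswap : ∀ x : ↥(cls D e), Equiv.swap none (some x) ∈ ρ.range := fun x =>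
    ⟨⟨x, Subgroup.subset_closure x.2⟩, perm_unique D hex he fun m i => by
      rw [← hρ, Equiv.swap_inv]
      exact evenMap_refl D hex he x m i⟩
  have hsurj : ρ.range = ⊤ := by
    refine top_le_iff.1 ((Equiv.Perm.closure_isSwap (α := Option ↥(cls D e))).ge.trans
      ((Subgroup.closure_le _).2 ?_))
    rintro _ ⟨i, j, hij, rfl⟩
    rcases i with _ | x <;> rcases j with _ | y
    · exact absurd rfl hij
    · exact hswap y
    · rw [Equiv.swap_comm]; exact hswap x
    · have : Equiv.swap (some x) (some y) =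
          Equiv.swap none (some x) * Equiv.swap none (some y) * Equiv.swap none (some x) := by
        rw [Equiv.swap_comm (none : Option ↥(cls D e)) (some y),
          Equiv.swap_mul_swap_mul_swap (Option.some_ne_none y) hij.symm]
      rw [this]
      exact mul_mem (mul_mem (hswap x) (hswap y)) (hswap x)
  obtain ⟨f⟩ : Nonempty (Option ↥(cls D e) ≃ Fin (2 ^ n + 1)) := ⟨Fintype.equivFinOfCardEq (by
    rw [Fintype.card_option, Fintype.card_coe, hn])⟩
  let Φ : Equiv.Perm (Option ↥(cls D e)) ≃* Equiv.Perm (Fin (2 ^ n + 1)) := f.permCongrHom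
  refine ⟨rfl, Φ.toMonoidHom.comp ρ, (AddMonoidHom.pi fun j =>
    (Pi.evalAddMonoidHom (fun _ => ZMod 2) (f.symm j)).comp ψ), ⟨Φ.injective.comp hinj, fun τ => ?_⟩,
    fun m => ?_, fun v hv => ?_, fun m => ?_, fun g m j => ?_⟩
  · obtain ⟨g, hg⟩ := MonoidHom.range_eq_top.1 hsurj (Φ.symm τ)
    exact ⟨g, by show Φ (ρ g) = τ; rw [hg, MulEquiv.apply_symm_apply]⟩
  · show ∑ j, ψ m (f.symm j) = 0
    rw [f.symm.sum_comp]
    exact evenMap_sum D hex he m
  · obtain ⟨m, hm⟩ := evenMap_surj D hex he (v ∘ f) (by rw [← hv]; exact f.sum_comp v)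
    exact ⟨m, funext fun j => by show ψ m (f.symm j) = v j; rw [hm]; simp⟩
  · rw [← hψ0]
    exact ⟨fun h => funext fun i => by
        have h' : ψ m (f.symm (f i)) = 0 := congrFun h (f i)
        rwa [f.symm_apply_apply] at h',
      fun h => funext fun j => congrFun h (f.symm j)⟩
  · show ψ ((g : P) • m) (f.symm j) = ψ m (f.symm ((Φ (ρ g))⁻¹ j))
    rw [hρ, ← map_inv]
    show _ = ψ m (f.symm (f.permCongr ((ρ g)⁻¹) j))
    rw [Equiv.permCongr_apply, f.symm_apply_apply, map_inv]

end CfsgLib.LocalEven.FFPMin
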