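import Cfsg.Agent.Lib.LocalEven.FFPMin.Key

/-!
Every member inside and every member outside form a minimal pair; the member inside and the pair are
unique.
-/

set_option autoImplicit false
set_option linter.unusedSectionVars false

namespace CfsgLib.LocalEven.FFPMin

open CfsgLib.LocalEven.OffenderSL2 (fixP)
open scoped _root_.Classical

namespace Setup

variable {p : ℕ} [hp : Fact p.Prime] {P : Type*} [Group P] [Finite P] {N : Type*} [AddCommGroup N]
  [DistribMulAction P N] [Finite N]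
variable {D : Model p P N} {F : Fam p P N} {S : Setup D F}

theorem In.eq_of_same_axis {A B : Subgroup P} (hA : S.In A) (hB : S.In B) (e : fixP N A = fixP N B) :
    A = B := by
  have hn : B ≤ Subgroup.normalizer ((S.K ⊔ A : Subgroup P) : Set P) := by
    intro b hb
    rw [mem_normalizer_iff_cj, cj_sup, cj_K (hB.le0 hb)]
    congr 1
    refine Subgroup.eq_of_le_of_card_ge ?_ (card_cj b A).ge
    rintro _ ⟨a, ha, rfl⟩
    show b * a * b⁻¹ ∈ A
    rwa [← commute_of_axes D.faith (hA.mem.isMin.quad D.expN) (hB.mem.isMin.quad D.expN) e ha hb,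
      mul_inv_cancel_right]
  exact key' (hA.isPGroup_sup.to_sup_of_normal_left' hB.mem.isPGroup hn) (le_sup_left.trans le_sup_left)
    hA hB (le_sup_right.trans le_sup_left) le_sup_right

theorem IsPair.normalises {A f : Subgroup P} (h : S.IsPair A f) {g : P} (hg : g ∈ A ⊔ f) (hgM : g ∈ D.M) :
    FFPMin.cj g A = A := by
  have hi := h.inA.cj (h.le0 hg) hgM
  refine (h.inA.eq_of_same_axis hi (fix_eq_of_le h.inA.mem hi.mem (h.axis_le.trans (sup_le ?_ ?_)))).symm
  · exact (AddSubgroup.closure_le _).2 fun z hz => hi.fix_tr hz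
  · exact fixP_anti ((cj_mono le_sup_left).trans (cj_eq_of_mem hg).le)

/-- Two members of a pair with a common vector in their axes outside the common part are equal. -/
theorem IsPair.eq_of_common {A f : Subgroup P} (h : S.IsPair A f) {d e : Subgroup P} (hd : F.Mem d)
    (hdL : d ≤ A ⊔ f) (he : F.Mem e) (heL : e ≤ A ⊔ f) {n : N} (hnd : n ∈ fixP N d) (hne : n ∈ fixP N e)
    (hnC : n ∉ fixP N (A ⊔ f : Subgroup P)) : d = e := by
  obtain ⟨l, hl, rfl⟩ := h.facts.mem d hd hdL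
  obtain ⟨l', hl', rfl⟩ := h.facts.mem e he heL
  have hg : l⁻¹ * l' ∈ A ⊔ f := mul_mem (inv_mem hl) hl'
  have hgM := h.mem_M_of_fix hg (n := l⁻¹ • n) (mem_fixP_cj.1 hnd)
    (by rw [← cj_cj]; exact smul_mem_fixP_cj hne) (fun e' => hnC (by
      have := e' l hl
      rw [smul_inv_smul] at this
      rw [this]; exact e'))
  have := congrArg (FFPMin.cj l) (h.normalises hg hgM)
  rw [cj_cj, mul_inv_cancel_left] at this
  exact this.symm

/-- Every member inside and every member outside form a minimal pair. -/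
theorem In.isPair {A f : Subgroup P} (hA : S.In A) (hf : S.Out f) : S.IsPair A f := by
  obtain ⟨f1, hf1, hle⟩ := exists_pair hA hf
  suffices f ≤ A ⊔ f1 by
    have e : A ⊔ f = A ⊔ f1 := le_antisymm (sup_le le_sup_left this) (sup_le le_sup_left hle)
    exact ⟨hA, hf, fun f' hf' hle' => (hf1.min f' hf' (e ▸ hle')).trans e.symm⟩
  have hF := hf1.facts
  set C := fixP N (A ⊔ f1 : Subgroup P)
  have hCf : C ≤ fixP N f := by
    have h0 : fixP N (A ⊔ f : Subgroup P) ≤ C := fixP_anti (sup_le le_sup_left hle)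
    refine le_trans (AddSubgroup.eq_of_le_of_card_ge h0 ?_).ge (fixP_anti le_sup_right)
    have e1 := OffenderSL2.Hyp.card_sup_mul (X := fixP N A) (Y := fixP N f)
    have e2 := OffenderSL2.Hyp.card_sup_mul (X := fixP N A) (Y := fixP N f1)
    rw [← fixP_sup, card_fix_mem hf.mem, card_fix_mem hA.mem] at e1
    rw [← fixP_sup, hF.sup, AddSubgroup.card_top, card_fix_mem hf1.outF.mem, card_fix_mem hA.mem, ← e1] at e2
    refine Nat.le_of_mul_le_mul_left ?_ (Nat.card_pos (α := N))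
    rw [e2]
    exact Nat.mul_le_mul_right _ (AddSubgroup.card_le_card_addGroup _)
  have hloc : ∀ z ∈ fixP N f, z ∉ C → ∃ l ∈ A ⊔ f1, z ∈ fixP N (FFPMin.cj l A) ∧
      S.In (FFPMin.cj l⁻¹ f) := by
    intro z hz hzC
    obtain ⟨l, hl, hzl⟩ := hF.cover z
    have hz' : l⁻¹ • z ∈ fixP N A := mem_fixP_cj.1 hzl
    obtain ⟨z0, hz0⟩ := exists_isTr (D := D)
    obtain ⟨l2, -, hl2M, hl2⟩ := hf1.transitive hz0 hz' fun e => hzC (by
      have := e l hl
      rw [smul_inv_smul] at this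
      rw [this]; exact e)
    have hlG := hf1.le0 hl
    refine ⟨l, hl, hzl, hf.mem.cj _, cj_le_G0 (inv_mem hlG) hf.le0, cj_notK (inv_mem hlG) hf.notK, ?_⟩
    refine (hz0.smul hl2M).le_M_smul (g := l) ?_
    have e : l • l2 • z0 = z + l • (l2 • z0 - l⁻¹ • z) := by rw [smul_sub, smul_inv_smul]; abel
    rw [e, hl2 l hl]
    exact add_mem hz (hCf hl2)
  obtain ⟨z, hz, hzC⟩ : ∃ z ∈ fixP N f, z ∉ C := by
    by_contra hne
    push Not at hne
    have := AddSubgroup.card_le_of_le (show fixP N f ≤ C from hne)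
    rw [card_fix_mem hf.mem, ← card_fix_mem hA.mem] at this
    exact absurd (hF.lt_card hA.mem) (not_lt.2 this)
  obtain ⟨l, hl, -, hB⟩ := hloc z hz hzC
  have hsub : fixP N f ≤ fixP N (FFPMin.cj l A) := by
    intro y hy
    by_cases hyC : y ∈ C
    · exact fixP_anti ((cj_mono le_sup_left).trans (cj_eq_of_mem hl).le) hyC
    obtain ⟨l2, hl2, hyl, hB2⟩ := hloc y hy hyC
    have hg : l2⁻¹ * l ∈ A ⊔ f1 := mul_mem (inv_mem hl2) hl
    have hgM : l2⁻¹ * l ∈ D.M := hB.cl (hf1.le0 hg) (by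
      rw [cj_cj, mul_inv_cancel_right]; exact hB2.leM)
    have := congrArg (FFPMin.cj l2) (hf1.normalises hg hgM)
    rw [cj_cj, mul_inv_cancel_left] at this
    rwa [this]
  have hax := fix_eq_of_le hf.mem (hA.mem.cj l) hsub
  have hax' : fixP N A = fixP N (FFPMin.cj l⁻¹ f) := by
    ext n
    rw [mem_fixP_cj, inv_inv, hax, mem_fixP_cj, inv_smul_smul]
  have e : f = FFPMin.cj l A := by rw [hA.eq_of_same_axis hB hax', cj_cj_inv]
  exact e ▸ (cj_mono le_sup_left).trans (cj_eq_of_mem hl).le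

/-- The element of an outside member normalising the inside one is trivial, and dually. -/
theorem In.regular {A f : Subgroup P} (hA : S.In A) (hf : S.Out f) {a : P} (ha : a ∈ A)
    (h : FFPMin.cj a f = f) : a = 1 := by
  have hp := hA.isPair hf
  obtain ⟨s, hs, hsC⟩ := hp.facts.exists_notC hA.mem hf.mem
  by_contra ha1
  refine hsC (hp.facts.inj a ha s hs (fix_sup_eq.2
    ⟨(hA.mem.isMin.quad D.expN) a ha s, sub_mem (smul_mem_fixP_of_normalizes h hs) hs⟩) ha1)

theorem In.regular' {A f : Subgroup P} (hA : S.In A) (hf : S.Out f) {b : P} (hb : b ∈ f)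
    (h : FFPMin.cj b A = A) : b = 1 := by
  obtain ⟨x, hx, hxf⟩ := (hA.isPair hf).facts.mem f hf.mem le_sup_right
  have hxG := (hA.isPair hf).le0 hx
  have hxM : x ∉ D.M := fun e => hf.notM (hxf ▸ (cj_mono hA.leM).trans (cj_eq_of_mem e).le)
  have hout : S.Out (FFPMin.cj x⁻¹ A) := (hA.cj_cases (inv_mem hxG)).resolve_left fun e =>
    hxM (by simpa using inv_mem (hA.cl (inv_mem hxG) e.leM))
  have := hA.regular hout (a := x⁻¹ * b * x) (mem_cj.1 (hxf.symm ▸ hb)) (by
    rw [cj_cj, show x⁻¹ * b * x * x⁻¹ = x⁻¹ * b by group, ← cj_cj, h])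
  rwa [mul_assoc, inv_mul_eq_one, eq_comm, mul_eq_right] at this

variable (S)

theorem pgroup_S1 : IsPGroup p ((D.T : Subgroup P) ⊓ S.G0 : Subgroup P) := D.T.isPGroup'.to_le inf_le_left

theorem K_le_S1 : S.K ≤ (D.T : Subgroup P) ⊓ S.G0 := le_inf S.KT Subgroup.le_normalizer

theorem eq_of_le_T {d : Subgroup P} (hd : S.In d) (hdT : d ≤ (D.T : Subgroup P)) : d = S.A :=
  key' S.pgroup_S1 S.K_le_S1 hd S.inA (le_inf hdT hd.le0) (le_inf S.AT S.AN)

theorem A_cj_S1 {t : P} (ht : t ∈ (D.T : Subgroup P) ⊓ S.G0) : FFPMin.cj t S.A = S.A :=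
  S.eq_of_le_T (S.inA.cj ht.2 (D.le ht.1)) ((cj_mono S.AT).trans (cj_eq_of_mem ht.1).le)

/-- The pairs through the given member. -/
def pairs : Set (Subgroup P) := {L | ∃ f, S.Out f ∧ S.A ⊔ f = L}

theorem exists_x : ∃ x ∈ S.G0, x ∉ D.M := by
  obtain ⟨e, he⟩ := S.out
  obtain ⟨x, hx, hxf⟩ := (S.inA.isPair (⟨he.1, he.2.1, he.2.2⟩ : S.Out e)).facts.mem e he.1 le_sup_right
  exact ⟨x, (S.inA.isPair (⟨he.1, he.2.1, he.2.2⟩ : S.Out e)).le0 hx,
    fun h => he.2.2 (hxf ▸ (cj_mono S.inA.leM).trans (cj_eq_of_mem h).le)⟩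

/-- The pairs through the member correspond to the members inside. -/
theorem card_pairs : S.pairs.ncard = {d | S.In d}.ncard := by
  obtain ⟨x, hx, hxM⟩ := S.exists_x
  obtain ⟨z, hz⟩ := exists_isTr (D := D)
  set n := x • z
  have hnA : n ∉ fixP N S.A := fun e => hxM (by
    simpa using inv_mem (S.inA.cl (inv_mem hx) (hz.le_M_smul e)))
  have hout : ∀ d, S.In d → S.Out (FFPMin.cj x d) := fun d hd =>
    (hd.cj_cases hx).resolve_left fun e => hxM (hd.cl hx e.leM)
  symm
  refine Set.ncard_congr (fun d _ => S.A ⊔ FFPMin.cj x d) (fun d hd => ⟨_, hout d hd, rfl⟩) ?_ ?_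
  · intro d d' hd hd' e
    have hp := S.inA.isPair (hout d hd)
    refine cj_injective x (hp.eq_of_common (hout d hd).mem le_sup_right (hout d' hd').mem ?_
      (smul_mem_fixP_cj (hd.fix_tr hz)) (smul_mem_fixP_cj (hd'.fix_tr hz)) fun h => hnA (fix_sup_eq.1 h).1)
    change S.A ⊔ FFPMin.cj x d = S.A ⊔ FFPMin.cj x d' at e
    exact e ▸ le_sup_right
  · rintro L ⟨f, hf, rfl⟩
    have hp := S.inA.isPair hf
    obtain ⟨l, hl, hn⟩ := hp.facts.cover n
    have hlG := hp.le0 hl
    have ho : S.Out (FFPMin.cj l S.A) := (S.inA.cj_cases hlG).resolve_left fun e => hnA (by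
      rwa [hp.normalises hl (S.inA.cl hlG e.leM)] at hn)
    refine ⟨FFPMin.cj x⁻¹ (FFPMin.cj l S.A), ⟨ho.mem.cj _, cj_le_G0 (inv_mem hx) ho.le0,
      cj_notK (inv_mem hx) ho.notK, hz.le_M_smul hn⟩, ?_⟩
    show S.A ⊔ FFPMin.cj x (FFPMin.cj x⁻¹ (FFPMin.cj l S.A)) = S.A ⊔ f
    rw [cj_cj_inv]
    exact hp.min _ ho ((cj_mono le_sup_left).trans (cj_eq_of_mem hl).le)

/-- Some pair is normalised by the Sylow subgroup of the normaliser of the common part. -/
theorem exists_fixed_pair : ∃ f, S.Out f ∧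
    ∀ t ∈ (D.T : Subgroup P) ⊓ S.G0, FFPMin.cj t (S.A ⊔ f) = S.A ⊔ f := by
  set S1 := (D.T : Subgroup P) ⊓ S.G0
  have hI : ∀ (t : ↥S1) d, S.In d → S.In (FFPMin.cj (t : P) d) := fun t d hd =>
    hd.cj t.2.2 (D.le t.2.1)
  let : MulAction ↥S1 {d : Subgroup P // S.In d} :=
    { smul := fun t d => ⟨FFPMin.cj (t : P) d, hI t d d.2⟩
      one_smul := fun d => Subtype.ext (cj_one _)
      mul_smul := fun s t d => Subtype.ext (cj_cj (s : P) t d).symm }
  have hfix : MulAction.fixedPoints ↥S1 {d : Subgroup P // S.In d} = {⟨S.A, S.inA⟩} := by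
    ext ⟨d, hd⟩
    rw [Set.mem_singleton_iff, MulAction.mem_fixedPoints]
    refine ⟨fun h => Subtype.ext ?_, fun h t => ?_⟩
    · have hn : S1 ≤ Subgroup.normalizer (d : Set P) := fun t ht =>
        mem_normalizer_iff_cj.2 (congrArg Subtype.val (h ⟨t, ht⟩))
      have e := S.sylow (S1 ⊔ d) (S.pgroup_S1.to_sup_of_normal_right' hd.mem.isPGroup hn)
        (sup_le (le_inf (inf_le_left.trans D.le) inf_le_right) (le_inf hd.leM hd.le0)) le_sup_left
      exact S.eq_of_le_T hd ((le_sup_right.trans e.le).trans inf_le_left)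
    · rw [h]
      exact Subtype.ext (S.A_cj_S1 t.2)
  have h1 := S.pgroup_S1.card_modEq_card_fixedPoints {d : Subgroup P // S.In d}
  rw [hfix, show Nat.card ({⟨S.A, S.inA⟩} : Set {d : Subgroup P // S.In d}) = 1 by simp] at h1
  have hc : Nat.card S.pairs = Nat.card {d : Subgroup P // S.In d} := S.card_pairs
  have hL : ∀ (t : ↥S1) (L : Subgroup P), L ∈ S.pairs → FFPMin.cj (t : P) L ∈ S.pairs := by
    rintro t _ ⟨f, hf, rfl⟩
    refine ⟨FFPMin.cj (t : P) f, ⟨hf.mem.cj _, cj_le_G0 t.2.2 hf.le0, fun h => hf.notM ?_⟩, ?_⟩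
    · exact (cj_le_iff.1 h).trans (cj_eq_of_mem (inv_mem (D.le t.2.1))).le
    · rw [cj_sup, S.A_cj_S1 t.2]
  let : MulAction ↥S1 S.pairs :=
    { smul := fun t L => ⟨FFPMin.cj (t : P) L, hL t L L.2⟩
      one_smul := fun L => Subtype.ext (cj_one _)
      mul_smul := fun s t L => Subtype.ext (cj_cj (s : P) t L).symm }
  have h2 := S.pgroup_S1.card_modEq_card_fixedPoints S.pairs
  rw [hc] at h2
  have h3 : Nat.card (MulAction.fixedPoints ↥S1 S.pairs) ≠ 0 := fun e => by
    rw [e] at h2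
    have := (h1.symm.trans h2)
    rw [Nat.ModEq, Nat.one_mod_eq_one.2 hp.out.ne_one, Nat.zero_mod] at this
    exact one_ne_zero this
  obtain ⟨⟨⟨_, f, hf, rfl⟩, hfx⟩⟩ := (Nat.card_ne_zero.1 h3).1
  exact ⟨f, hf, fun t ht => congrArg Subtype.val (hfx ⟨t, ht⟩)⟩

/-- An element normalising a pair and acting trivially on the axis modulo the common part acts as an
element of the member. -/
theorem IsPair.exists_elem {A f : Subgroup P} {S : Setup D F} (h : S.IsPair A f) {b : P}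
    (hbp : b ^ p = 1) (hbA : FFPMin.cj b A = A) (hbL : FFPMin.cj b (A ⊔ f) = A ⊔ f)
    (hbU : ∀ u ∈ fixP N A, b • u - u ∈ fixP N (A ⊔ f : Subgroup P)) :
    ∃ a ∈ A, ∀ n : N, b • n - a • n ∈ fixP N (A ⊔ f : Subgroup P) := by
  have hF := h.facts
  set C := fixP N (A ⊔ f : Subgroup P)
  have hzb : IsPGroup p (Subgroup.zpowers b) := by
    intro g
    obtain ⟨j, hj⟩ := Subgroup.mem_zpowers_iff.1 g.2
    refine ⟨1, Subtype.ext ?_⟩
    show (g : P) ^ (p ^ 1) = 1
    rw [← hj, pow_one, ← zpow_natCast, ← zpow_mul, mul_comm, zpow_mul, zpow_natCast, hbp, one_zpow]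
  have hUtop : fixP N A ≠ ⊤ := fun e => h.inA.mem.ne_bot ((Subgroup.eq_bot_iff_forall _).2 fun a ha =>
    D.faith a fun n => (e.ge (AddSubgroup.mem_top n)) a ha)
  obtain ⟨n0, hn0, hn0b⟩ := exists_fixed_mod hzb D.expN hUtop fun g hg n hn =>
    smul_mem_fixP_of_normalizes (mem_normalizer_iff_cj.1
      ((Subgroup.zpowers_le.2 (mem_normalizer_iff_cj.2 hbA)) hg)) hn
  obtain ⟨u, hu, y, hy, rfl⟩ := AddSubgroup.mem_sup.1 (hF.sup.ge (AddSubgroup.mem_top n0))
  have hyC : y ∉ C := fun e => hn0 (add_mem hu (fix_sup_eq.1 e).1)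
  have hby : b • y - y ∈ fixP N A := by
    have := sub_mem (hn0b b (Subgroup.mem_zpowers b)) (fix_sup_eq.1 (hbU u hu)).1
    convert this using 1
    rw [smul_add]; abel
  obtain ⟨a, ha, hay⟩ := hF.surjA y hy hyC _ hby
  refine ⟨a, ha, ?_⟩
  set k := a⁻¹ * b with hk
  have haL : a ∈ A ⊔ f := Subgroup.mem_sup_left ha
  have hkA : FFPMin.cj k A = A := by rw [hk, ← cj_cj, hbA, cj_eq_of_mem (inv_mem ha)]
  have hkL : FFPMin.cj k (A ⊔ f) = A ⊔ f := by rw [hk, ← cj_cj, hbL, cj_eq_of_mem (inv_mem haL)]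
  have hkC : ∀ c ∈ C, k • c ∈ C := fun c hc => smul_mem_fixP_of_normalizes hkL hc
  have hkU : ∀ u ∈ fixP N A, k • u - u ∈ C := by
    intro u hu
    obtain ⟨c, hc, e⟩ : ∃ c ∈ C, b • u = u + c := ⟨_, hbU u hu, by abel⟩
    rw [hk, mul_smul, e, smul_add, hu _ (inv_mem ha), hc _ (inv_mem haL), add_sub_cancel_left]
    exact hc
  have hky : k • y - y ∈ C := by
    have e : b • y = a • y - (a • y - y - (b • y - y)) := by abel
    rw [hk, mul_smul, e, smul_sub, inv_smul_smul, hay _ (inv_mem haL), sub_sub_cancel_left]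
    exact neg_mem hay
  have hkf : FFPMin.cj k f = f := by
    refine (h.eq_of_common h.outF.mem le_sup_right (h.outF.mem.cj k)
      ((cj_mono le_sup_right).trans hkL.le) hy ?_ hyC).symm
    have hkyf : k • y ∈ fixP N (FFPMin.cj k f) := smul_mem_fixP_cj hy
    have hCf : C ≤ fixP N (FFPMin.cj k f) := fixP_anti ((cj_mono le_sup_right).trans hkL.le)
    have := sub_mem hkyf (hCf hky)
    rwa [sub_sub_cancel] at this
  have hkinv : k⁻¹ • y - y ∈ C := by
    have := neg_mem (smul_mem_fixP_of_normalizes (g := k⁻¹)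
      (show FFPMin.cj k⁻¹ (A ⊔ f) = A ⊔ f by conv_lhs => rw [← hkL, cj_inv_cj]) hky)
    rwa [smul_sub, inv_smul_smul, neg_sub] at this
  have hcomm : ∀ a' ∈ A, k * a' = a' * k := by
    intro a' ha'
    have hkak : k * a' * k⁻¹ ∈ A := by
      have := conj_mem_cj (g := k) ha'
      rwa [hkA] at this
    set a'' := a'⁻¹ * (k * a' * k⁻¹)
    by_contra hne
    have h1 : (k * a' * k⁻¹) • y - y - (a' • y - y) ∈ C := by
      obtain ⟨c, hc, e⟩ : ∃ c ∈ C, k⁻¹ • y = y + c := ⟨_, hkinv, by abel⟩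
      obtain ⟨c2, hc2, e2⟩ : ∃ c ∈ C, k • (a' • y - y) = (a' • y - y) + c :=
        ⟨_, hkU _ ((h.inA.mem.isMin.quad D.expN) a' ha' y), by abel⟩
      have e3 : (k * a' * k⁻¹) • y - y = k • (a' • y - y) := by
        rw [mul_smul, mul_smul, e, smul_add, hc _ (Subgroup.mem_sup_left ha'), smul_add, smul_sub]
        have : k • y + k • c = y := by rw [← smul_add, ← e, smul_inv_smul]
        calc k • a' • y + k • c - y = k • a' • y + k • c - (k • y + k • c) := by rw [this]
          _ = k • a' • y - k • y := by abel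
      rw [e3, e2, add_sub_cancel_left]
      exact hc2
    rw [sub_sub_sub_cancel_right] at h1
    have h2 : a'' • y - y ∈ C := by
      have := h1 _ (inv_mem (Subgroup.mem_sup_left (T := f) ha'))
      rw [smul_sub, ← mul_smul, inv_smul_smul] at this
      rw [this]; exact h1
    exact hyC (hF.inj a'' (mul_mem (inv_mem ha') hkak) y hy h2 fun e =>
      hne (mul_inv_eq_iff_eq_mul.1 (inv_mul_eq_one.1 e).symm))
  intro n
  suffices k • n - n ∈ C by
    have e : b • n - a • n = a • (k • n - n) := by rw [smul_sub, hk, mul_smul, smul_inv_smul]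
    rw [e, this a haL]
    exact this
  obtain ⟨u2, hu2, y2, hy2, rfl⟩ := AddSubgroup.mem_sup.1 (hF.sup.ge (AddSubgroup.mem_top n))
  rw [smul_add, add_sub_add_comm]
  refine add_mem (hkU u2 hu2) ?_
  obtain ⟨a', ha', ha'1⟩ := (Subgroup.bot_or_exists_ne_one A).resolve_left h.inA.mem.ne_bot
  refine hF.inj a' ha' _ (sub_mem (smul_mem_fixP_of_normalizes hkf hy2) hy2) ?_ ha'1
  have e : a' • (k • y2 - y2) - (k • y2 - y2) = k • (a' • y2 - y2) - (a' • y2 - y2) := by
    rw [smul_sub, smul_sub, ← mul_smul, ← hcomm a' ha', mul_smul]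
    abel
  rw [e]
  exact hkU _ ((h.inA.mem.isMin.quad D.expN) a' ha' y2)

theorem IsPair.axis_move {A f : Subgroup P} {S : Setup D F} (h : S.IsPair A f) :
    fixP N A ≤ moveP N A ⊔ fixP N (A ⊔ f : Subgroup P) := by
  intro u hu
  obtain ⟨s, hs, hsC⟩ := h.facts.exists_notC h.inA.mem h.outF.mem
  obtain ⟨a, ha, e⟩ := h.facts.surjA s hs hsC u hu
  rw [← sub_sub_cancel (a • s - s) u]
  exact sub_mem (AddSubgroup.mem_sup_left (move_mem ha s)) (AddSubgroup.mem_sup_right e)

/-- The members in the Sylow subgroup: the common ones and one more. -/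
theorem mem_T {d : Subgroup P} (hd : F.Mem d) (hdT : d ≤ (D.T : Subgroup P)) : d ≤ S.K ∨ d = S.A := by
  set K' := S.K ⊔ S.A with hK'
  have hK'T : K' ≤ (D.T : Subgroup P) := sup_le S.KT S.AT
  have hsmall : ∀ c, F.Mem c → c ≤ K' → c ≤ S.K ∨ c = S.A := by
    intro c hc hcK
    refine (em (c ≤ S.K)).imp_right fun hne => ?_
    exact S.eq_of_le_T ⟨hc, hcK.trans (sup_le Subgroup.le_normalizer S.AN), hne, hcK.trans (hK'T.trans D.le)⟩
      (hcK.trans hK'T)
  by_contra hno
  have hdK' : ¬ d ≤ K' := fun e => hno (hsmall d hd e)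
  obtain ⟨B, ⟨hB, hBT⟩, hBK, hBN⟩ := exists_normalizing D.T.isPGroup' hK'T
    {c | F.Mem c ∧ c ≤ (D.T : Subgroup P)}
    ⟨{c | F.Mem c ∧ c ≤ K'}, fun c hc => ⟨hc.1, hc.2.trans hK'T⟩, le_antisymm (sSup_le fun c hc => hc.2)
      (sup_le (S.gen.ge.trans (sSup_le_sSup fun c hc => ⟨hc.1, hc.2.trans le_sup_left⟩))
        (le_sSup ⟨S.memA, le_sup_right⟩))⟩
    (fun t ht c hc => ⟨hc.1.cj t, (cj_mono hc.2).trans (cj_eq_of_mem ht).le⟩) (fun c hc => hc.2)
    ⟨d, ⟨hd, hdT⟩, hdK'⟩
  have hperm : ∀ β ∈ B, ∀ c, F.Mem c → c ≤ K' → FFPMin.cj β c ≤ K' := fun β hβ c _ hc =>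
    (cj_mono hc).trans (mem_normalizer_iff_cj.1 (hBN hβ)).le
  have hstab : ∀ β ∈ B, FFPMin.cj β S.A = S.A → β ∈ S.G0 := by
    intro β hβ e
    refine mem_normalizer_iff_cj.2 (Subgroup.eq_of_le_of_card_ge ?_ (card_cj β S.K).ge)
    rw [cj_le_iff]
    conv_lhs => rw [← S.gen]
    refine sSup_le fun c hc => cj_le_iff.1 ?_
    refine (hsmall _ (hc.1.cj β) (hperm β hβ c hc.1 (hc.2.trans le_sup_left))).resolve_right fun h => S.AK ?_
    rw [cj_injective β (e.trans h.symm)]
    exact hc.2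
  have hfix : ∀ β ∈ B, β ∈ S.G0 → FFPMin.cj β S.A = S.A := fun β hβ h => S.A_cj_S1 ⟨hBT hβ, h⟩
  have hBG : ¬ B ≤ S.G0 := fun h => hBK ((S.eq_of_le_T ⟨hB, h, fun e => hBK (e.trans le_sup_left),
    hBT.trans D.le⟩ hBT).le.trans le_sup_right)
  obtain ⟨f, hf, hfx⟩ := S.exists_fixed_pair
  have hpair := S.inA.isPair hf
  set C := fixP N (S.A ⊔ f : Subgroup P)
  obtain ⟨z, hz, hzC⟩ : ∃ z ∈ moveP N S.A, z ∉ C := by
    obtain ⟨a, ha, ha1⟩ := (Subgroup.bot_or_exists_ne_one S.A).resolve_left S.memA.ne_bot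
    obtain ⟨s, hs, hsC⟩ := hpair.facts.exists_notC S.memA hf.mem
    exact ⟨_, move_mem ha s, fun e => hsC (hpair.facts.inj a ha s hs e ha1)⟩
  have hmove : ∀ β ∈ B, β ∉ S.G0 → ∀ m ∈ moveP N S.A, β • m ∈ C := by
    intro β hβ hβG m hm
    have hle : FFPMin.cj β S.A ≤ S.K :=
      (hsmall _ (S.memA.cj β) (hperm β hβ _ S.memA le_sup_right)).resolve_right fun h => hβG (hstab β hβ h)
    exact hpair.centralises_K.1 (moveP_mono hle (smul_mem_moveP_cj hm))
  have hquad : ∀ γ ∈ B, ∀ β ∈ B, ∀ m : N, γ • (β • m - m) = β • m - m := fun γ hγ β hβ m =>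
    (hB.isMin.quad D.expN) β hβ m γ hγ
  have hprod : ∀ γ ∈ B, ∀ β ∈ B, γ ∉ S.G0 → β ∉ S.G0 → γ * β ∈ S.G0 := by
    intro γ hγ β hβ hγG hβG
    by_contra h
    refine hzC ?_
    have e := hquad γ hγ β hβ z
    rw [smul_sub, ← mul_smul, sub_eq_iff_eq_add] at e
    have h1 := hmove _ (mul_mem hγ hβ) h z hz
    rw [e] at h1
    have := sub_mem (add_mem (hmove γ hγ hγG z hz) (hmove β hβ hβG z hz)) h1
    convert this using 1
    abel
  obtain ⟨β, hβ, hβG⟩ := SetLike.not_le_iff_exists.1 hBG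
  have hp2 : p = 2 := by
    by_contra hne
    obtain ⟨j, hj⟩ := hp.out.odd_of_ne_two hne
    refine hβG ?_
    have e : (β * β) ^ (j + 1) = β := by
      rw [← pow_two, ← pow_mul, show 2 * (j + 1) = p + 1 by omega, pow_succ, hB.pow_eq hβ, one_mul]
    rw [← e]
    exact pow_mem (hprod β hβ β hβ hβG hβG) _
  obtain ⟨b, hb, hb1, hbG⟩ : ∃ b ∈ B, b ≠ 1 ∧ b ∈ S.G0 := by
    obtain ⟨c, hc, hc1, hcβ⟩ : ∃ c ∈ B, c ≠ 1 ∧ c ≠ β := by
      by_contra h
      push Not at h
      have : Nat.card B ≤ 2 := by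
        refine (Set.ncard_le_ncard (show (B : Set P) ⊆ {1, β} from fun c hc => ?_) (Set.toFinite _)).trans
          ((Set.ncard_insert_le _ _).trans (by rw [Set.ncard_singleton]))
        rcases eq_or_ne c 1 with rfl | h1
        · exact Or.inl rfl
        · exact Or.inr (h c hc h1)
      have := hB.three
      omega
    by_cases hcG : c ∈ S.G0
    · exact ⟨c, hc, hc1, hcG⟩
    refine ⟨c * β, mul_mem hc hβ, fun e => hcβ ?_, hprod c hc β hβ hcG hβG⟩
    have hββ : β * β = 1 := by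
      have := hB.pow_eq hβ
      rwa [hp2, pow_two] at this
    rw [eq_inv_of_mul_eq_one_left e]
    exact inv_eq_of_mul_eq_one_right hββ
  have hbA := hfix b hb hbG
  have hbL := hfx b ⟨hBT hb, hbG⟩
  have hbmove : ∀ m ∈ moveP N S.A, b • m - m ∈ C := by
    intro m hm
    have h1 : b • m - m ∈ moveP N S.A := sub_mem (by
      have := smul_mem_moveP_cj (g := b) hm
      rwa [hbA] at this) hm
    have := hmove β hβ hβG _ h1
    rwa [hquad β hβ b hb] at this
  obtain ⟨a, ha, hba⟩ := hpair.exists_elem (hB.pow_eq hb) hbA hbL fun u hu => by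
    obtain ⟨m, hm, c, hc, rfl⟩ := AddSubgroup.mem_sup.1 (hpair.axis_move hu)
    rw [smul_add, add_sub_add_comm]
    exact add_mem (hbmove m hm) (sub_mem (smul_mem_fixP_of_normalizes hbL hc) hc)
  have hbfix : ∀ m ∈ moveP N S.A, b • m = m := by
    intro m hm
    have hle : moveP N S.A ≤ fixP N (Subgroup.zpowers b) := by
      refine moveP_le.2 fun a' ha' n g hg => ?_
      refine (Subgroup.zpowers_le.2 (show b ∈ MulAction.stabilizer P (a' • n - n) from ?_)) hg
      show b • (a' • n - n) = a' • n - n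
      have hba' : b * a' * b⁻¹ ∈ S.A := by
        have := conj_mem_cj (g := b) ha'
        rwa [hbA] at this
      have key : ∀ x ∈ S.A, x • (b • n) - b • n = a • (x • n - n) := fun x hx => by
        obtain ⟨c, hc, e⟩ : ∃ c ∈ C, b • n = a • n + c := ⟨_, hba n, by abel⟩
        rw [e, smul_add, hc _ (Subgroup.mem_sup_left hx), add_sub_add_right_eq_sub, smul_sub, ← mul_smul,
          ← mul_smul, S.memA.isMin.comm x hx a ha]
      have e1 : b • (a' • n - n) = (b * a' * b⁻¹) • (b • n) - b • n := by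
        rw [mul_smul, mul_smul, inv_smul_smul, smul_sub]
      rw [e1, key _ hba']
      have h2 := S.memA.isMin.quad D.expN _ hba' n a ha
      rw [h2]
      -- the conjugate agrees with the element
      by_contra hne
      have : b * a' * b⁻¹ = a' := by
        obtain ⟨s, hs, hsC⟩ := hpair.facts.exists_notC S.memA hf.mem
        obtain ⟨c, hc, e⟩ : ∃ c ∈ C, b • s = a • s + c := ⟨_, hba s, by abel⟩
        have hL1 : b • (a' • s - s) - (a' • s - s) ∈ C := hbmove _ (move_mem ha' s)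
        have hR : b • (a' • s - s) = (b * a' * b⁻¹) • s - s := by
          rw [smul_sub, show b • a' • s = (b * a' * b⁻¹) • (b • s) by rw [mul_smul, mul_smul, inv_smul_smul],
            e, smul_add, hc _ (Subgroup.mem_sup_left hba'), add_sub_add_right_eq_sub, ← mul_smul,
            S.memA.isMin.comm _ hba' a ha, mul_smul, ← smul_sub]
          exact S.memA.isMin.quad D.expN _ hba' s a ha
        rw [hR, sub_sub_sub_cancel_right] at hL1
        by_contra hne'
        refine hsC (hpair.facts.inj (a'⁻¹ * (b * a' * b⁻¹)) (mul_mem (inv_mem ha') hba') s hs ?_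
          fun e' => hne' (inv_mul_eq_one.1 e').symm)
        have h3 := hL1 _ (inv_mem (Subgroup.mem_sup_left (T := f) ha'))
        rw [smul_sub, ← mul_smul, inv_smul_smul] at h3
        rw [h3]; exact hL1
      exact hne (by rw [this])
    exact hle hm b (Subgroup.mem_zpowers b)
  have hzB : z ∈ fixP N B := semireg S hB hb hb1 (hbfix z hz)
  exact hzC (hzB β hβ ▸ hmove β hβ hβG z hz)

/-- The commutator of the member meets the common part of a fixed pair trivially. -/
theorem move_inf_eq_bot {f : Subgroup P} (hf : S.Out f)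
    (hfx : ∀ t ∈ (D.T : Subgroup P) ⊓ S.G0, FFPMin.cj t (S.A ⊔ f) = S.A ⊔ f) :
    moveP N S.A ⊓ fixP N (S.A ⊔ f : Subgroup P) = ⊥ := by
  rw [eq_bot_iff]
  rintro c ⟨hcA, hcC⟩
  rw [AddSubgroup.mem_bot]
  have hpair := S.inA.isPair hf
  have hstab : ∀ t ∈ (D.T : Subgroup P), c ∈ fixP N (FFPMin.cj t (S.A ⊔ f)) := by
    intro t ht
    by_cases htG : t ∈ S.G0
    · rw [hfx t ⟨ht, htG⟩]; exact hcC
    obtain ⟨d, hd, hdK⟩ : ∃ d, (F.Mem d ∧ d ≤ S.K) ∧ ¬ FFPMin.cj t d ≤ S.K := by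
      by_contra hno
      push Not at hno
      refine htG (mem_normalizer_iff_cj.2 (Subgroup.eq_of_le_of_card_ge ?_ (card_cj t S.K).ge))
      rw [cj_le_iff]
      conv_lhs => rw [← S.gen]
      exact sSup_le fun d hd => cj_le_iff.1 (hno d hd)
    have e := (S.mem_T (hd.1.cj t) ((cj_mono (hd.2.trans S.KT)).trans (cj_eq_of_mem ht).le)).resolve_left hdK
    rw [mem_fixP_cj]
    refine hpair.centralises_K.1 (moveP_mono hd.2 ?_)
    have := smul_mem_moveP_cj (g := t⁻¹) hcA
    rwa [← e, cj_inv_cj] at this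
  set Y := ⨆ t : ↥(D.T : Subgroup P), FFPMin.cj (t : P) (S.A ⊔ f)
  have hYfix : c ∈ fixP N Y := by
    rw [fixP_iSup, AddSubgroup.mem_iInf]
    exact fun t => hstab t t.2
  have hYM : ¬ Y ≤ D.M := fun e => hf.notM (le_trans (le_sup_right.trans
    (le_of_eq (cj_one _).symm)) ((le_iSup (fun t : ↥(D.T : Subgroup P) => FFPMin.cj (t : P) (S.A ⊔ f)) 1).trans e))
  have hYn : Y.Normal := by
    refine Subgroup.normalizer_eq_top_iff.1 ?_
    by_contra hne
    refine hYM (Subgroup.le_normalizer.trans (D.le_M hne fun s hs => mem_normalizer_iff_cj.2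
      (Subgroup.eq_of_le_of_card_ge ?_ (card_cj s Y).ge)))
    rw [FFPMin.cj, Subgroup.map_iSup]
    exact iSup_le fun t => le_trans (cj_cj s (t : P) _).le
      (le_iSup (fun t : ↥(D.T : Subgroup P) => FFPMin.cj (t : P) (S.A ⊔ f)) ⟨s * t, mul_mem hs t.2⟩)
  exact D.cfix c fun g hg => hYfix g (D.residual_le_of_normal hYn hYM hg)

/-- The commutator of the member lies in the span of the translates. -/
theorem move_le_span : moveP N S.A ≤ AddSubgroup.closure {z | IsTr D z} := by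
  obtain ⟨f, hf, hfx⟩ := S.exists_fixed_pair
  have hpair := S.inA.isPair hf
  have hI := S.move_inf_eq_bot hf hfx
  set C := fixP N (S.A ⊔ f : Subgroup P)
  set Y := AddSubgroup.closure {z | IsTr D z} ⊓ moveP N S.A
  have hQ := S.memA.isMin.quad D.expN
  have hmA : moveP N S.A ≤ fixP N S.A := moveP_le.2 fun a ha n => hQ a ha n
  obtain ⟨z, hz⟩ := exists_isTr (D := D)
  have hzA := S.inA.fix_tr hz
  have key : ∀ y ∈ fixP N S.A, y + z ∉ C → y ∈ Y ⊔ C := by
    intro y hy hne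
    obtain ⟨l, hl, hlM, hlz⟩ := hpair.transitive hz (add_mem hy hzA) hne
    have h1 : l • z - z ∈ Y := by
      refine AddSubgroup.mem_inf.2
        ⟨sub_mem (AddSubgroup.subset_closure (hz.smul hlM)) (AddSubgroup.subset_closure hz), ?_⟩
      obtain ⟨s, hs, c, hc, e⟩ := AddSubgroup.mem_sup.1 (hpair.axis_move hzA)
      rw [← e, smul_add, hc l hl, add_sub_add_right_eq_sub]
      refine sub_mem ?_ hs
      have := smul_mem_moveP_cj (g := l) hs
      rwa [hpair.normalises hl hlM] at this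
    have := sub_mem (AddSubgroup.mem_sup_left (T := C) h1) (AddSubgroup.mem_sup_right (S := Y) hlz)
    convert this using 1
    abel
  have hall : ∀ y ∈ fixP N S.A, y ∈ Y ⊔ C := by
    intro y hy
    by_cases hne : y + z ∈ C
    swap
    · exact key y hy hne
    obtain ⟨y1, hy1, hy1C, hy1z⟩ : ∃ y1 ∈ fixP N S.A, y1 + z ∉ C ∧ y1 ∉ C := by
      by_contra h
      push Not at h
      have hc := hpair.facts.card
      let φ : fixP N S.A ⧸ C.addSubgroupOf (fixP N S.A) → Bool := fun q =>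
        decide (q = 0)
      have hφ : Function.Injective φ := by
        intro q1 q2 e
        obtain ⟨⟨v1, hv1⟩, rfl⟩ := QuotientAddGroup.mk'_surjective _ q1
        obtain ⟨⟨v2, hv2⟩, rfl⟩ := QuotientAddGroup.mk'_surjective _ q2
        simp only [φ, decide_eq_decide] at e
        by_cases h1 : v1 ∈ C
        · have h1' : (QuotientAddGroup.mk' (C.addSubgroupOf (fixP N S.A))) ⟨v1, hv1⟩ = 0 :=
            (QuotientAddGroup.eq_zero_iff _).2 h1
          rw [h1', e.1 h1']
        · have h2 : v2 ∉ C := fun h2 => h1 ((QuotientAddGroup.eq_zero_iff (⟨v1, hv1⟩ : fixP N S.A)).1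
            (e.2 ((QuotientAddGroup.eq_zero_iff (⟨v2, hv2⟩ : fixP N S.A)).2 h2)))
          refine QuotientAddGroup.eq.2 ?_
          have e1 : v1 + z ∈ C := by_contra fun hh => h1 (h v1 hv1 hh)
          have e2 : v2 + z ∈ C := by_contra fun hh => h2 (h v2 hv2 hh)
          show -v1 + v2 ∈ C
          have := sub_mem e2 e1
          rwa [show v2 + z - (v1 + z) = -v1 + v2 by abel] at this
      have h2 := Nat.card_le_card_of_injective φ hφ
      rw [Nat.card_eq_fintype_card (α := Bool), Fintype.card_bool] at h2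
      have h3 := AddSubgroup.card_eq_card_quotient_mul_card_addSubgroup (C.addSubgroupOf (fixP N S.A))
      rw [Nat.card_congr (AddSubgroup.addSubgroupOfEquivOfLe (fixP_anti le_sup_left)).toEquiv, ← hc] at h3
      have h4 := Nat.eq_of_mul_eq_mul_right (Nat.card_pos (α := C)) h3
      have := S.memA.three
      omega
    have h2 : y - y1 ∈ Y ⊔ C := key _ (sub_mem hy hy1) fun e => hy1z (by
      have := sub_mem hne e
      rwa [show y + z - (y - y1 + z) = y1 by abel] at this)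
    have := add_mem h2 (key y1 hy1 hy1C)
    rwa [sub_add_cancel] at this
  intro m hm
  obtain ⟨s, hs, c, hc, rfl⟩ := AddSubgroup.mem_sup.1 (hall m (hmA hm))
  have hc0 : c = 0 := by
    have : c ∈ moveP N S.A ⊓ C := ⟨by simpa using sub_mem hm hs.2, hc⟩
    rwa [hI, AddSubgroup.mem_bot] at this
  rw [hc0, add_zero]
  exact hs.1

/-- The member inside is unique. -/
theorem In.eq_A {S : Setup D F} {d : Subgroup P} (hd : S.In d) : d = S.A := by
  set H := D.M ⊓ S.G0
  set S1 := (D.T : Subgroup P) ⊓ S.G0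
  have hS1H : S1 ≤ H := le_inf (inf_le_left.trans D.le) inf_le_right
  let SS : Sylow p H :=
    { toSubgroup := S1.subgroupOf H
      isPGroup' := S.pgroup_S1.comap_of_injective _ Subtype.val_injective
      is_maximal' := fun {Q} hQ hle => by
        have e := S.sylow (Q.map H.subtype) (hQ.map _) (Subgroup.map_subtype_le _)
          (by
            intro t ht
            exact ⟨⟨t, hS1H ht⟩, hle ht, rfl⟩)
        refine le_antisymm (fun q hq => ?_) hle
        exact (e.le ⟨q, hq, rfl⟩ : (q : P) ∈ S1) }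
  obtain ⟨R, hR⟩ := (hd.isPGroup_sup.comap_of_injective H.subtype Subtype.val_injective).exists_le_sylow
  obtain ⟨m, hm⟩ := MulAction.exists_smul_eq H SS R
  have hdm : FFPMin.cj (m : P)⁻¹ d ≤ S1 := by
    rintro _ ⟨a, ha, rfl⟩
    have h1 : (⟨a, hd.leM ha, hd.le0 ha⟩ : H) ∈ (R : Subgroup H) := hR (Subgroup.mem_sup_right (S := S.K) ha)
    rw [← hm, Sylow.coe_subgroup_smul, Subgroup.mem_smul_pointwise_iff_exists] at h1
    obtain ⟨t, ht, e⟩ := h1
    have e' : (m : P) * t * (m : P)⁻¹ = a := congrArg Subtype.val e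
    show (m : P)⁻¹ * a * (m : P)⁻¹⁻¹ ∈ S1
    rw [← e', show (m : P)⁻¹ * ((m : P) * t * (m : P)⁻¹) * (m : P)⁻¹⁻¹ = t by group]
    exact ht
  have hdA : FFPMin.cj (m : P)⁻¹ d = S.A :=
    S.eq_of_le_T (hd.cj (inv_mem m.2.2) (inv_mem m.2.1)) (hdm.trans inf_le_left)
  have hd' : d = FFPMin.cj (m : P) S.A := by rw [← hdA, cj_cj_inv]
  have hspan : moveP N d ≤ AddSubgroup.closure {z | IsTr D z} := by
    intro y hy
    have h1 : (m : P)⁻¹ • y ∈ AddSubgroup.closure {z | IsTr D z} := by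
      refine S.move_le_span ?_
      have := smul_mem_moveP_cj (g := (m : P)⁻¹) hy
      rwa [hdA] at this
    have h2 : AddSubgroup.closure {z | IsTr D z} ≤
        (AddSubgroup.closure {z | IsTr D z}).comap (DistribSMul.toAddMonoidHom N (m : P)) :=
      (AddSubgroup.closure_le _).2 fun z hz => AddSubgroup.subset_closure (hz.smul m.2.1)
    have := h2 h1
    rwa [AddSubgroup.mem_comap, DistribSMul.toAddMonoidHom_apply, smul_inv_smul] at this
  have hcomm : ∀ a ∈ S.A, ∀ b ∈ d, a * b = b * a := by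
    intro a ha b hb
    have h1 : ∀ n : N, a • (b • n - n) = b • n - n := fun n =>
      ((AddSubgroup.closure_le _).2 (fun z hz => S.inA.fix_tr hz) (hspan (move_mem hb n)) : _ ∈ fixP N S.A) a ha
    have h2 : ∀ n : N, b • (a • n - n) = a • n - n := fun n =>
      ((AddSubgroup.closure_le _).2 (fun z hz => hd.fix_tr hz) (S.move_le_span (move_mem ha n)) : _ ∈ fixP N d) b hb
    refine inv_mul_eq_one.1 (D.faith _ fun n => ?_)
    rw [mul_smul, inv_smul_eq_iff, mul_smul, mul_smul]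
    have e1 := h1 n
    have e2 := h2 n
    rw [smul_sub, sub_eq_iff_eq_add] at e1 e2
    rw [e1, e2]
    abel
  have hn : d ≤ Subgroup.normalizer ((S.K ⊔ S.A : Subgroup P) : Set P) := by
    intro b hb
    rw [mem_normalizer_iff_cj, cj_sup, cj_K (hd.le0 hb)]
    congr 1
    refine Subgroup.eq_of_le_of_card_ge ?_ (card_cj b S.A).ge
    rintro _ ⟨a, ha, rfl⟩
    show b * a * b⁻¹ ∈ S.A
    rwa [← hcomm a ha b hb, mul_inv_cancel_right]
  exact key' (S.inA.isPGroup_sup.to_sup_of_normal_left' hd.mem.isPGroup hn) (le_sup_left.trans le_sup_left)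
    hd S.inA le_sup_right (le_sup_right.trans le_sup_left)

/-- The pair is unique. -/
theorem Out.sup_eq {S : Setup D F} {f f' : Subgroup P} (hf : S.Out f) (hf' : S.Out f') :
    S.A ⊔ f = S.A ⊔ f' := by
  have h1 : {d | S.In d} = {S.A} := Set.ext fun d => ⟨fun h => h.eq_A, fun h => h ▸ S.inA⟩
  have h2 := S.card_pairs
  rw [h1, Set.ncard_singleton, Set.ncard_eq_one] at h2
  obtain ⟨L, hL⟩ := h2
  have e1 : S.A ⊔ f ∈ S.pairs := ⟨f, hf, rfl⟩
  have e2 : S.A ⊔ f' ∈ S.pairs := ⟨f', hf', rfl⟩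
  rw [hL] at e1 e2
  exact e1.trans e2.symm

/-- The normaliser of the common part normalises the pair. -/
theorem cj_pair {S : Setup D F} {f : Subgroup P} (hf : S.Out f) {g : P} (hg : g ∈ S.G0) :
    FFPMin.cj g (S.A ⊔ f) = S.A ⊔ f := by
  refine Subgroup.eq_of_le_of_card_ge ?_ (card_cj g _).ge
  have key : ∀ c, S.In c ∨ S.Out c → c ≤ S.A ⊔ f := by
    rintro c (h | h)
    · exact h.eq_A.le.trans le_sup_left
    · exact le_sup_right.trans (h.sup_eq hf).le
  rw [cj_sup]
  refine sup_le (key _ (S.inA.cj_cases hg)) (key _ ?_)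
  by_cases hM : FFPMin.cj g f ≤ D.M
  · exact Or.inl ⟨hf.mem.cj g, cj_le_G0 hg hf.le0, cj_notK hg hf.notK, hM⟩
  · exact Or.inr ⟨hf.mem.cj g, cj_le_G0 hg hf.le0, hM⟩

end Setup

end CfsgLib.LocalEven.FFPMin
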